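/-
Siegel and root elements in an overgroup of a tensor product of two special unitary groups.
-/
import Cfsg.Agent.Lib.Geo.TensorLinearFinal
import Cfsg.Agent.Lib.Classical.Unitary.Transvection

set_option autoImplicit false
set_option linter.unusedSectionVars false

namespace CfsgLib.Geo.UnitTensor

open Matrix TensorLinear CfsgLib.Classical CfsgLib.Classical.Herm
open scoped Kronecker

variable {α β : Type} [Fintype α] [DecidableEq α] [Fintype β] [DecidableEq β] {F : Type*} [Field F] {σ : F →+* F}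

/-- The coefficient vector of the functional of a vector. -/
def phi (g : (β → F) →ₛₗ[σ] (β → F) →ₗ[F] F) (w : β → F) : β → F := fun j => g w (Pi.single j 1)

/-- The contraction with the functional of a vector. -/
def cg (α : Type) [DecidableEq α] (g : (β → F) →ₛₗ[σ] (β → F) →ₗ[F] F) (w : β → F) : Matrix α (α × β) F :=
  con α (phi g w)

variable {g : (β → F) →ₛₗ[σ] (β → F) →ₗ[F] F}

theorem phi_dot (w x : β → F) : phi g w ⬝ᵥ x = g w x := by
  conv_rhs => rw [pi_eq_sum_univ' x]
  rw [map_sum]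
  exact Finset.sum_congr rfl fun j _ => by rw [smul_right, phi, mul_comm]

theorem phi_add (w z : β → F) : phi g (w + z) = phi g w + phi g z := by
  funext j; simp [phi]

theorem phi_smul (c : F) (w : β → F) : phi g (c • w) = σ c • phi g w := by
  funext j; simp [phi, smul_left]

omit [Fintype α] [Fintype β] [DecidableEq β] in
theorem con_add (φ ψ : β → F) : (con α (φ + ψ) : Matrix α (α × β) F) = con α φ + con α ψ := by
  ext i p; simp [con]; split_ifs <;> simp

omit [Fintype α] [Fintype β] [DecidableEq β] in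
theorem con_smul (c : F) (φ : β → F) : (con α (c • φ) : Matrix α (α × β) F) = c • con α φ := by
  ext i p; simp [con]

omit [Fintype α] [Fintype β] [DecidableEq β] in
theorem emb_add (v w : β → F) : (emb α (v + w) : Matrix (α × β) α F) = emb α v + emb α w := by
  ext p i; simp [emb]; split_ifs <;> simp

omit [Fintype α] [Fintype β] [DecidableEq β] in
theorem emb_smul (c : F) (v : β → F) : (emb α (c • v) : Matrix (α × β) α F) = c • emb α v := by
  ext p i; simp [emb]

omit [Fintype α] [Fintype β] [DecidableEq β] in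
theorem emb_zero : (emb α (0 : β → F) : Matrix (α × β) α F) = 0 := by
  ext p i; simp [emb]

theorem cg_add (w z : β → F) : cg α g (w + z) = cg α g w + cg α g z := by
  rw [cg, phi_add, con_add]; rfl

theorem cg_smul (c : F) (w : β → F) : cg α g (c • w) = σ c • cg α g w := by
  rw [cg, phi_smul, con_smul]; rfl

theorem cg_mul_emb (w y : β → F) : cg α g w * emb α y = g w y • (1 : Matrix α α F) := by
  rw [cg, con_mul_emb, phi_dot]

theorem cg_emb_zero {w y : β → F} (h : g w y = 0) : cg α g w * emb α y = 0 := by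
  rw [cg_mul_emb, h, zero_smul]

theorem cg_pt (w y : β → F) (a : α → F) : cg α g w *ᵥ pt a y = g w y • a := by
  rw [cg, con_pt, phi_dot]

theorem emb_mulVec_eq_zero {w : β → F} (hw : w ≠ 0) {a : α → F} (h : emb α w *ᵥ a = 0) : a = 0 := by
  rw [emb_mulVec] at h
  refine pt_injective hw ?_
  show pt a w = pt 0 w
  rw [h]; funext p; simp [pt]

/-- The context: an isometry group of a tensor product of forms containing the tensor product of the special
unitary groups. -/
structure Ctx (f : (α → F) →ₛₗ[σ] (α → F) →ₗ[F] F) (g : (β → F) →ₛₗ[σ] (β → F) →ₗ[F] F)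
    (H : (α × β → F) →ₛₗ[σ] (α × β → F) →ₗ[F] F) (X : Subgroup (GL (α × β) F)) : Prop where
  hf : IsHerm f
  hg : IsHerm g
  hH : IsHerm H
  tens : ∀ a w z, H (pt a w) z = f a (cg α g w *ᵥ z)
  iso : ∀ x ∈ X, ∀ y z, H ((x : Matrix (α × β) (α × β) F) *ᵥ y) ((x : Matrix (α × β) (α × β) F) *ᵥ z) = H y z
  base : ∀ (a : Matrix α α F) (b : Matrix β β F), (∀ u v, f (a *ᵥ u) (a *ᵥ v) = f u v) →
    (∀ u v, g (b *ᵥ u) (b *ᵥ v) = g u v) → a.det = 1 → b.det = 1 →
    ∃ x ∈ X, ((x : GL (α × β) F) : Matrix (α × β) (α × β) F) = a ⊗ₖ b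
  two : 2 ≤ Fintype.card α
  lt : Fintype.card α < Fintype.card β
  big : 4 ≤ Fintype.card β

/-- The root element `1 + θ ⊗ w φ_w` lies in `X`. -/
def Root (g : (β → F) →ₛₗ[σ] (β → F) →ₗ[F] F) (X : Subgroup (GL (α × β) F)) (w : β → F) (θ : Matrix α α F) :
    Prop :=
  ∃ x ∈ X, ((x : GL (α × β) F) : Matrix (α × β) (α × β) F) = 1 + emb α w * θ * cg α g w

/-- Some root element has a non-scalar coefficient. -/
def Good (g : (β → F) →ₛₗ[σ] (β → F) →ₗ[F] F) (X : Subgroup (GL (α × β) F)) : Prop :=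
  ∃ (w : β → F) (θ : Matrix α α F), w ≠ 0 ∧ g w w = 0 ∧ Root g X w θ ∧ ∀ c : F, θ ≠ c • 1

/-- A Kronecker product. -/
def Kr (x : GL (α × β) F) : Prop :=
  ∃ (A : GL α F) (B : GL β F), (x : Matrix (α × β) (α × β) F) = (A : Matrix α α F) ⊗ₖ (B : Matrix β β F)

theorem Kr.mul {x y : GL (α × β) F} (hx : Kr x) (hy : Kr y) : Kr (x * y) := by
  obtain ⟨A, B, hx⟩ := hx
  obtain ⟨C, D, hy⟩ := hy
  exact ⟨A * C, B * D, by rw [Units.val_mul, hx, hy, Units.val_mul, Units.val_mul, Matrix.mul_kronecker_mul]⟩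

theorem Kr.inv {x : GL (α × β) F} (hx : Kr x) : Kr x⁻¹ := by
  obtain ⟨A, B, hx⟩ := hx
  refine ⟨A⁻¹, B⁻¹, Units.inv_eq_of_mul_eq_one_right ?_⟩
  rw [hx, ← Matrix.mul_kronecker_mul, ← Units.val_mul, ← Units.val_mul, mul_inv_cancel, mul_inv_cancel,
    Units.val_one, Units.val_one, Matrix.one_kronecker_one]

/-- A matrix is unipotent of class two: its determinant is one. -/
theorem det_one_add_sqzero [Finite F] {ι : Type} [Fintype ι] [DecidableEq ι] {N : Matrix ι ι F} (h : N * N = 0) :
    (1 + N).det = 1 := by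
  obtain ⟨p, hp⟩ := CharP.exists F
  have hpr : p.Prime := (CharP.char_is_prime_or_zero F p).resolve_right (CharP.char_ne_zero_of_finite F p)
  have : Fact p.Prime := ⟨hpr⟩
  have : ExpChar F p := ExpChar.prime hpr
  have hn : ∀ n : ℕ, (1 + N) ^ n = 1 + (n : F) • N := by
    intro n
    induction n with
    | zero => simp
    | succ n ih =>
      rw [pow_succ, ih, add_mul, mul_add, mul_add, smul_mul_assoc, smul_mul_assoc, h, smul_zero, one_mul, one_mul,
        mul_one, add_zero, Nat.cast_succ, add_smul, one_smul]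
      abel
  have h1 : (1 + N).det ^ p = 1 := by rw [← Matrix.det_pow, hn, CharP.cast_eq_zero, zero_smul, add_zero, Matrix.det_one]
  refine frobenius_inj F p ?_
  rw [frobenius_def, frobenius_def, one_pow, h1]

namespace Ctx

variable {f : (α → F) →ₛₗ[σ] (α → F) →ₗ[F] F} {H : (α × β → F) →ₛₗ[σ] (α × β → F) →ₗ[F] F}
  {X : Subgroup (GL (α × β) F)} (K : Ctx f g H X)
include K

theorem three : 3 ≤ Fintype.card β := by have := K.two; have := K.lt; omega

theorem four : 4 ≤ Fintype.card β := K.big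


theorem tens' (a : α → F) (w : β → F) (z : α × β → F) : H z (pt a w) = f (cg α g w *ᵥ z) a := by
  rw [← K.hH.symm, K.tens, K.hf.symm]

theorem pt_pt (a b : α → F) (w y : β → F) : H (pt a w) (pt b y) = g w y * f a b := by
  rw [K.tens, cg_pt, smul_right]

theorem f_ext {u v : α → F} (h : ∀ a, f a u = f a v) : u = v := by
  rw [← sub_eq_zero]
  refine K.hf.nondeg _ fun a => ?_
  rw [← K.hf.symm, map_sub, h a, sub_self, map_zero]

theorem H_ext {u v : α × β → F} (h : ∀ z, H z u = H z v) : u = v := by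
  rw [← sub_eq_zero]
  refine K.hH.nondeg _ fun a => ?_
  rw [← K.hH.symm, map_sub, h a, sub_self, map_zero]

theorem iso_right {x : GL (α × β) F} (hx : x ∈ X) (y z : α × β → F) :
    H ((x : Matrix (α × β) (α × β) F) *ᵥ y) z = H y (((x⁻¹ : GL (α × β) F) : Matrix (α × β) (α × β) F) *ᵥ z) := by
  conv_lhs => rw [show z = (x : Matrix (α × β) (α × β) F) *ᵥ
    (((x⁻¹ : GL (α × β) F) : Matrix (α × β) (α × β) F) *ᵥ z) by
      rw [Matrix.mulVec_mulVec, Units.mul_inv, Matrix.one_mulVec]]
  rw [K.iso x hx]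

/-- An element of the second unitary group inside `X`. -/
theorem lift_right (b : Matrix β β F) (hb : ∀ u v, g (b *ᵥ u) (b *ᵥ v) = g u v) (hd : b.det = 1) :
    ∃ x ∈ X, ((x : GL (α × β) F) : Matrix (α × β) (α × β) F) = 1 ⊗ₖ b :=
  K.base 1 b (fun u v => by rw [Matrix.one_mulVec, Matrix.one_mulVec]) hb Matrix.det_one hd

theorem siegel_mem [Finite F] {w y : β → F} (hw : g w w = 0) (hy : g y y = 0) (hwy : g w y = 0) :
    ∃ x ∈ X, ((x : GL (α × β) F) : Matrix (α × β) (α × β) F) =
      1 + (emb α w * cg α g y - emb α y * cg α g w) := by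
  set N := Matrix.vecMulVec w (phi g y) - Matrix.vecMulVec y (phi g w)
  have hyw : g y w = 0 := K.hg.eq_zero_symm hwy
  have hN : ∀ u, N *ᵥ u = g y u • w - g w u • y := fun u => by
    simp only [N, Matrix.sub_mulVec, Matrix.vecMulVec_mulVec, phi_dot, op_smul_eq_smul]
  have hNN : N * N = 0 := by
    refine Matrix.toLin'.injective (LinearMap.ext fun u => ?_)
    rw [Matrix.toLin'_apply, ← Matrix.mulVec_mulVec, hN, hN]
    simp [hw, hy, hwy, hyw]
  obtain ⟨x, hx, e⟩ := K.lift_right (1 + N) (fun u v => by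
    simp only [Matrix.add_mulVec, Matrix.one_mulVec, hN]
    simp only [map_add, map_sub, map_smul, LinearMap.add_apply, LinearMap.sub_apply, LinearMap.smul_apply,
      smul_eq_mul, smul_left, smul_right, hw, hy, hwy, hyw, K.hg.symm]
    ring) (det_one_add_sqzero hNN)
  refine ⟨x, hx, ?_⟩
  rw [e, Matrix.kronecker_add, Matrix.one_kronecker_one]
  simp only [N]
  rw [sub_eq_add_neg (Matrix.vecMulVec w (phi g y)),
    ← Matrix.neg_vecMulVec, Matrix.kronecker_add, one_kronecker_vecMulVec, one_kronecker_vecMulVec, ← sub_eq_zero]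
  have : (emb α (-y) : Matrix (α × β) α F) = -emb α y := by rw [← neg_one_smul F y, emb_smul, neg_one_smul]
  rw [this, Matrix.neg_mul, cg, cg]
  abel

theorem transvection_mem [Finite F] {w : β → F} (hw : g w w = 0) {c : F} (hc : c + σ c = 0) :
    ∃ x ∈ X, ((x : GL (α × β) F) : Matrix (α × β) (α × β) F) = 1 + c • (emb α w * cg α g w) := by
  set N := c • Matrix.vecMulVec w (phi g w)
  have hN : ∀ u, N *ᵥ u = (c * g w u) • w := fun u => by
    simp only [N, Matrix.smul_mulVec, Matrix.vecMulVec_mulVec, phi_dot, op_smul_eq_smul, smul_smul]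
  have hNN : N * N = 0 := by
    refine Matrix.toLin'.injective (LinearMap.ext fun u => ?_)
    rw [Matrix.toLin'_apply, ← Matrix.mulVec_mulVec, hN, hN]
    simp [hw]
  obtain ⟨x, hx, e⟩ := K.lift_right (1 + N) (fun u v => by
    simp only [Matrix.add_mulVec, Matrix.one_mulVec, hN]
    simp only [map_add, LinearMap.add_apply, smul_eq_mul, smul_left, smul_right, hw, map_mul, K.hg.symm]
    linear_combination (g u w * g w v) * hc) (det_one_add_sqzero hNN)
  refine ⟨x, hx, ?_⟩
  rw [e, Matrix.kronecker_add, Matrix.one_kronecker_one]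
  simp only [N, Matrix.kronecker_smul, one_kronecker_vecMulVec]
  rfl

/-- Isometries of the second form act transitively on isotropic vectors, inside `X`. -/
theorem exists_move [Finite F] {w w' : β → F} (hw0 : w ≠ 0) (hw0' : w' ≠ 0) (hw : g w w = 0) (hw' : g w' w' = 0) :
    ∃ (x : GL (α × β) F) (b : Matrix β β F), x ∈ X ∧ Kr x ∧
      (x : Matrix (α × β) (α × β) F) = (1 : Matrix α α F) ⊗ₖ b ∧ b *ᵥ w = w' := by
  obtain ⟨e, he, hew⟩ := K.hg.transitive_isotropic (by rw [Module.finrank_fintype_fun_eq_card]; exact K.three)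
    hw0 hw0' hw hw'
  have hd := MonoidHom.mem_ker.1 (K.hg.trGroup_le he)
  set b := LinearMap.toMatrix' ((e : (β → F) ≃ₗ[F] (β → F)) : (β → F) →ₗ[F] (β → F))
  have hbv : ∀ u, b *ᵥ u = (e : (β → F) ≃ₗ[F] (β → F)) u := fun u => LinearMap.toMatrix'_mulVec _ u
  have hdet : b.det = 1 := by
    rw [LinearMap.det_toMatrix', ← LinearEquiv.coe_det]
    exact congrArg Units.val hd
  obtain ⟨x, hx, ex⟩ := K.lift_right b (fun u v => by rw [hbv, hbv]; exact HU.map_eq e u v) hdet
  refine ⟨x, b, hx, ⟨1, Matrix.GeneralLinearGroup.mkOfDetNeZero b (by rw [hdet]; exact one_ne_zero), ex⟩, ex, ?_⟩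
  rw [hbv, hew]

end Ctx

theorem move_emb {x : GL (α × β) F} {b : Matrix β β F} (e : (x : Matrix (α × β) (α × β) F) = (1 : Matrix α α F) ⊗ₖ b)
    (w : β → F) : (x : Matrix (α × β) (α × β) F) * emb α w = emb α (b *ᵥ w) := by
  rw [e, kronecker_mul_emb, Matrix.mul_one]

/-- The commutator of two elements with square-zero parts and vanishing triple products. -/
theorem comm_two {X : Subgroup (GL (α × β) F)} {x y : GL (α × β) F} (hx : x ∈ X) (hy : y ∈ X)
    {A B : Matrix (α × β) (α × β) F} (ex : (x : Matrix (α × β) (α × β) F) = 1 + A)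
    (ey : (y : Matrix (α × β) (α × β) F) = 1 + B) (hA : A * A * B = 0) (hA2 : A * A = 0) (hB : B * B = 0)
    (hABA : A * B * A = 0) (hBAB : B * A * B = 0) :
    ∃ z ∈ X, ((z : GL (α × β) F) : Matrix (α × β) (α × β) F) = 1 + (A * B - B * A) := by
  refine ⟨x * y * x⁻¹ * y⁻¹, X.mul_mem (X.mul_mem (X.mul_mem hx hy) (X.inv_mem hx)) (X.inv_mem hy), ?_⟩
  have ix : ((x⁻¹ : GL (α × β) F) : Matrix (α × β) (α × β) F) = 1 - A := by
    refine Units.inv_eq_of_mul_eq_one_right ?_
    rw [ex, mul_sub, mul_one, add_mul, one_mul, hA2]; abel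
  have iy : ((y⁻¹ : GL (α × β) F) : Matrix (α × β) (α × β) F) = 1 - B := by
    refine Units.inv_eq_of_mul_eq_one_right ?_
    rw [ey, mul_sub, mul_one, add_mul, one_mul, hB]; abel
  rw [Units.val_mul, Units.val_mul, Units.val_mul, ex, ey, ix, iy]
  rw [show (1 + A) * (1 + B) * (1 - A) * (1 - B) =
    1 + (A * B - B * A) - A * A + A * A * B - B * B + B * A * B - A * B * A - A * (B * B) + A * B * A * B by
      noncomm_ring, hA2, hB, hABA, hBAB, mul_zero, zero_mul]
  abel

end CfsgLib.Geo.UnitTensor
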