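/-
Without a non-scalar root element, an element sending a singular subspace `V₁ ⊗ w` to another one is a Kronecker
product.
-/
import Cfsg.Agent.Lib.Geo.UnitTensor.Basic

set_option autoImplicit false
set_option linter.unusedSectionVars false

namespace CfsgLib.Geo.UnitTensor

open Matrix TensorLinear CfsgLib.Classical CfsgLib.Classical.Herm
open scoped Kronecker

variable {α β : Type} [Fintype α] [DecidableEq α] [Fintype β] [DecidableEq β] {F : Type*} [Field F] {σ : F →+* F}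
  {g : (β → F) →ₛₗ[σ] (β → F) →ₗ[F] F} {f : (α → F) →ₛₗ[σ] (α → F) →ₗ[F] F}
  {H : (α × β → F) →ₛₗ[σ] (α × β → F) →ₗ[F] F} {X : Subgroup (GL (α × β) F)}

theorem scalar_trick (hσ : IsInvol σ) {N N' : Matrix α α F}
    (h : ∀ c : F, ∃ μ : F, σ c • N - c • N' = μ • 1) : (∃ μ : F, N = μ • 1) ∧ ∃ μ : F, N' = μ • 1 := by
  obtain ⟨μ₁, h1⟩ := h 1
  rw [map_one, one_smul, one_smul] at h1
  obtain ⟨c, hc⟩ := hσ.exists_ne
  obtain ⟨μ₀, h0⟩ := h c
  have hN' : N' = ((σ c - c)⁻¹ * (μ₀ - σ c * μ₁)) • 1 := by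
    rw [mul_smul, sub_smul, mul_smul, ← h1, ← h0, show σ c • N - c • N' - σ c • (N - N') = (σ c - c) • N' by module,
      inv_smul_smul₀ (sub_ne_zero.2 hc)]
  exact ⟨⟨μ₁ + (σ c - c)⁻¹ * (μ₀ - σ c * μ₁), by rw [add_smul, ← h1, ← hN', sub_add_cancel]⟩, _, hN'⟩

/-- Two short root elements give a root element. -/
theorem short_sq {w : β → F} (hw : g w w = 0) {Λ : Matrix (α × β) α F} {Λ' : Matrix α (α × β) F}
    (h1 : cg α g w * Λ = 0) (h2 : Λ' * emb α w = 0) (h3 : Λ' * Λ = 0) :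
    (emb α w * Λ' - Λ * cg α g w) * (emb α w * Λ' - Λ * cg α g w) = 0 := by
  rw [show (emb α w * Λ' - Λ * cg α g w) * (emb α w * Λ' - Λ * cg α g w) =
    emb α w * (Λ' * emb α w) * Λ' - emb α w * (Λ' * Λ) * cg α g w - Λ * (cg α g w * emb α w) * Λ' +
      Λ * (cg α g w * Λ) * cg α g w by
    simp only [Matrix.mul_sub, Matrix.sub_mul, Matrix.mul_assoc]; abel,
    h1, h2, h3, cg_emb_zero hw]
  simp

theorem short_prod {w : β → F} (hw : g w w = 0) {Λ M : Matrix (α × β) α F} {Λ' M' : Matrix α (α × β) F}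
    (h1 : cg α g w * M = 0) (h2 : Λ' * emb α w = 0) :
    (emb α w * Λ' - Λ * cg α g w) * (emb α w * M' - M * cg α g w) = -(emb α w * (Λ' * M) * cg α g w) := by
  rw [show (emb α w * Λ' - Λ * cg α g w) * (emb α w * M' - M * cg α g w) =
    emb α w * (Λ' * emb α w) * M' - emb α w * (Λ' * M) * cg α g w - Λ * (cg α g w * emb α w) * M' +
      Λ * (cg α g w * M) * cg α g w by
    simp only [Matrix.mul_sub, Matrix.sub_mul, Matrix.mul_assoc]; abel,
    h1, h2, cg_emb_zero hw]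
  simp

theorem short_comm {w : β → F} (hw : g w w = 0) {Λ M : Matrix (α × β) α F} {Λ' M' : Matrix α (α × β) F}
    (hΛ1 : cg α g w * Λ = 0) (hΛ2 : Λ' * emb α w = 0) (hΛ3 : Λ' * Λ = 0)
    (hM1 : cg α g w * M = 0) (hM2 : M' * emb α w = 0) (hM3 : M' * M = 0)
    {x y : GL (α × β) F} (hx : x ∈ X) (hy : y ∈ X)
    (ex : (x : Matrix (α × β) (α × β) F) = 1 + (emb α w * Λ' - Λ * cg α g w))
    (ey : (y : Matrix (α × β) (α × β) F) = 1 + (emb α w * M' - M * cg α g w)) :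
    Root g X w (M' * Λ - Λ' * M) := by
  have hA := short_sq hw hΛ1 hΛ2 hΛ3
  have hB := short_sq hw hM1 hM2 hM3
  have eAB := short_prod (Λ := Λ) (M' := M') hw hM1 hΛ2
  have eBA := short_prod (Λ := M) (M := Λ) (M' := Λ') hw hΛ1 hM2
  have hz : ∀ (θ : Matrix α α F) (N : Matrix (α × β) α F) (N' : Matrix α (α × β) F), cg α g w * N = 0 →
      (-(emb α w * θ * cg α g w)) * (emb α w * N' - N * cg α g w) = 0 := by
    intro θ N N' hN
    rw [show (-(emb α w * θ * cg α g w)) * (emb α w * N' - N * cg α g w) =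
      -(emb α w * θ * (cg α g w * emb α w) * N') + emb α w * θ * (cg α g w * N) * cg α g w by
        simp only [Matrix.mul_sub, Matrix.neg_mul, Matrix.mul_assoc]; abel, hN, cg_emb_zero hw]
    simp
  obtain ⟨z, hz', ez⟩ := comm_two hx hy ex ey (by rw [hA, zero_mul]) hA hB
    (by rw [eAB]; exact hz _ _ _ hΛ1) (by rw [eBA]; exact hz _ _ _ hM1)
  refine ⟨z, hz', ?_⟩
  rw [ez, eAB, eBA, Matrix.mul_sub, Matrix.sub_mul]
  abel

omit [Fintype β] [DecidableEq β] in
theorem matrix_ext_f {ι : Type} [Fintype ι] [DecidableEq ι] {M N : Matrix α ι F}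
    (hf : IsHerm f) (h : ∀ a z, f a (M *ᵥ z) = f a (N *ᵥ z)) : M = N := by
  refine Matrix.toLin'.injective (LinearMap.ext fun z => ?_)
  rw [Matrix.toLin'_apply, Matrix.toLin'_apply, ← sub_eq_zero]
  refine hf.nondeg _ fun a => ?_
  rw [← hf.symm, map_sub, h a z, sub_self, map_zero]

omit [Fintype β] [DecidableEq β] in
theorem exists_adjoint [Finite F] (hf : IsHerm f) (θ : Matrix α α F) :
    ∃ θ' : Matrix α α F, ∀ a z, f (θ *ᵥ a) z = f a (θ' *ᵥ z) := by
  let L : (α → F) →ₗ[F] (α → F) :=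
    { toFun := fun v i => f (Pi.single i 1) v
      map_add' := fun u v => funext fun i => map_add _ _ _
      map_smul' := fun c v => funext fun i => by simp }
  have hdet : ∀ (a v : α → F), f a v = ∑ i, σ (a i) * L v i := fun a v => by
    conv_lhs => rw [pi_eq_sum_univ' a]
    rw [map_sum, LinearMap.sum_apply]
    exact Finset.sum_congr rfl fun i _ => smul_left _ _ _
  have hinj : Function.Injective L := (injective_iff_map_eq_zero L).2 fun v hv => by
    refine hf.nondeg v fun a => ?_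
    rw [← hf.symm, hdet, hv]
    simp
  let Le := LinearEquiv.ofBijective L ⟨hinj, LinearMap.injective_iff_surjective.1 hinj⟩
  let R : (α → F) →ₗ[F] (α → F) :=
    { toFun := fun z i => f (θ *ᵥ Pi.single i 1) z
      map_add' := fun u v => funext fun i => map_add _ _ _
      map_smul' := fun c v => funext fun i => by simp }
  refine ⟨LinearMap.toMatrix' (Le.symm.toLinearMap ∘ₗ R), fun a z => ?_⟩
  rw [LinearMap.toMatrix'_mulVec, LinearMap.comp_apply]
  conv_rhs => rw [hdet, show L (Le.symm.toLinearMap (R z)) = R z from Le.apply_symm_apply _]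
  conv_lhs => rw [pi_eq_sum_univ' a]
  rw [Matrix.mulVec_sum, map_sum, LinearMap.sum_apply]
  refine Finset.sum_congr rfl fun i _ => ?_
  rw [Matrix.mulVec_smul, smul_left]
  rfl

omit [Fintype α] [DecidableEq α] in
theorem span_isotropic (hg : IsHerm g) (U : Submodule F (β → F)) {u₁ u₂ : β → F} (h1 : u₁ ∈ U) (h2 : u₂ ∈ U)
    (h11 : g u₁ u₁ = 0) (h22 : g u₂ u₂ = 0) (h12 : g u₁ u₂ = 1) :
    U ≤ Submodule.span F {u | u ∈ U ∧ g u u = 0} := by
  have step : ∀ u ∈ U, g u₁ u ≠ 0 → u ∈ Submodule.span F {u | u ∈ U ∧ g u u = 0} := by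
    intro u hu hne
    obtain ⟨s, hs⟩ := hg.invol.exists_trace_eq (μ := -g u u) (by rw [map_neg, hg.self_fixed])
    have hne' : g u u₁ ≠ 0 := fun e => hne (hg.eq_zero_symm e)
    have hm : u + (s / g u u₁) • u₁ ∈ U := U.add_mem hu (U.smul_mem _ h1)
    have hiso : g (u + (s / g u u₁) • u₁) (u + (s / g u u₁) • u₁) = 0 := by
      simp only [map_add, LinearMap.add_apply, smul_left, smul_right, h11, mul_zero, map_div₀, hg.symm]
      field_simp
      linear_combination hs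
    have e : u = (u + (s / g u u₁) • u₁) - (s / g u u₁) • u₁ := by abel
    rw [e]
    exact Submodule.sub_mem _ (Submodule.subset_span ⟨hm, hiso⟩)
      (Submodule.smul_mem _ _ (Submodule.subset_span ⟨h1, h11⟩))
  intro u hu
  by_cases hne : g u₁ u = 0
  · have e : u = (u + u₂) - u₂ := by abel
    rw [e]
    refine Submodule.sub_mem _ (step _ (U.add_mem hu h2) ?_) (Submodule.subset_span ⟨h2, h22⟩)
    rw [map_add, hne, h12, zero_add]
    exact one_ne_zero
  · exact step u hu hne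

omit [DecidableEq α] in
theorem emb_of_scalar [DecidableEq α] [Finite F] (hg : IsHerm g) {M : Matrix (α × β) α F}
    (h : ∀ z : β → F, ∃ c : F, cg α g z * M = c • 1) : ∃ r, M = emb α r := by
  have hsurj : Function.Surjective (phi g) := by
    refine Finite.injective_iff_surjective.1 fun u v e => ?_
    rw [← sub_eq_zero]
    refine hg.nondeg _ fun x => ?_
    rw [sub_left, ← phi_dot, ← phi_dot, e, sub_self]
  choose Z hZ using hsurj
  choose c hc using h
  refine ⟨fun j => c (Z (Pi.single j 1)), ?_⟩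
  ext ⟨i, j⟩ k
  have := congrFun (congrFun (hc (Z (Pi.single j 1))) i) k
  simp [cg, hZ, Matrix.mul_apply, con, Fintype.sum_prod_type, Pi.single_apply, Matrix.one_apply] at this
  simp [emb, this]

namespace Ctx

variable (K : Ctx f g H X)
include K

theorem root_scalar (hG : ¬ Good g X) {w : β → F} (hw0 : w ≠ 0) (hw : g w w = 0) {θ : Matrix α α F}
    (h : Root g X w θ) : ∃ c : F, θ = c • 1 := by
  by_contra hc
  push Not at hc
  exact hG ⟨w, θ, hw0, hw, h, hc⟩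

theorem exists_frame [Finite F] {w : β → F} (hw0 : w ≠ 0) (hw : g w w = 0) :
    ∃ w'' u₁ u₂ : β → F, g w w'' = 1 ∧ g w'' w'' = 0 ∧ g u₁ u₁ = 0 ∧ g u₂ u₂ = 0 ∧ g u₁ u₂ = 1 ∧
      g w u₁ = 0 ∧ g w u₂ = 0 ∧ g w'' u₁ = 0 := by
  obtain ⟨w'', h1, h2⟩ := K.hg.exists_isotropic_partner hw0 hw
  set W := Submodule.span F ({w, w''} : Set (β → F))
  have hd := K.hg.hyperbolic_disc hw h1
  have hn := K.hg.pair_nondeg hd
  have hfr : 2 ≤ Module.finrank F (K.hg.orth W) := by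
    have e1 : Module.finrank F W + Module.finrank F (K.hg.orth W) = Module.finrank F (β → F) := K.hg.finrank_orth hn
    have e2 : Module.finrank F W = 2 := K.hg.pair_finrank hd
    rw [e2, Module.finrank_fintype_fun_eq_card] at e1
    have := K.four
    omega
  have hh := K.hg.restrict_herm (K.hg.orth_nondeg hn)
  obtain ⟨u₁, hu0, hu1⟩ := hh.exists_isotropic hfr
  obtain ⟨u₂, hu12, hu2⟩ := hh.exists_isotropic_partner hu0 hu1
  have hwm : w ∈ W := Submodule.subset_span (Set.mem_insert _ _)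
  have hwm' : w'' ∈ W := Submodule.subset_span (Set.mem_insert_of_mem _ rfl)
  exact ⟨w'', u₁, u₂, h1, h2, hu1, hu2, hu12, K.hg.mem_orth.1 u₁.2 w hwm, K.hg.mem_orth.1 u₂.2 w hwm,
    K.hg.mem_orth.1 u₁.2 w'' hwm'⟩

theorem exists_f_one : ∃ a c : α → F, f a c = 1 := by
  have := K.two
  obtain ⟨i⟩ : Nonempty α := Fintype.card_pos_iff.1 (by omega)
  obtain ⟨c, hc⟩ := K.hf.exists_apply_eq_one (x := Pi.single i 1) (fun e => by simpa using congrFun e i)
  exact ⟨_, c, hc⟩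

/-- An element stabilising `V₁ ⊗ w` acts on the subspaces `V₁ ⊗ y`, `y ⊥ w`, through one matrix. -/
theorem stab_core [Finite F] (hG : ¬ Good g X) {x : GL (α × β) F} (hx : x ∈ X) {w : β → F} (hw0 : w ≠ 0)
    (hw : g w w = 0) {A₀ : Matrix α α F}
    (hA : (x : Matrix (α × β) (α × β) F) * emb α w = emb α w * A₀) :
    ∃ A₁ : GL α F, ∀ y : β → F, g w y = 0 → ∃ r : β → F, (x : Matrix (α × β) (α × β) F) * emb α y = emb α r * (A₁ : Matrix α α F) := by
  classical
  set Xm := (x : Matrix (α × β) (α × β) F)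
  set Xi := ((x⁻¹ : GL (α × β) F) : Matrix (α × β) (α × β) F)
  have hXX : Xi * Xm = 1 := Units.inv_mul x
  have hXX' : Xm * Xi = 1 := Units.mul_inv x
  obtain ⟨A₀', hadj⟩ := exists_adjoint K.hf A₀
  have hadj2 : ∀ a u, f (A₀' *ᵥ a) u = f a (A₀ *ᵥ u) := fun a u => by
    rw [← K.hf.symm, ← hadj, K.hf.symm]
  have hXpt : ∀ a, Xm *ᵥ pt a w = pt (A₀ *ᵥ a) w := fun a => by
    rw [← emb_mulVec, Matrix.mulVec_mulVec, hA, ← Matrix.mulVec_mulVec, emb_mulVec]
  have hCi : cg α g w * Xi = A₀' * cg α g w := matrix_ext_f K.hf fun a z => by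
    rw [← Matrix.mulVec_mulVec, ← Matrix.mulVec_mulVec, ← K.tens, ← K.iso_right hx, hXpt, K.tens, hadj]
  -- invertibility
  have hA₀u : IsUnit A₀ := by
    refine Matrix.mulVec_injective_iff_isUnit.1 fun a b e => ?_
    refine pt_injective hw0 (Matrix.mulVec_injective_iff_isUnit.2 x.isUnit ?_)
    show Xm *ᵥ pt a w = Xm *ᵥ pt b w
    rw [hXpt, hXpt, e]
  have hA₀'u : IsUnit A₀' := by
    refine Matrix.mulVec_injective_iff_isUnit.1 fun a b e => ?_
    refine K.f_ext fun u => ?_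
    obtain ⟨v, rfl⟩ := Matrix.mulVec_surjective_iff_isUnit.2 hA₀u u
    rw [hadj, hadj, e]
  obtain ⟨A₀inv, hinv⟩ := hA₀u.exists_right_inv
  obtain ⟨u₀, hu₀⟩ := hA₀'u
  have hA1 : (u₀ : Matrix α α F) * (↑u₀⁻¹ : Matrix α α F) = 1 := u₀.mul_inv
  have hA2 : (↑u₀⁻¹ : Matrix α α F) * (u₀ : Matrix α α F) = 1 := u₀.inv_mul
  rw [hu₀] at hA1 hA2
  have hCx : cg α g w * Xm = (↑u₀⁻¹ : Matrix α α F) * cg α g w := by
    calc cg α g w * Xm = (↑u₀⁻¹ : Matrix α α F) * A₀' * (cg α g w * Xm) := by rw [hA2, Matrix.one_mul]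
      _ = (↑u₀⁻¹ : Matrix α α F) * (A₀' * cg α g w * Xm) := by simp only [Matrix.mul_assoc]
      _ = _ := by rw [← hCi, Matrix.mul_assoc (cg α g w), hXX, Matrix.mul_one]
  obtain ⟨w'', u₁, u₂, hww'', hw'', hu11, hu22, hu12, hwu1, hwu2, -⟩ := K.exists_frame hw0 hw
  -- the commutators with Siegel elements at `w`
  set Λ : (β → F) → Matrix (α × β) α F := fun y => Xm * emb α y * A₀' with hΛ
  set Λ' : (β → F) → Matrix α (α × β) F := fun y => A₀ * cg α g y * Xi with hΛ'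
  have hshort : ∀ y, g y y = 0 → g w y = 0 → cg α g w * Λ y = 0 ∧ Λ' y * emb α w = 0 ∧ Λ' y * Λ y = 0 ∧
      ∃ z ∈ X, ((z : GL (α × β) F) : Matrix (α × β) (α × β) F) = 1 + (emb α w * Λ' y - Λ y * cg α g w) := by
    intro y hy hwy
    refine ⟨?_, ?_, ?_, ?_⟩
    · simp only [hΛ, ← Matrix.mul_assoc]
      rw [hCx, Matrix.mul_assoc (↑u₀⁻¹ : Matrix α α F), cg_emb_zero hwy, Matrix.mul_zero, Matrix.zero_mul]
    · have e : emb α w = Xm * emb α w * A₀inv := by rw [hA, Matrix.mul_assoc, hinv, Matrix.mul_one]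
      simp only [hΛ']
      rw [e, show A₀ * cg α g y * Xi * (Xm * emb α w * A₀inv) = A₀ * (cg α g y * (Xi * Xm) * emb α w) * A₀inv by
        simp only [Matrix.mul_assoc], hXX, Matrix.mul_one, cg_emb_zero (K.hg.eq_zero_symm hwy), Matrix.mul_zero,
        Matrix.zero_mul]
    · simp only [hΛ, hΛ']
      rw [show A₀ * cg α g y * Xi * (Xm * emb α y * A₀') = A₀ * (cg α g y * (Xi * Xm) * emb α y) * A₀' by
        simp only [Matrix.mul_assoc], hXX, Matrix.mul_one, cg_emb_zero hy, Matrix.mul_zero, Matrix.zero_mul]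
    · obtain ⟨s, hs, es⟩ := K.siegel_mem hw hy hwy
      refine ⟨x * s * x⁻¹, X.mul_mem (X.mul_mem hx hs) (X.inv_mem hx), ?_⟩
      rw [Units.val_mul, Units.val_mul, es, mul_add, mul_one, add_mul]
      show Xm * Xi + Xm * (emb α w * cg α g y - emb α y * cg α g w) * Xi = _
      rw [hXX', Matrix.mul_sub, Matrix.sub_mul,
        show Xm * (emb α w * cg α g y) * Xi = Xm * emb α w * (cg α g y * Xi) by simp only [Matrix.mul_assoc],
        show Xm * (emb α y * cg α g w) * Xi = Xm * emb α y * (cg α g w * Xi) by simp only [Matrix.mul_assoc],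
        hA, hCi]
      simp only [hΛ, hΛ', Matrix.mul_assoc]
  have hscal : ∀ y, g y y = 0 → g w y = 0 → ∀ y', g y' y' = 0 → g w y' = 0 →
      ∃ μ : F, cg α g y' * Λ y = μ • 1 := by
    intro y hy hwy y' hy' hwy'
    obtain ⟨a1, a2, a3, z, hz, ez⟩ := hshort y hy hwy
    refine (scalar_trick K.hg.invol (N' := Λ' y * emb α y') fun c => ?_).1
    have hcy : g (c • y') (c • y') = 0 := by rw [smul_left, smul_right, hy']; ring
    have hwcy : g w (c • y') = 0 := by rw [smul_right, hwy', mul_zero]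
    obtain ⟨s, hs, es⟩ := K.siegel_mem hw hcy hwcy
    obtain ⟨μ, hμ⟩ := K.root_scalar hG hw0 hw (short_comm hw a1 a2 a3 (cg_emb_zero hwcy)
      (cg_emb_zero (K.hg.eq_zero_symm hwcy)) (cg_emb_zero hcy) hz hs ez es)
    refine ⟨μ, ?_⟩
    rw [← hμ, cg_smul, emb_smul, Matrix.smul_mul, Matrix.mul_smul]
  have hall : ∀ y, g y y = 0 → g w y = 0 → ∀ y', g w y' = 0 → ∃ μ : F, cg α g y' * Λ y = μ • 1 := by
    intro y hy hwy y' hwy'
    have hmem := span_isotropic K.hg (LinearMap.ker (g w)) (LinearMap.mem_ker.2 hwu1) (LinearMap.mem_ker.2 hwu2)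
      hu11 hu22 hu12 (LinearMap.mem_ker.2 hwy' : y' ∈ LinearMap.ker (g w))
    clear hwy'
    induction hmem using Submodule.span_induction with
    | mem u hu => exact hscal y hy hwy u hu.2 (LinearMap.mem_ker.1 hu.1)
    | zero => exact ⟨0, by rw [cg, show phi g (0 : β → F) = 0 from by funext j; simp [phi],
        show (con α (0 : β → F) : Matrix α (α × β) F) = 0 from by ext i p; simp [con], Matrix.zero_mul, zero_smul]⟩
    | add u v _ _ hu hv =>
      obtain ⟨μ, hμ⟩ := hu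
      obtain ⟨ν, hν⟩ := hv
      exact ⟨μ + ν, by rw [cg_add, Matrix.add_mul, hμ, hν, add_smul]⟩
    | smul c u _ hu =>
      obtain ⟨μ, hμ⟩ := hu
      exact ⟨σ c * μ, by rw [cg_smul, Matrix.smul_mul, hμ, smul_smul]⟩
  set θ : (β → F) → Matrix α α F := fun y => cg α g w'' * Λ y with hθ
  have hdec : ∀ y, g y y = 0 → g w y = 0 → ∃ r, Λ y = emb α r + emb α w * θ y ∧
      ∃ θ' : Matrix α α F, (∀ a u, f (θ y *ᵥ a) u = f a (θ' *ᵥ u)) ∧ ∃ μ : F, θ' - θ y = μ • 1 := by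
    intro y hy hwy
    obtain ⟨r, hr⟩ := emb_of_scalar K.hg (M := Λ y - emb α w * θ y) fun z => by
      set y' := z - g w z • w''
      obtain ⟨μ, hμ⟩ := hall y hy hwy y' (by
        simp only [y']; rw [map_sub, smul_right, hww'', mul_one, sub_self])
      refine ⟨μ, ?_⟩
      have hz : z = y' + g w z • w'' := by simp [y']
      have h1 : cg α g z * Λ y = μ • (1 : Matrix α α F) + g z w • θ y := by
        rw [← K.hg.symm w z, ← hμ]
        conv_lhs => rw [hz, cg_add, cg_smul, Matrix.add_mul, Matrix.smul_mul]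
      rw [Matrix.mul_sub, ← Matrix.mul_assoc _ (emb α w), cg_mul_emb, Matrix.smul_mul, Matrix.one_mul, h1,
        add_sub_cancel_right]
    have hΛeq : Λ y = emb α r + emb α w * θ y := by rw [← hr, sub_add_cancel]
    refine ⟨r, hΛeq, ?_⟩
    obtain ⟨a1, a2, -, z, hz, ez⟩ := hshort y hy hwy
    obtain ⟨a₁, c₁, hac⟩ := K.exists_f_one
    have hwr : g w r = 0 := by
      have h1 : cg α g w * Λ y = g w r • (1 : Matrix α α F) := by
        rw [hΛeq, Matrix.mul_add, ← Matrix.mul_assoc, cg_emb_zero hw, Matrix.zero_mul, add_zero, cg_mul_emb]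
      rw [a1] at h1
      have h2 := congrArg (fun M : Matrix α α F => f a₁ (M *ᵥ c₁)) h1
      simpa [Matrix.smul_mulVec, hac] using h2.symm
    have hΛv : ∀ a, Λ y *ᵥ a = pt a r + pt (θ y *ᵥ a) w := fun a => by
      rw [hΛeq, Matrix.add_mulVec, emb_mulVec, ← Matrix.mulVec_mulVec, emb_mulVec]
    have hΛx : ∀ a, Λ y *ᵥ a = Xm *ᵥ pt (A₀' *ᵥ a) y := fun a => by
      simp only [hΛ, ← Matrix.mulVec_mulVec, emb_mulVec]
    have hrr : g r r = 0 := by
      have h1 : H (Λ y *ᵥ a₁) (Λ y *ᵥ c₁) = 0 := by rw [hΛx, hΛx, K.iso x hx, K.pt_pt, hy, zero_mul]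
      rw [hΛv, hΛv] at h1
      simp only [map_add, LinearMap.add_apply, K.pt_pt, hwr, K.hg.eq_zero_symm hwr, hw, zero_mul, add_zero] at h1
      rwa [hac, mul_one] at h1
    obtain ⟨θ', hθ'⟩ := exists_adjoint K.hf (θ y)
    refine ⟨θ', hθ', ?_⟩
    have hΛ'eq : Λ' y = cg α g r + θ' * cg α g w := matrix_ext_f K.hf fun a u => by
      have h1 : H (Λ y *ᵥ a) u = f a (Λ' y *ᵥ u) := by
        rw [hΛx, K.iso_right hx, K.tens, hadj2]
        simp only [hΛ', ← Matrix.mulVec_mulVec]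
        rfl
      rw [← h1, hΛv, map_add, LinearMap.add_apply, K.tens, K.tens, hθ', Matrix.add_mulVec, map_add,
        ← Matrix.mulVec_mulVec]
    have hΛ'r : Λ' y * emb α r = 0 := by
      rw [hΛ'eq, Matrix.add_mul, Matrix.mul_assoc, cg_emb_zero hrr, cg_emb_zero hwr, Matrix.mul_zero, add_zero]
    obtain ⟨s, hs, es⟩ := K.siegel_mem hw hrr hwr
    refine K.root_scalar hG hw0 hw ⟨z * s⁻¹, X.mul_mem hz (X.inv_mem hs), ?_⟩
    have hsq := short_sq hw (cg_emb_zero (α := α) hwr) (cg_emb_zero (K.hg.eq_zero_symm hwr)) (cg_emb_zero hrr)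
    have is : ((s⁻¹ : GL (α × β) F) : Matrix (α × β) (α × β) F) =
        1 - (emb α w * cg α g r - emb α r * cg α g w) := by
      refine Units.inv_eq_of_mul_eq_one_right ?_
      rw [es, mul_sub, mul_one, add_mul, one_mul, hsq]; abel
    rw [Units.val_mul, ez, is, mul_sub, mul_one, add_mul, one_mul,
      short_prod hw (cg_emb_zero hwr) a2, hΛ'r, hΛ'eq, hΛeq]
    simp only [Matrix.mul_zero, Matrix.zero_mul, neg_zero, Matrix.mul_add, Matrix.add_mul, Matrix.mul_sub,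
      Matrix.sub_mul, Matrix.mul_assoc]
    abel
  have hθs : ∀ y, g y y = 0 → g w y = 0 → ∃ μ : F, θ y = μ • 1 := by
    intro y hy hwy
    obtain ⟨r, -, θ', hθ', -⟩ := hdec y hy hwy
    refine (scalar_trick K.hg.invol (N := θ') fun c => ?_).2
    have hcy : g (c • y) (c • y) = 0 := by rw [smul_left, smul_right, hy]; ring
    obtain ⟨rc, -, θc', hθc', μ, hμ⟩ := hdec (c • y) hcy (by rw [smul_right, hwy, mul_zero])
    have e1 : θ (c • y) = c • θ y := by
      simp only [hθ, hΛ, emb_smul, Matrix.mul_smul, Matrix.smul_mul]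
    have e2 : θc' = σ c • θ' := matrix_ext_f K.hf fun a u => by
      rw [← hθc', e1, Matrix.smul_mulVec, smul_left, hθ', Matrix.smul_mulVec, smul_right]
    exact ⟨μ, by rw [← hμ, e1, e2]⟩
  refine ⟨u₀⁻¹, fun y hwy => ?_⟩
  have hmem := span_isotropic K.hg (LinearMap.ker (g w)) (LinearMap.mem_ker.2 hwu1) (LinearMap.mem_ker.2 hwu2)
    hu11 hu22 hu12 (LinearMap.mem_ker.2 hwy : y ∈ LinearMap.ker (g w))
  clear hwy
  induction hmem using Submodule.span_induction with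
  | mem u hu =>
    obtain ⟨r, hr, -⟩ := hdec u hu.2 (LinearMap.mem_ker.1 hu.1)
    obtain ⟨μ, hμ⟩ := hθs u hu.2 (LinearMap.mem_ker.1 hu.1)
    refine ⟨r + μ • w, ?_⟩
    have e : emb α (r + μ • w) = Λ u := by
      rw [hr, hμ, Matrix.mul_smul, Matrix.mul_one, emb_add, emb_smul]
    rw [e]
    simp only [hΛ]
    rw [Matrix.mul_assoc _ A₀' (↑u₀⁻¹ : Matrix α α F), hA1, Matrix.mul_one]
  | zero => exact ⟨0, by rw [emb_zero]; simp⟩
  | add u v _ _ hu hv =>
    obtain ⟨r, hr⟩ := hu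
    obtain ⟨s, hs⟩ := hv
    exact ⟨r + s, by rw [emb_add, emb_add, Matrix.mul_add, Matrix.add_mul, hr, hs]⟩
  | smul c u _ hu =>
    obtain ⟨r, hr⟩ := hu
    exact ⟨c • r, by rw [emb_smul, emb_smul, Matrix.mul_smul, Matrix.smul_mul, hr]⟩

/-- The same for an element moving `V₁ ⊗ w` to `V₁ ⊗ w'`. -/
theorem line_core [Finite F] (hG : ¬ Good g X) {x : GL (α × β) F} (hx : x ∈ X) {w w' : β → F} (hw0 : w ≠ 0)
    (hw : g w w = 0) {A₀ : Matrix α α F}
    (hA : (x : Matrix (α × β) (α × β) F) * emb α w = emb α w' * A₀) :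
    ∃ A₁ : GL α F, ∀ y : β → F, g w y = 0 → ∃ r : β → F, (x : Matrix (α × β) (α × β) F) * emb α y = emb α r * (A₁ : Matrix α α F) := by
  have hXpt : ∀ a, (x : Matrix (α × β) (α × β) F) *ᵥ pt a w = pt (A₀ *ᵥ a) w' := fun a => by
    rw [← emb_mulVec, Matrix.mulVec_mulVec, hA, ← Matrix.mulVec_mulVec, emb_mulVec]
  have hA₀u : IsUnit A₀ := by
    refine Matrix.mulVec_injective_iff_isUnit.1 fun a b e => ?_
    refine pt_injective hw0 (Matrix.mulVec_injective_iff_isUnit.2 x.isUnit ?_)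
    show (x : Matrix (α × β) (α × β) F) *ᵥ pt a w = (x : Matrix (α × β) (α × β) F) *ᵥ pt b w
    rw [hXpt, hXpt, e]
  have hw0' : w' ≠ 0 := by
    intro e
    obtain ⟨a₁, c₁, hac⟩ := K.exists_f_one
    have h1 := hXpt c₁
    rw [e, show pt (A₀ *ᵥ c₁) (0 : β → F) = 0 from by funext p; simp [pt]] at h1
    have h2 : pt c₁ w = pt 0 w := by
      rw [show pt (0 : α → F) w = 0 from by funext p; simp [pt]]
      exact Matrix.mulVec_injective_iff_isUnit.2 x.isUnit (by rw [h1, Matrix.mulVec_zero])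
    rw [show c₁ = 0 from pt_injective hw0 h2, map_zero] at hac
    exact zero_ne_one hac
  have hw' : g w' w' = 0 := by
    obtain ⟨a₁, c₁, hac⟩ := K.exists_f_one
    obtain ⟨a, rfl⟩ := Matrix.mulVec_surjective_iff_isUnit.2 hA₀u a₁
    obtain ⟨c, rfl⟩ := Matrix.mulVec_surjective_iff_isUnit.2 hA₀u c₁
    have h1 := K.iso x hx (pt a w) (pt c w)
    rwa [hXpt, hXpt, K.pt_pt, K.pt_pt, hac, hw, zero_mul, mul_one] at h1
  obtain ⟨xb, b, hxb, -, exb, hb⟩ := K.exists_move hw0 hw0' hw hw'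
  have e1 : ((xb⁻¹ * x : GL (α × β) F) : Matrix (α × β) (α × β) F) * emb α w = emb α w * A₀ := by
    rw [Units.val_mul, Matrix.mul_assoc, hA, ← hb, ← move_emb exb, ← Matrix.mul_assoc, ← Matrix.mul_assoc,
      Units.inv_mul, Matrix.one_mul]
  obtain ⟨A₁, hA₁⟩ := K.stab_core hG (X.mul_mem (X.inv_mem hxb) hx) hw0 hw e1
  refine ⟨A₁, fun y hy => ?_⟩
  obtain ⟨r, hr⟩ := hA₁ y hy
  refine ⟨b *ᵥ r, ?_⟩
  rw [← move_emb exb, Matrix.mul_assoc (xb : Matrix (α × β) (α × β) F), ← hr, Units.val_mul, ← Matrix.mul_assoc,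
    ← Matrix.mul_assoc, Units.mul_inv, Matrix.one_mul]

theorem r_ne_zero {x : GL (α × β) F} {y r : β → F} (hy : y ≠ 0) {A : Matrix α α F}
    (h : (x : Matrix (α × β) (α × β) F) * emb α y = emb α r * A) : r ≠ 0 := by
  intro e
  obtain ⟨a₁, c₁, hac⟩ := K.exists_f_one
  rw [e, emb_zero, Matrix.zero_mul] at h
  have h2 : emb α y *ᵥ c₁ = 0 := Matrix.mulVec_injective_iff_isUnit.2 x.isUnit (by
    rw [Matrix.mulVec_mulVec, h, Matrix.zero_mulVec, Matrix.mulVec_zero])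
  rw [emb_mulVec_eq_zero hy h2, map_zero] at hac
  exact zero_ne_one hac

/-- **An element sending one singular line to a line is a Kronecker product.** -/
theorem line_kr [Finite F] (hG : ¬ Good g X) {x : GL (α × β) F} (hx : x ∈ X) {w w' : β → F} (hw0 : w ≠ 0)
    (hw : g w w = 0) {A₀ : Matrix α α F}
    (hA : (x : Matrix (α × β) (α × β) F) * emb α w = emb α w' * A₀) : Kr x := by
  classical
  obtain ⟨A₁, h1⟩ := K.line_core hG hx hw0 hw hA
  obtain ⟨w'', u₁, u₂, hww'', hw'', hu11, hu22, hu12, hwu1, hwu2, hw''u1⟩ := K.exists_frame hw0 hw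
  have hu10 : u₁ ≠ 0 := fun e => by rw [e, map_zero, LinearMap.zero_apply] at hu12; exact zero_ne_one hu12
  obtain ⟨r₁, hr₁⟩ := h1 u₁ hwu1
  obtain ⟨A₂, h2⟩ := K.line_core hG hx hu10 hu11 hr₁
  obtain ⟨r₁', hr₁'⟩ := h2 u₁ hu11
  obtain ⟨χ, hχ⟩ := exists_dual (K.r_ne_zero hu10 hr₁')
  have hprop : (A₂ : Matrix α α F) = (χ ⬝ᵥ r₁) • (A₁ : Matrix α α F) := by
    have h : con α χ * (emb α r₁' * (A₂ : Matrix α α F)) = con α χ * (emb α r₁ * (A₁ : Matrix α α F)) :=
      congrArg (fun M : Matrix (α × β) α F => (con α χ : Matrix α (α × β) F) * M) (hr₁'.symm.trans hr₁)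
    rwa [← Matrix.mul_assoc, ← Matrix.mul_assoc, con_mul_emb, con_mul_emb, hχ, one_smul, Matrix.one_mul,
      Matrix.smul_mul, Matrix.one_mul] at h
  have hline : ∀ z : β → F, ∃ r : β → F, (x : Matrix (α × β) (α × β) F) * emb α z = emb α r * (A₁ : Matrix α α F) := by
    intro z
    obtain ⟨r, hr⟩ := h1 (z - g w z • w'') (by rw [map_sub, smul_right, hww'', mul_one, sub_self])
    obtain ⟨s, hs⟩ := h2 w'' (K.hg.eq_zero_symm hw''u1)
    refine ⟨r + (g w z * (χ ⬝ᵥ r₁)) • s, ?_⟩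
    have ez : (emb α z : Matrix (α × β) α F) = emb α (z - g w z • w'') + g w z • (emb α w'' : Matrix (α × β) α F) := by
      rw [← emb_smul, ← emb_add, sub_add_cancel]
    rw [ez, Matrix.mul_add, hr, Matrix.mul_smul, hs, hprop, Matrix.mul_smul]
    rw [emb_add, emb_smul, Matrix.add_mul, Matrix.smul_mul, smul_smul]
  refine TensorLinear.kronecker_of_lines (by have := K.two; omega) (by have := K.three; omega) x fun v hv => ?_
  obtain ⟨r, hr⟩ := hline v
  refine ⟨r, ?_⟩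
  ext p
  simp only [img, Submodule.mem_map, mem_line, Matrix.mulVecLin_apply]
  constructor
  · rintro ⟨_, ⟨a, rfl⟩, rfl⟩
    exact ⟨(A₁ : Matrix α α F) *ᵥ a, by
      rw [← emb_mulVec, ← emb_mulVec, Matrix.mulVec_mulVec, Matrix.mulVec_mulVec]
      exact congrArg (fun M : Matrix (α × β) α F => M *ᵥ a) hr.symm⟩
  · rintro ⟨a, rfl⟩
    refine ⟨pt (((A₁⁻¹ : GL α F) : Matrix α α F) *ᵥ a) v, ⟨_, rfl⟩, ?_⟩
    rw [← emb_mulVec, ← emb_mulVec, Matrix.mulVec_mulVec]
    refine (congrArg (fun M : Matrix (α × β) α F => M *ᵥ (((A₁⁻¹ : GL α F) : Matrix α α F) *ᵥ a)) hr).trans ?_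
    simp only [← Matrix.mulVec_mulVec]
    rw [Matrix.mulVec_mulVec a (A₁ : Matrix α α F), Units.mul_inv, Matrix.one_mulVec]

end Ctx

omit [Fintype β] [DecidableEq β] in
theorem exists_mat_of_line [Fintype β] [DecidableEq β] {M : Matrix (α × β) (α × β) F} {w r : β → F} (hr : r ≠ 0)
    (h : ∀ a, M *ᵥ pt a w ∈ line α r) : ∃ A : Matrix α α F, M * emb α w = emb α r * A := by
  obtain ⟨χ, hχ⟩ := exists_dual hr
  refine ⟨con α χ * M * emb α w, Matrix.toLin'.injective (LinearMap.ext fun a => ?_)⟩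
  obtain ⟨y, hy⟩ := mem_line.1 (h a)
  rw [Matrix.toLin'_apply, Matrix.toLin'_apply, ← Matrix.mulVec_mulVec, emb_mulVec, ← Matrix.mulVec_mulVec,
    ← Matrix.mulVec_mulVec, ← Matrix.mulVec_mulVec, emb_mulVec, emb_mulVec, ← hy, con_pt, hχ, one_smul]

end CfsgLib.Geo.UnitTensor
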