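/-
An algebra invariant under a special unitary group and containing a non-scalar skew element is the whole matrix
algebra.
-/
import Cfsg.Agent.Lib.Geo.UnitTensor.Line

set_option autoImplicit false
set_option linter.unusedSectionVars false

namespace CfsgLib.Geo.UnitTensor

open Matrix CfsgLib.Classical CfsgLib.Classical.Herm Module

variable {α : Type} [Fintype α] [DecidableEq α] {F : Type*} [Field F] {σ : F →+* F}
  {f : (α → F) →ₛₗ[σ] (α → F) →ₗ[F] F}

/-- The second matrix is adjoint to the first. -/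
def Adj (f : (α → F) →ₛₗ[σ] (α → F) →ₗ[F] F) (θ θ' : Matrix α α F) : Prop :=
  ∀ a z, f (θ *ᵥ a) z = f a (θ' *ᵥ z)

/-- The rank one map `v ↦ f(b, v) a`. -/
def outer (f : (α → F) →ₛₗ[σ] (α → F) →ₗ[F] F) (a b : α → F) : Matrix α α F := Matrix.vecMulVec a (phi f b)

theorem outer_mulVec (a b v : α → F) : outer f a b *ᵥ v = f b v • a := by
  rw [outer, Matrix.vecMulVec_mulVec, phi_dot, op_smul_eq_smul]

theorem mat_ext {M N : Matrix α α F} (h : ∀ v, M *ᵥ v = N *ᵥ v) : M = N :=
  Matrix.toLin'.injective (LinearMap.ext fun v => by rw [Matrix.toLin'_apply, Matrix.toLin'_apply, h v])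

theorem outer_mul (a b c d : α → F) : outer f a b * outer f c d = f b c • outer f a d := mat_ext fun v => by
  rw [← Matrix.mulVec_mulVec, outer_mulVec, outer_mulVec, Matrix.smul_mulVec, outer_mulVec, smul_right, smul_smul,
    mul_comm]

theorem adj_outer (hf : IsHerm f) (a b : α → F) : Adj f (outer f a b) (outer f b a) := fun u v => by
  rw [outer_mulVec, outer_mulVec, smul_left, smul_right, hf.symm, mul_comm]

theorem adj_symm (hf : IsHerm f) {θ θ' : Matrix α α F} (h : Adj f θ θ') : Adj f θ' θ := fun a z => by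
  rw [← hf.symm, ← h, hf.symm]

theorem adj_unique (hf : IsHerm f) {θ θ' θ'' : Matrix α α F} (h : Adj f θ θ') (h' : Adj f θ θ'') : θ' = θ'' :=
  matrix_ext_f hf fun a z => by rw [← h, ← h']

/-- A skew element: its adjoint is its opposite. -/
def Skew (f : (α → F) →ₛₗ[σ] (α → F) →ₗ[F] F) (θ : Matrix α α F) : Prop := Adj f θ (-θ)

theorem Skew.eq {θ : Matrix α α F} (h : Skew f θ) (a z : α → F) : f (θ *ᵥ a) z = -f a (θ *ᵥ z) := by
  rw [h, Matrix.neg_mulVec, map_neg]

theorem exists_common (hf : IsHerm f) {u v : α → F} (hu0 : u ≠ 0) (hu : f u u = 0) (hv0 : v ≠ 0) (hv : f v v = 0) :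
    ∃ x, f x x = 0 ∧ f u x ≠ 0 ∧ f v x ≠ 0 := by
  obtain ⟨θ, hθ0, hθ⟩ := hf.exists_skew
  obtain ⟨p, hp1, hp⟩ := hf.exists_isotropic_partner hu0 hu
  by_cases h1 : f v p = 0
  swap
  · exact ⟨p, hp, by rw [hp1]; exact one_ne_zero, h1⟩
  obtain ⟨r, hr1, hr⟩ := hf.exists_isotropic_partner hv0 hv
  by_cases h2 : f u r = 0
  swap
  · exact ⟨r, hr, h2, by rw [hr1]; exact one_ne_zero⟩
  obtain ⟨c, hc0, hc⟩ : ∃ c : F, c ≠ 0 ∧ c * f p r + σ (c * f p r) = 0 := by
    by_cases h3 : f p r = 0
    · exact ⟨1, one_ne_zero, by rw [h3, mul_zero, map_zero, add_zero]⟩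
    · exact ⟨θ / f p r, div_ne_zero hθ0 h3, by rw [div_mul_cancel₀ _ h3, hθ]⟩
  refine ⟨p + c • r, ?_, ?_, ?_⟩
  · simp only [map_add, LinearMap.add_apply, smul_left, smul_right, hp, hr]
    rw [← hf.symm p r]
    rw [map_mul] at hc
    linear_combination hc
  · rw [map_add, smul_right, hp1, h2, mul_zero, add_zero]; exact one_ne_zero
  · rw [map_add, smul_right, h1, hr1, mul_one, zero_add]; exact hc0

/-- A skew map without anisotropic values on isotropic vectors is a scalar. -/
theorem scalar_of_iso_zero [Finite F] (hf : IsHerm f) (h2 : 2 ≤ Fintype.card α) {θ : Matrix α α F} (hθ : Skew f θ)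
    (h : ∀ e, f e e = 0 → f e (θ *ᵥ e) = 0) : ∃ c : F, θ = c • 1 := by
  classical
  obtain ⟨s, hs0, hs⟩ := hf.exists_skew
  have hs' : σ s = -s := eq_neg_of_add_eq_zero_right hs
  have hflip : ∀ x y, f y (θ *ᵥ x) = -σ (f x (θ *ᵥ y)) := fun x y => by
    rw [← hf.symm (θ *ᵥ x) y, hθ.eq, map_neg]
  have hpair : ∀ u v, f u u = 0 → f v v = 0 → f u v = 1 → f u (θ *ᵥ v) = f v (θ *ᵥ u) := by
    intro u v hu hv huv
    have hvu : f v u = 1 := by rw [← hf.symm, huv, map_one]
    have h1 := h (u + s • v) (by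
      simp only [map_add, LinearMap.add_apply, smul_left, smul_right, hu, hv, huv, hvu, hs']
      ring)
    simp only [Matrix.mulVec_add, Matrix.mulVec_smul, map_add, LinearMap.add_apply, smul_left, smul_right, h u hu,
      h v hv, hs', mul_zero, add_zero, zero_add] at h1
    have h2 : s * (f u (θ *ᵥ v) - f v (θ *ᵥ u)) = 0 := by linear_combination h1
    exact sub_eq_zero.1 ((mul_eq_zero.1 h2).resolve_left hs0)
  -- every isotropic vector is an eigenvector
  have heig : ∀ e p, f e e = 0 → f p p = 0 → f e p = 1 → θ *ᵥ e = f p (θ *ᵥ e) • e := by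
    intro e p he hp hep
    have hpe : f p e = 1 := by rw [← hf.symm, hep, map_one]
    have hperp : ∀ r, f e r = 0 → f p r = 0 → f r (θ *ᵥ e) = 0 := by
      intro r her hpr
      have key : ∀ c : F, c * f e (θ *ᵥ r) = σ c * f r (θ *ᵥ e) := by
        intro c
        obtain ⟨t, ht⟩ := hf.invol.exists_trace_eq (μ := -f (c • r) (c • r)) (by rw [map_neg, hf.self_fixed])
        set v := c • r + t • e + p
        have hre : f r e = 0 := hf.eq_zero_symm her
        have hrp : f r p = 0 := hf.eq_zero_symm hpr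
        have hev : f e v = 1 := by
          simp only [v, map_add, smul_right, her, he, hep, mul_zero, add_zero, zero_add]
        have hvv : f v v = 0 := by
          simp only [smul_left, smul_right] at ht
          simp only [v, map_add, LinearMap.add_apply, smul_left, smul_right, her, hre, hrp, hpr, he, hep, hpe, hp]
          linear_combination ht
        have h1 := hpair e v he hvv hev
        simp only [v, Matrix.mulVec_add, Matrix.mulVec_smul, map_add, LinearMap.add_apply, smul_left, smul_right,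
          h e he, mul_zero, add_zero] at h1
        rw [hpair e p he hp hep] at h1
        linear_combination h1
      have k1 := key 1
      rw [map_one, one_mul, one_mul] at k1
      have k2 := key s
      rw [hs', k1] at k2
      have k3 : (s + s) * f r (θ *ᵥ e) = 0 := by linear_combination k2
      by_cases hss : s + s = 0
      · -- a multiplier moved by the involution
        obtain ⟨c, hc⟩ := hf.invol.exists_ne
        have k4 := key c
        rw [k1] at k4
        have k5 : (c - σ c) * f r (θ *ᵥ e) = 0 := by linear_combination k4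
        exact (mul_eq_zero.1 k5).resolve_left (sub_ne_zero.2 (Ne.symm hc))
      · exact (mul_eq_zero.1 k3).resolve_left hss
    rw [← sub_eq_zero]
    refine hf.nondeg _ fun x => ?_
    set r := x - f p x • e - f e x • p
    have h1 := hperp r (by simp [r, he, hep]) (by simp [r, hp, hpe])
    rw [← hf.symm, map_eq_zero_iff σ σ.injective, map_sub, smul_right, sub_eq_zero]
    simp only [r, map_sub, LinearMap.sub_apply, smul_left, h e he, mul_zero, sub_zero, sub_eq_zero, hf.symm] at h1
    rw [h1, mul_comm]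
  have hnb : ∀ e p, f e e = 0 → f p p = 0 → f e p ≠ 0 → ∃ μ : F, θ *ᵥ e = μ • e ∧ θ *ᵥ p = μ • p := by
    intro e p he hp hep
    set p' := (f e p)⁻¹ • p
    have hp' : f p' p' = 0 := by simp only [p', smul_left, smul_right, hp, mul_zero]
    have hep' : f e p' = 1 := by rw [smul_right, inv_mul_cancel₀ hep]
    have hpe' : f p' e = 1 := by rw [← hf.symm, hep', map_one]
    refine ⟨f p' (θ *ᵥ e), heig e p' he hp' hep', ?_⟩
    have h1 := heig p' e hp' he hpe'
    rw [hpair e p' he hp' hep'] at h1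
    rw [show p = f e p • p' by simp only [p']; rw [smul_inv_smul₀ hep], Matrix.mulVec_smul, h1, smul_comm]
  obtain ⟨e₀, he₀0, he₀⟩ := hf.exists_isotropic (by rw [Module.finrank_fintype_fun_eq_card]; exact h2)
  obtain ⟨p₀, hp₀1, hp₀⟩ := hf.exists_isotropic_partner he₀0 he₀
  obtain ⟨μ, hμ, hμ'⟩ := hnb e₀ p₀ he₀ hp₀ (by rw [hp₀1]; exact one_ne_zero)
  refine ⟨μ, mat_ext fun v => ?_⟩
  rw [Matrix.smul_mulVec, Matrix.one_mulVec]
  have hmem := span_isotropic hf ⊤ (Submodule.mem_top (x := e₀)) (Submodule.mem_top (x := p₀)) he₀ hp₀ hp₀1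
    (Submodule.mem_top (x := v))
  induction hmem using Submodule.span_induction with
  | mem u hu =>
    by_cases hu0 : u = 0
    · simp [hu0]
    obtain ⟨x, hx, hex, hux⟩ := exists_common hf he₀0 he₀ hu0 hu.2
    obtain ⟨ν, hν, hνx⟩ := hnb e₀ x he₀ hx hex
    obtain ⟨κ, hκ, hκx⟩ := hnb u x hu.2 hx hux
    have e1 : ν = μ := smul_left_injective F he₀0 (hν.symm.trans hμ)
    have hx0 : x ≠ 0 := fun e => hex (by rw [e, map_zero])
    have e2 : κ = ν := smul_left_injective F hx0 (hκx.symm.trans hνx)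
    rw [hκ, e2, e1]
  | zero => simp
  | add a b _ _ ha hb => rw [Matrix.mulVec_add, ha, hb, smul_add]
  | smul c a _ ha => rw [Matrix.mulVec_smul, ha, smul_comm]

theorem eq_zero_or_one_of_card [Finite F] (hq : Nat.card (fixedSub σ) = 2) {x : F} (hx : σ x = x) :
    x = 0 ∨ x = 1 := by
  by_contra! h
  have : Fintype (fixedSub σ) := Fintype.ofFinite _
  classical
  let y : fixedSub σ := ⟨x, hx⟩
  have hy0 : (0 : fixedSub σ) ≠ y := fun e => h.1 (congrArg Subtype.val e).symm
  have hy1 : (1 : fixedSub σ) ≠ y := fun e => h.2 (congrArg Subtype.val e).symm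
  have h3 := Finset.card_le_card (Finset.subset_univ ({0, 1, y} : Finset (fixedSub σ)))
  rw [Finset.card_univ, ← Nat.card_eq_fintype_card, hq, Finset.card_eq_three.2
    ⟨0, 1, y, zero_ne_one, hy0, hy1, rfl⟩] at h3
  omega

theorem transvection_props [Finite F] (hf : IsHerm f) {e : α → F} (he : f e e = 0) {c : F} (hc : c + σ c = 0) :
    (∀ u v, f ((1 + c • outer f e e) *ᵥ u) ((1 + c • outer f e e) *ᵥ v) = f u v) ∧
      (1 + c • outer f e e).det = 1 ∧ (1 - c • outer f e e) * (1 + c • outer f e e) = 1 := by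
  have hsq : (c • outer f e e) * (c • outer f e e) = 0 := by
    rw [smul_mul_assoc, mul_smul_comm, outer_mul, he, zero_smul, smul_zero, smul_zero]
  refine ⟨fun u v => ?_, det_one_add_sqzero hsq, ?_⟩
  · simp only [Matrix.add_mulVec, Matrix.one_mulVec, Matrix.smul_mulVec, outer_mulVec, smul_smul, map_add,
      LinearMap.add_apply, smul_left, smul_right, he, map_mul, hf.symm]
    linear_combination (f u e * f e v) * hc
  · rw [sub_mul, one_mul, mul_add, mul_one, hsq, add_zero, add_sub_cancel_right]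

/-- An invariant additive group of skew elements with an element outside the scalars. -/
structure SkewSet (f : (α → F) →ₛₗ[σ] (α → F) →ₗ[F] F) (S : Matrix α α F → Prop) : Prop where
  skew : ∀ θ, S θ → Skew f θ
  add : ∀ θ τ, S θ → S τ → S (θ + τ)
  smul : ∀ (c : F) θ, σ c = c → S θ → S (c • θ)
  one : ∀ c : F, c + σ c = 0 → S (c • 1)
  bracket : ∀ (c : F) θ τ, S θ → S τ → S (σ c • (θ * τ) - c • (τ * θ))
  conj : ∀ (a a' : Matrix α α F), (∀ u v, f (a *ᵥ u) (a *ᵥ v) = f u v) → a.det = 1 → a' * a = 1 →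
    ∀ θ, S θ → S (a * θ * a')

namespace SkewSet

variable {S : Matrix α α F → Prop} (hS : SkewSet f S) (hf : IsHerm f)
include hS hf

theorem span_mul {x y : Matrix α α F} (hx : x ∈ Submodule.span F {θ | S θ}) (hy : y ∈ Submodule.span F {θ | S θ}) :
    x * y ∈ Submodule.span F {θ | S θ} := by
  induction hx using Submodule.span_induction with
  | zero => rw [zero_mul]; exact zero_mem _
  | add a b _ _ ha hb => rw [add_mul]; exact add_mem ha hb
  | smul c a _ ha => rw [smul_mul_assoc]; exact Submodule.smul_mem _ _ ha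
  | mem θ hθ =>
    induction hy using Submodule.span_induction with
    | zero => rw [mul_zero]; exact zero_mem _
    | add a b _ _ ha hb => rw [mul_add]; exact add_mem ha hb
    | smul c a _ ha => rw [mul_smul_comm]; exact Submodule.smul_mem _ _ ha
    | mem τ hτ =>
      obtain ⟨c, hc⟩ := hf.invol.exists_ne
      have h1 := Submodule.subset_span (R := F) (hS.bracket 1 θ τ hθ hτ :
        σ 1 • (θ * τ) - (1 : F) • (τ * θ) ∈ {θ | S θ})
      have h2 := Submodule.subset_span (R := F) (hS.bracket c θ τ hθ hτ :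
        σ c • (θ * τ) - c • (τ * θ) ∈ {θ | S θ})
      have h3 := Submodule.smul_mem _ (σ c - c)⁻¹ (Submodule.sub_mem _ h2 (Submodule.smul_mem _ c h1))
      rw [map_one, one_smul, one_smul, show σ c • (θ * τ) - c • (τ * θ) - c • (θ * τ - τ * θ) =
        (σ c - c) • (θ * τ) by module, inv_smul_smul₀ (sub_ne_zero.2 hc)] at h3
      exact h3

theorem one_mem_span : (1 : Matrix α α F) ∈ Submodule.span F {θ | S θ} := by
  obtain ⟨s, hs0, hs⟩ := hf.exists_skew
  have h := Submodule.smul_mem _ s⁻¹ (Submodule.subset_span (R := F) (hS.one s hs : s • 1 ∈ {θ | S θ}))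
  rwa [inv_smul_smul₀ hs0] at h

/-- The difference by a transvection conjugation. -/
theorem delta [Finite F] {θ : Matrix α α F} (hθ : S θ) {e : α → F} (he : f e e = 0) {c : F} (hc : c + σ c = 0) :
    S (c • (outer f e e * θ - θ * outer f e e) - (c * c * f e (θ *ᵥ e)) • outer f e e) := by
  obtain ⟨h1, h2, h3⟩ := transvection_props hf he hc
  have h := hS.add _ _ (hS.conj _ _ h1 h2 h3 θ hθ) (hS.smul (-1) θ (by simp) hθ)
  have e1 : outer f e e * θ * outer f e e = f e (θ *ᵥ e) • outer f e e := mat_ext fun v => by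
    simp only [← Matrix.mulVec_mulVec, outer_mulVec, Matrix.mulVec_smul, Matrix.smul_mulVec, smul_right, smul_smul,
      mul_comm]
  convert h using 1
  rw [mul_sub, mul_one, add_mul, one_mul, add_mul]
  simp only [smul_mul_assoc, mul_smul_comm, smul_smul, e1]
  module

/-- Some isotropic rank one element. -/
theorem exists_outer [Finite F] (h2 : 2 ≤ Fintype.card α)
    (hex : Nat.card (fixedSub σ) = 2 → 3 ≤ Fintype.card α) {θ : Matrix α α F} (hθ : S θ) (hns : ∀ c : F, θ ≠ c • 1) :
    ∃ e, e ≠ 0 ∧ f e e = 0 ∧ outer f e e ∈ Submodule.span F {θ | S θ} := by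
  classical
  set A := Submodule.span F {θ | S θ}
  have hin : ∀ {x}, S x → x ∈ A := fun hx => Submodule.subset_span hx
  obtain ⟨s, hs0, hs⟩ := hf.exists_skew
  by_cases hq : Nat.card (fixedSub σ) = 2
  swap
  · obtain ⟨l, hl, hl0, hl1⟩ : ∃ l : F, σ l = l ∧ l ≠ 0 ∧ l ≠ 1 := by
      by_contra! hall
      apply hq
      rw [Nat.card_eq_two_iff]
      refine ⟨0, 1, zero_ne_one, Set.eq_univ_iff_forall.2 fun x => ?_⟩
      by_cases hx0 : x = 0
      · exact Or.inl hx0
      · exact Or.inr (Subtype.ext (hall x x.2 fun e => hx0 (Subtype.ext e)))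
    obtain ⟨e, he, hne⟩ : ∃ e, f e e = 0 ∧ f e (θ *ᵥ e) ≠ 0 := by
      by_contra! hall
      obtain ⟨c, hc⟩ := scalar_of_iso_zero hf h2 (hS.skew θ hθ) hall
      exact hns c hc
    have he0 : e ≠ 0 := fun e0 => hne (by rw [e0, map_zero, LinearMap.zero_apply])
    refine ⟨e, he0, he, ?_⟩
    have hls : l * s + σ (l * s) = 0 := by rw [map_mul, hl, ← mul_add, hs, mul_zero]
    have h3 := A.sub_mem (hin (hS.delta hf hθ he hls)) (A.smul_mem l (hin (hS.delta hf hθ he hs)))
    set M := outer f e e
    rw [show (l * s) • (M * θ - θ * M) - (l * s * (l * s) * f e (θ *ᵥ e)) • M -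
      l • (s • (M * θ - θ * M) - (s * s * f e (θ *ᵥ e)) • M) = (-(l * (l - 1) * (s * s) * f e (θ *ᵥ e))) • M by
        module] at h3
    exact (A.smul_mem_iff (neg_ne_zero.2 (mul_ne_zero (mul_ne_zero (mul_ne_zero hl0 (sub_ne_zero.2 hl1))
      (mul_ne_zero hs0 hs0)) hne))).1 h3
  -- the field with four elements
  have h3α := hex hq
  have h11 : (1 : F) + 1 = 0 := by
    rcases eq_zero_or_one_of_card hq (x := (1 : F) + 1) (by simp) with h | h
    · exact h
    · exact absurd (by linear_combination h) (one_ne_zero (α := F))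
  have hadd : ∀ x : F, x + x = 0 := fun x => by rw [← two_mul, ← one_add_one_eq_two, h11, zero_mul]
  have hneg : ∀ M : Matrix α α F, -M = M := fun M => by
    ext i j
    rw [Matrix.neg_apply]
    linear_combination -(hadd (M i j))
  have hvneg : ∀ x : α → F, x + x = 0 := fun x => funext fun i => hadd (x i)
  have hone : (1 : F) + σ 1 = 0 := by rw [map_one, h11]
  by_contra! hcon
  -- the values on isotropic vectors
  have key : ∀ τ, S τ → ∀ e, f e e = 0 → e ≠ 0 →
      f e (τ *ᵥ (τ *ᵥ e)) = f e (τ *ᵥ e) ∧ (f e (τ *ᵥ e) = 0 ∨ f e (τ *ᵥ e) = 1) := by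
    intro τ hτ e he he0
    set R := outer f e e
    set a := f e (τ *ᵥ e)
    set b := f e (τ *ᵥ (τ *ᵥ e))
    have ha : σ a = a := by
      show σ (f e (τ *ᵥ e)) = _
      rw [hf.symm, (hS.skew τ hτ).eq]
      linear_combination -(hadd (f e (τ *ᵥ e)))
    have ha01 := eq_zero_or_one_of_card hq ha
    refine ⟨?_, ha01⟩
    have hD := hin (hS.delta hf hτ he hone)
    set D := (1 : F) • (R * τ - τ * R) - (1 * 1 * a) • R
    have e1 : a • D + D * D = (a * a + b) • R := mat_ext fun v => by
      simp only [D, R, one_smul, one_mul, Matrix.add_mulVec, Matrix.smul_mulVec, ← Matrix.mulVec_mulVec,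
        Matrix.sub_mulVec, outer_mulVec, Matrix.mulVec_sub, Matrix.mulVec_smul, map_sub, map_smul, smul_eq_mul,
        smul_right, he]
      funext i
      simp only [Pi.add_apply, Pi.sub_apply, Pi.smul_apply, smul_eq_mul]
      simp only [a, b]
      linear_combination -(hadd (f e v * f e (τ *ᵥ e) * (τ *ᵥ e) i)) - hadd (f e v * f e (τ *ᵥ (τ *ᵥ e)) * e i) +
        hadd (f e (τ *ᵥ v) * f e (τ *ᵥ e) * e i) + hadd (f e v * f e (τ *ᵥ e) * (τ *ᵥ e) i) -
        hadd (f e v * f e (τ *ᵥ e) * f e (τ *ᵥ e) * e i)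
    have h1 : (a * a + b) • R ∈ A := e1 ▸ A.add_mem (A.smul_mem _ hD) (hS.span_mul hf hD hD)
    have h2 : a * a + b = 0 := by
      by_contra hab
      exact hcon e he0 he ((A.smul_mem_iff hab).1 h1)
    rcases ha01 with h | h <;> rw [h] at h2 ⊢
    · linear_combination h2
    · linear_combination h2 - h11
  -- quadratic equations
  have hquad : ∀ τ, S τ → ∃ κ : F, (κ = 0 ∨ κ = 1) ∧ τ * τ + τ = κ • 1 := by
    intro τ hτ
    have hsk : Skew f (τ * τ + τ) := fun u v => by
      rw [hneg, Matrix.add_mulVec, Matrix.add_mulVec, map_add, LinearMap.add_apply, map_add, ← Matrix.mulVec_mulVec,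
        ← Matrix.mulVec_mulVec, (hS.skew τ hτ).eq, (hS.skew τ hτ).eq, (hS.skew τ hτ).eq]
      linear_combination -(hadd (f u (τ *ᵥ v)))
    obtain ⟨κ, hκ⟩ := scalar_of_iso_zero hf h2 hsk fun e he => by
      by_cases he0 : e = 0
      · simp [he0]
      rw [Matrix.add_mulVec, map_add, ← Matrix.mulVec_mulVec, (key τ hτ e he he0).1]
      exact hadd _
    refine ⟨κ, ?_, hκ⟩
    obtain ⟨i⟩ : Nonempty α := Fintype.card_pos_iff.1 (by omega)
    obtain ⟨z, hz⟩ := hf.exists_apply_eq_one (x := Pi.single i 1) (fun e => by simpa using congrFun e i)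
    refine eq_zero_or_one_of_card hq ?_
    have h4 := hsk (Pi.single i 1) z
    rw [hneg, hκ, Matrix.smul_mulVec, Matrix.smul_mulVec, Matrix.one_mulVec, Matrix.one_mulVec, smul_left,
      smul_right, hz, mul_one, mul_one] at h4
    exact h4
  -- isotropic vectors with value zero are eigenvectors
  have heig : ∀ τ, S τ → ∀ e, f e e = 0 → e ≠ 0 → f e (τ *ᵥ e) = 0 → ∃ μ : F, τ *ᵥ e = μ • e := by
    intro τ hτ e he he0 hval
    set R := outer f e e
    have hD := hS.delta hf hτ he hone
    rw [hval, mul_zero, zero_smul, sub_zero, one_smul] at hD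
    obtain ⟨κ, hκ, hκe⟩ := hquad _ hD
    have hRv : ∀ v, R *ᵥ v = f e v • e := fun v => outer_mulVec e e v
    have hRtt : f e (τ *ᵥ (τ *ᵥ e)) = 0 := (key τ hτ e he he0).1.trans hval
    have hD2 : (R * τ - τ * R) * (R * τ - τ * R) = 0 := mat_ext fun v => by
      simp only [Matrix.zero_mulVec, ← Matrix.mulVec_mulVec, Matrix.sub_mulVec, hRv, Matrix.mulVec_sub,
        Matrix.mulVec_smul, map_sub, map_smul, smul_eq_mul, smul_right, he, hval, hRtt, mul_zero, sub_self, zero_smul,
        smul_zero, zero_sub, neg_zero]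
      simp
    rw [hD2, zero_add] at hκe
    have hD0 : R * τ - τ * R = 0 := by
      rcases hκ with h | h
      · rw [hκe, h, zero_smul]
      · rw [hκe, h, one_smul, mul_one] at hD2
        rw [hκe, h, one_smul]
        exact hD2
    obtain ⟨p, hp, -⟩ := hf.exists_isotropic_partner he0 he
    refine ⟨f e (τ *ᵥ p), ?_⟩
    have h4 := congrArg (fun M : Matrix α α F => M *ᵥ p) hD0
    simp only [Matrix.sub_mulVec, ← Matrix.mulVec_mulVec, hRv, hp, one_smul, Matrix.zero_mulVec, sub_eq_zero] at h4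
    exact h4.symm
  obtain ⟨κ, hκ01, hκ⟩ := hquad θ hθ
  rcases hκ01 with rfl | rfl
  swap
  · -- two totally isotropic eigenspaces
    obtain ⟨c, hc⟩ := hf.invol.exists_trace_eq (μ := (1 : F)) (map_one σ)
    have hc0 : c ≠ 0 := fun e => by rw [e, map_zero, add_zero] at hc; exact zero_ne_one hc
    have hcn : c * σ c = 1 := (eq_zero_or_one_of_card hq (hf.invol.norm_mem c)).resolve_left
      (mul_ne_zero hc0 (fun e => hc0 (IsInvol.apply_eq_zero_iff.1 e)))
    rw [one_smul] at hκ
    have hθθ : ∀ x, θ *ᵥ (θ *ᵥ x) = x + θ *ᵥ x := fun x => by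
      have h4 := congrArg (fun M : Matrix α α F => M *ᵥ x) hκ
      simp only [Matrix.add_mulVec, Matrix.one_mulVec, ← Matrix.mulVec_mulVec] at h4
      calc θ *ᵥ (θ *ᵥ x) = θ *ᵥ (θ *ᵥ x) + (θ *ᵥ x + θ *ᵥ x) := by rw [hvneg, add_zero]
        _ = _ := by rw [← add_assoc, h4]
    let W : F → Submodule F (α → F) := fun d => LinearMap.ker (θ.mulVecLin - d • LinearMap.id)
    have hW : ∀ {d x}, x ∈ W d ↔ θ *ᵥ x = d • x := fun {d x} => by
      simp only [W, LinearMap.mem_ker, LinearMap.sub_apply, LinearMap.smul_apply, LinearMap.id_apply,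
        Matrix.mulVecLin_apply, sub_eq_zero]
    have hperp : ∀ d, d + σ d ≠ 0 → ∀ x ∈ W d, ∀ y ∈ W d, f x y = 0 := by
      intro d hd x hx y hy
      have h4 := (hS.skew θ hθ).eq x y
      rw [hW.1 hx, hW.1 hy, smul_left, smul_right] at h4
      have h5 : (d + σ d) * f x y = 0 := by linear_combination h4
      exact (mul_eq_zero.1 h5).resolve_left hd
    have hdec : ∀ x, ∃ x₁ ∈ W c, ∃ x₂ ∈ W (σ c), x = x₁ + x₂ := by
      intro x
      refine ⟨θ *ᵥ x + σ c • x, hW.2 ?_, θ *ᵥ x + c • x, hW.2 ?_, ?_⟩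
      · rw [Matrix.mulVec_add, Matrix.mulVec_smul, hθθ]
        funext i
        simp only [Pi.add_apply, Pi.smul_apply, smul_eq_mul]
        linear_combination -(x i) * hcn + hadd ((θ *ᵥ x) i) * σ c - (θ *ᵥ x) i * hc
      · rw [Matrix.mulVec_add, Matrix.mulVec_smul, hθθ]
        funext i
        simp only [Pi.add_apply, Pi.smul_apply, smul_eq_mul]
        linear_combination -(x i) * hcn + hadd ((θ *ᵥ x) i) * c - (θ *ᵥ x) i * hc
      · funext i
        simp only [Pi.add_apply, Pi.smul_apply, smul_eq_mul]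
        linear_combination -(hadd ((θ *ᵥ x) i)) - x i * hc
    have hc1 : c + σ c ≠ 0 := by rw [hc]; exact one_ne_zero
    have hc2 : σ c + σ (σ c) ≠ 0 := by rw [hf.invol.invol, add_comm]; exact hc1
    have hle : ∀ d d', (d = c ∧ d' = σ c) ∨ (d = σ c ∧ d' = c) → finrank F (W d) ≤ finrank F (W d') := by
      intro d d' hdd
      let T : W d' →ₗ[F] (W d →ₛₗ[σ] F) :=
        { toFun := fun y =>
            { toFun := fun x => f (x : α → F) (y : α → F)
              map_add' := fun a b => by simp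
              map_smul' := fun r a => by simp [smul_left] }
          map_add' := fun a b => LinearMap.ext fun x => by simp
          map_smul' := fun r a => LinearMap.ext fun x => by simp }
      let bW := Module.finBasis F (W d)
      let T' : W d' →ₗ[F] (Fin (finrank F (W d)) → F) :=
        { toFun := fun y i => T y (bW i)
          map_add' := fun a b => by funext i; simp
          map_smul' := fun r a => by funext i; simp }
      have hsurj : Function.Surjective T' := by
        rw [← LinearMap.range_eq_top]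
        by_contra hne
        obtain ⟨z, hz⟩ : ∃ z, z ∉ LinearMap.range T' := by
          by_contra! hall
          exact hne (eq_top_iff.2 fun z _ => hall z)
        obtain ⟨χ, hχ0, hχ⟩ := Submodule.exists_dual_map_eq_bot_of_notMem hz inferInstance
        refine hχ0 ?_
        suffices hz0 : χ = 0 by rw [hz0, LinearMap.zero_apply]
        set x : W d := ∑ i, σ (χ (Pi.single i 1)) • bW i
        have hx : x = 0 := Subtype.ext (hf.nondeg _ fun y => by
          have hd' : d + σ d ≠ 0 := by
            rcases hdd with ⟨rfl, -⟩ | ⟨rfl, -⟩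
            · exact hc1
            · exact hc2
          obtain ⟨y₁, hy₁, y₂, hy₂, rfl⟩ := hdec y
          obtain ⟨y₃, hy₃, y₄, hy₄, e4⟩ : ∃ y₃ ∈ W d, ∃ y₄ ∈ W d', y₁ + y₂ = y₃ + y₄ := by
            rcases hdd with ⟨rfl, rfl⟩ | ⟨rfl, rfl⟩
            · exact ⟨y₁, hy₁, y₂, hy₂, rfl⟩
            · exact ⟨y₂, hy₂, y₁, hy₁, add_comm _ _⟩
          rw [e4, map_add, hperp d hd' _ x.2 _ hy₃, zero_add]
          have h4 : χ (T' ⟨y₄, hy₄⟩) = 0 := by
            have : χ (T' ⟨y₄, hy₄⟩) ∈ (LinearMap.range T').map χ := ⟨_, ⟨_, rfl⟩, rfl⟩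
            rwa [hχ, Submodule.mem_bot] at this
          rw [pi_eq_sum_univ' (T' ⟨y₄, hy₄⟩), map_sum] at h4
          rw [← h4]
          simp only [x, Submodule.coe_sum, Submodule.coe_smul, map_sum, LinearMap.sum_apply, smul_left,
            hf.invol.invol, map_smul, smul_eq_mul]
          exact Finset.sum_congr rfl fun i _ => mul_comm _ _)
        refine LinearMap.pi_ext' fun i => LinearMap.ext_ring ?_
        have h5 := Fintype.linearIndependent_iff.1 bW.linearIndependent (fun i => σ (χ (Pi.single i 1))) hx i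
        simpa using IsInvol.apply_eq_zero_iff.1 h5
      have h6 := LinearMap.finrank_range_of_inj (f := (LinearMap.id : (Fin (finrank F (W d)) → F) →ₗ[F] _))
        Function.injective_id
      have h7 := LinearMap.finrank_range_add_finrank_ker T'
      rw [LinearMap.range_eq_top.2 hsurj, finrank_top, Module.finrank_fin_fun] at h7
      omega
    have hsum : Fintype.card α ≤ finrank F (W c) + finrank F (W (σ c)) := by
      have h4 : (⊤ : Submodule F (α → F)) ≤ W c ⊔ W (σ c) := fun x _ => by
        obtain ⟨x₁, h1, x₂, h2', rfl⟩ := hdec x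
        exact Submodule.add_mem_sup h1 h2'
      have h5 := (Submodule.finrank_mono h4).trans (Submodule.finrank_add_le_finrank_add_finrank _ _)
      rwa [finrank_top, Module.finrank_fintype_fun_eq_card] at h5
    have hd1 := hle c (σ c) (Or.inl ⟨rfl, rfl⟩)
    have hd2 := hle (σ c) c (Or.inr ⟨rfl, rfl⟩)
    obtain ⟨x₁, hx₁, hx₁0⟩ := Submodule.exists_mem_ne_zero_of_ne_bot (p := W c) (fun e => by
      rw [e, finrank_bot] at hsum hd2; omega)
    obtain ⟨⟨x₂, hx₂⟩, hx₂p, hx₂0⟩ := Submodule.exists_mem_ne_zero_of_ne_bot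
      (p := LinearMap.ker ((f x₁).comp (W (σ c)).subtype)) (fun e => by
        have h4 := LinearMap.finrank_range_add_finrank_ker ((f x₁).comp (W (σ c)).subtype)
        have h5 : finrank F (LinearMap.range ((f x₁).comp (W (σ c)).subtype)) ≤ 1 :=
          (Submodule.finrank_le _).trans_eq (Module.finrank_self F)
        rw [e, finrank_bot] at h4
        omega)
    have h12 : f x₁ x₂ = 0 := LinearMap.mem_ker.1 hx₂p
    have h21 : f x₂ x₁ = 0 := hf.eq_zero_symm h12
    have h11' := hperp c hc1 x₁ hx₁ x₁ hx₁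
    have h22 := hperp _ hc2 x₂ hx₂ x₂ hx₂
    have hx₂0' : x₂ ≠ 0 := fun e => hx₂0 (Subtype.ext e)
    have he0 : x₁ + x₂ ≠ 0 := by
      intro e
      have h4 := congrArg (θ *ᵥ ·) e
      simp only [Matrix.mulVec_add, hW.1 hx₁, hW.1 hx₂, Matrix.mulVec_zero] at h4
      have e' : x₂ = -x₁ := eq_neg_of_add_eq_zero_right e
      rw [e', smul_neg, ← sub_eq_add_neg, ← sub_smul] at h4
      refine hx₁0 ((smul_eq_zero.1 h4).resolve_left fun e5 => ?_)
      rw [sub_eq_zero] at e5
      rw [← e5, hadd] at hc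
      exact zero_ne_one hc
    obtain ⟨μ, hμ⟩ := heig θ hθ (x₁ + x₂) (by simp [h12, h21, h11', h22]) he0 (by
      simp [Matrix.mulVec_add, hW.1 hx₁, hW.1 hx₂, smul_right, h12, h21, h11', h22])
    rw [Matrix.mulVec_add, hW.1 hx₁, hW.1 hx₂, smul_add] at hμ
    have hkey : ∀ d, θ *ᵥ ((c - d) • x₁ + (σ c - d) • x₂) = c • ((c - d) • x₁) + σ c • ((σ c - d) • x₂) :=
      fun d => by rw [Matrix.mulVec_add, Matrix.mulVec_smul, Matrix.mulVec_smul, hW.1 hx₁, hW.1 hx₂,
        smul_comm c, smul_comm (σ c)]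
    have hz : (c - μ) • x₁ + (σ c - μ) • x₂ = 0 := by rw [sub_smul, sub_smul]; linear_combination (norm := module) hμ
    have h4 := hkey μ
    rw [hz, Matrix.mulVec_zero] at h4
    have h5 : (c - μ) • x₁ = -((σ c - μ) • x₂) := eq_neg_of_add_eq_zero_left hz
    rw [h5, smul_neg, neg_add_eq_sub, ← sub_smul, eq_comm, smul_smul, smul_eq_zero] at h4
    have h6 := (mul_eq_zero.1 (h4.resolve_right hx₂0')).resolve_left (fun e5 => by
      rw [sub_eq_zero] at e5
      rw [e5, hadd] at hc
      exact zero_ne_one hc)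
    rw [h6, zero_smul, neg_zero, smul_eq_zero] at h5
    refine absurd (h5.resolve_right hx₁0) fun e5 => ?_
    rw [sub_eq_zero] at h6 e5
    rw [h6, ← e5, hadd] at hc
    exact zero_ne_one hc
  -- idempotent elements
  rw [zero_smul] at hκ
  have hproj : ∀ τ : Matrix α α F, S τ → τ * τ + τ = 0 → ∀ x, τ *ᵥ (τ *ᵥ x) = τ *ᵥ x := fun τ _ h4 x => by
    have h5 := congrArg (fun M : Matrix α α F => M *ᵥ x) h4
    simp only [Matrix.add_mulVec, Matrix.zero_mulVec, ← Matrix.mulVec_mulVec] at h5
    rw [eq_neg_of_add_eq_zero_left h5, neg_eq_iff_add_eq_zero, hvneg]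
  have hone' : S (1 + θ) := by
    have h4 := hS.add _ _ (hS.one 1 hone) hθ
    rwa [one_smul] at h4
  have hκ' : (1 + θ) * (1 + θ) + (1 + θ) = 0 := by
    rw [show (1 + θ) * (1 + θ) + (1 + θ) = (1 + 1 : F) • (1 + θ) + (θ * θ + θ) by
      rw [add_smul, one_smul]; noncomm_ring, h11, zero_smul, hκ, add_zero]
  -- one of the two summands is a line
  have hsmall : ∀ τ, S τ → τ * τ + τ = 0 → (∀ c : F, τ ≠ c • 1) →
      ∀ u u', τ *ᵥ u = u → f u u = 0 → τ *ᵥ u' = 0 → f u' u' = 0 → u = 0 ∨ u' = 0 := by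
    intro τ hτ _ _ u u' hu huu hu' hu'u'
    by_contra! hne
    have h1 : f u u' = 0 := by
      have h4 := (hS.skew τ hτ).eq u u'
      rwa [hu, hu', map_zero, neg_zero] at h4
    have h2 := hf.eq_zero_symm h1
    have he0 : u + u' ≠ 0 := fun e => hne.1 (by
      have h4 := congrArg (τ *ᵥ ·) e
      simpa [Matrix.mulVec_add, hu, hu'] using h4)
    obtain ⟨μ, hμ⟩ := heig τ hτ (u + u') (by simp [h1, h2, huu, hu'u']) he0 (by
      simp [Matrix.mulVec_add, hu, hu', h2, huu])
    rw [Matrix.mulVec_add, hu, hu', add_zero, smul_add] at hμ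
    have h4 := congrArg (τ *ᵥ ·) hμ
    simp only [Matrix.mulVec_add, Matrix.mulVec_smul, hu, hu', smul_zero, add_zero] at h4
    have hμ1 : μ = 1 := smul_left_injective F hne.1 (by simpa using h4.symm)
    rw [hμ1, one_smul, one_smul, left_eq_add] at hμ
    exact hne.2 hμ
  obtain ⟨τ, hτ, hτq, r, hr, hτr⟩ : ∃ τ, S τ ∧ τ * τ + τ = 0 ∧ ∃ r, f r r = 1 ∧ ∀ x, τ *ᵥ x = f r x • r := by
    have mk : ∀ τ, S τ → τ * τ + τ = 0 → (∀ c : F, τ ≠ c • 1) →
        (∀ u, τ *ᵥ u = u → f u u = 0 → u = 0) →
        ∃ τ, S τ ∧ τ * τ + τ = 0 ∧ ∃ r, f r r = 1 ∧ ∀ x, τ *ᵥ x = f r x • r := by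
      intro τ hτ hτq hτs hiso
      refine ⟨τ, hτ, hτq, ?_⟩
      set U := LinearMap.range τ.mulVecLin
      have hfix : ∀ u ∈ U, τ *ᵥ u = u := by
        rintro _ ⟨x, rfl⟩
        exact hproj τ hτ hτq x
      have hU : ∀ x ∈ U, (∀ y ∈ U, f x y = 0) → x = 0 := fun x hx hall => hiso x (hfix x hx) (hall x hx)
      have hdim : finrank F U ≤ 1 := by
        by_contra hlt
        obtain ⟨u, hu0, huu⟩ := (hf.restrict_herm hU).exists_isotropic (by omega)
        exact hu0 (Subtype.ext (hiso u (hfix u u.2) huu))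
      obtain ⟨x, hx⟩ : ∃ x, τ *ᵥ x ≠ 0 := by
        by_contra! hall
        exact hτs 0 (mat_ext fun v => by rw [zero_smul, Matrix.zero_mulVec, hall v])
      have hxU : τ *ᵥ x ∈ U := ⟨x, rfl⟩
      have hxx : f (τ *ᵥ x) (τ *ᵥ x) ≠ 0 := fun e => hx (hiso _ (hfix _ hxU) e)
      have hxx1 := (eq_zero_or_one_of_card hq (hf.self_fixed (τ *ᵥ x))).resolve_left hxx
      refine ⟨τ *ᵥ x, hxx1, fun y => ?_⟩
      have hspan : U = Submodule.span F {τ *ᵥ x} := (Submodule.eq_of_le_of_finrank_le
        (by rw [Submodule.span_le, Set.singleton_subset_iff]; exact hxU)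
        (by rw [finrank_span_singleton hx]; exact hdim)).symm
      have hm : τ *ᵥ y ∈ U := ⟨y, rfl⟩
      rw [hspan] at hm
      obtain ⟨d, hd⟩ := Submodule.mem_span_singleton.1 hm
      have h4 := (hS.skew τ hτ).eq (τ *ᵥ x) y
      rw [hfix _ hxU, ← hd, smul_right, hxx1, mul_one] at h4
      rw [← hd, h4, neg_eq_iff_add_eq_zero.2 (hadd d)]
    by_cases hA1 : ∀ u, θ *ᵥ u = u → f u u = 0 → u = 0
    · exact mk θ hθ hκ hns hA1
    · push Not at hA1
      obtain ⟨u₀, hu₀, hu₀', hu₀0⟩ := hA1
      refine mk (1 + θ) hone' hκ' (fun c hc => hns (c - 1) ?_) fun u hu huu => ?_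
      · rw [sub_smul, one_smul, ← hc, add_sub_cancel_left]
      · refine ((hsmall θ hθ hκ hns u₀ u hu₀ hu₀' ?_ huu).resolve_left hu₀0)
        rw [Matrix.add_mulVec, Matrix.one_mulVec, add_eq_left] at hu
        exact hu
  -- a conjugate line neither equal nor orthogonal
  have hr0 : f r r ≠ 0 := by rw [hr]; exact one_ne_zero
  have hH := hf.restrict_perp hr0
  obtain ⟨b, hb⟩ := hH.exists_orthonormal_basis rfl
  have hperpd : 2 ≤ finrank F (hf.perp r) := by
    have h4 := hf.finrank_perp hr0
    rw [Module.finrank_fintype_fun_eq_card] at h4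
    omega
  set u : α → F := ((b ⟨0, by omega⟩ : hf.perp r) : α → F)
  set u' : α → F := ((b ⟨1, by omega⟩ : hf.perp r) : α → F)
  have hb' : ∀ i j, f ((b i : hf.perp r) : α → F) (b j : hf.perp r) = if i = j then 1 else 0 := hb
  have hru : f r u = 0 := hf.mem_perp.1 (b _).2
  have hru' : f r u' = 0 := hf.mem_perp.1 (b _).2
  have huu : f u u = 1 := by simp [u, hb']
  have hu'u' : f u' u' = 1 := by simp [u', hb']
  have huu' : f u u' = 0 := by simp [u, u', hb', Fin.ext_iff]
  set r₂ := r + u + u'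
  have hrr₂ : f r r₂ = 1 := by simp [r₂, hru, hru', hr]
  have hur₂ : f u r₂ = 1 := by simp [r₂, huu, huu', hf.eq_zero_symm hru]
  have hr₂ : f r₂ r₂ = 1 := by
    simp only [r₂, map_add, LinearMap.add_apply, hr, hru, hru', huu, hu'u', huu', hf.eq_zero_symm hru,
      hf.eq_zero_symm hru', hf.eq_zero_symm huu', add_zero, zero_add]
    linear_combination hadd (1 : F)
  obtain ⟨gg, hgg, hgr⟩ := hf.exists_det_one_map (by rw [Module.finrank_fintype_fun_eq_card]; omega) hr0
    (y := r₂) (by rw [hr, hr₂])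
  set G := LinearMap.toMatrix' ((gg : (α → F) ≃ₗ[F] (α → F)) : (α → F) →ₗ[F] (α → F))
  set G' := LinearMap.toMatrix' ((gg : (α → F) ≃ₗ[F] (α → F)).symm : (α → F) →ₗ[F] (α → F))
  have hGv : ∀ v, G *ᵥ v = (gg : (α → F) ≃ₗ[F] (α → F)) v := fun v => LinearMap.toMatrix'_mulVec _ v
  have hG'v : ∀ v, G' *ᵥ v = (gg : (α → F) ≃ₗ[F] (α → F)).symm v := fun v => LinearMap.toMatrix'_mulVec _ v
  have hdet : G.det = 1 := by
    rw [LinearMap.det_toMatrix', ← LinearEquiv.coe_det]
    exact congrArg Units.val (MonoidHom.mem_ker.1 hgg)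
  have hτ₂ := hS.conj G G' (fun x y => by rw [hGv, hGv]; exact HU.map_eq gg x y) hdet
    (mat_ext fun v => by rw [← Matrix.mulVec_mulVec, hGv, hG'v, LinearEquiv.symm_apply_apply, Matrix.one_mulVec]) τ hτ
  have hτ₂v : ∀ x, (G * τ * G') *ᵥ x = f r₂ x • r₂ := fun x => by
    rw [← Matrix.mulVec_mulVec, ← Matrix.mulVec_mulVec, hτr, Matrix.mulVec_smul, hGv, hgr, hG'v]
    congr 1
    rw [← hgr]
    conv_rhs => rw [← LinearEquiv.apply_symm_apply (gg : (α → F) ≃ₗ[F] (α → F)) x]
    exact (HU.map_eq gg _ _).symm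
  obtain ⟨κ', -, hκ''⟩ := hquad _ (hS.add _ _ hτ hτ₂)
  obtain ⟨z, hz0, hz⟩ := TensorLinear.exists_perp ![phi f r, phi f r₂] (show 2 < Fintype.card α by omega)
  have hzr : f r z = 0 := by rw [← phi_dot, dotProduct_comm]; exact hz 0
  have hzr₂ : f r₂ z = 0 := by rw [← phi_dot, dotProduct_comm]; exact hz 1
  have hκ0 : κ' = 0 := by
    have h4 := congrArg (fun M : Matrix α α F => M *ᵥ z) hκ''
    simp only [Matrix.add_mulVec, ← Matrix.mulVec_mulVec, hτr, hτ₂v, hzr, hzr₂, zero_smul, add_zero, smul_zero,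
      Matrix.mulVec_zero, Matrix.smul_mulVec, Matrix.one_mulVec] at h4
    exact (smul_eq_zero.1 h4.symm).resolve_right hz0
  have hr₂r : f r₂ r = 1 := by rw [← hf.symm, hrr₂, map_one]
  have h4 := congrArg (fun M : Matrix α α F => f u (M *ᵥ r)) hκ''
  simp only [hκ0, zero_smul, Matrix.zero_mulVec, map_zero, Matrix.add_mulVec, ← Matrix.mulVec_mulVec, hτr, hτ₂v, hr,
    hr₂r, one_smul, map_add, hrr₂, hr₂, hur₂, hf.eq_zero_symm hru, zero_add] at h4
  refine one_ne_zero (α := F) ?_
  simp only [smul_add, map_add, smul_right, map_smul, smul_eq_mul, hf.eq_zero_symm hru, hur₂, h11, zero_mul] at h4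
  linear_combination h4

/-- **All skew elements lie in the set.** -/
theorem all_skew [Finite F] (h2 : 2 ≤ Fintype.card α) (hex : Nat.card (fixedSub σ) = 2 → 3 ≤ Fintype.card α)
    {θ : Matrix α α F} (hθ : S θ) (hns : ∀ c : F, θ ≠ c • 1) :
    (∀ x : Matrix α α F, x ∈ Submodule.span F {θ | S θ}) ∧ ∀ x, Skew f x → S x := by
  classical
  set A := Submodule.span F {θ | S θ}
  obtain ⟨e, he0, he, heA⟩ := hS.exists_outer hf h2 hex hθ hns
  obtain ⟨s, hs0, hs⟩ := hf.exists_skew
  -- conjugates of spanned elements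
  have hconjA : ∀ (a a' : Matrix α α F), (∀ u v, f (a *ᵥ u) (a *ᵥ v) = f u v) → a.det = 1 → a' * a = 1 →
      ∀ x ∈ A, a * x * a' ∈ A := by
    intro a a' h1 h2' h3 x hx
    induction hx using Submodule.span_induction with
    | mem τ hτ => exact Submodule.subset_span (hS.conj a a' h1 h2' h3 τ hτ)
    | zero => rw [mul_zero, zero_mul]; exact zero_mem _
    | add p r _ _ hp hr => rw [mul_add, add_mul]; exact add_mem hp hr
    | smul c p _ hp => rw [mul_smul_comm, smul_mul_assoc]; exact A.smul_mem c hp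
  have hnb : ∀ u v, f u u = 0 → f v v = 0 → f u v ≠ 0 → outer f u u ∈ A → outer f u v ∈ A ∧ outer f v v ∈ A := by
    intro u v hu hv huv hA
    obtain ⟨h1, h2', h3⟩ := transvection_props hf hv hs
    have h4 := hconjA _ _ h1 h2' h3 _ hA
    set t := u + (s * f v u) • v
    have e4 : (1 + s • outer f v v) * outer f u u * (1 - s • outer f v v) = outer f t t := mat_ext fun x => by
      simp only [← Matrix.mulVec_mulVec, Matrix.sub_mulVec, Matrix.one_mulVec, Matrix.smul_mulVec, outer_mulVec,
        Matrix.add_mulVec, map_sub, smul_right]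
      simp only [t, map_add, LinearMap.add_apply, smul_left, smul_right, map_mul, hf.symm]
      funext i
      simp only [Pi.add_apply, Pi.smul_apply, smul_eq_mul]
      linear_combination (-(f v x * f u v * (u i + s * f v u * v i))) * hs
    rw [e4] at h4
    have hvu : f v u ≠ 0 := fun e => huv (hf.eq_zero_symm e)
    have e5 : f u t = s * f v u * f u v := by simp [t, hu, smul_right]
    have e6 : f t u = σ (s * f v u) * f v u := by simp [t, hu, smul_left]
    have hne : s * f v u * f u v ≠ 0 := mul_ne_zero (mul_ne_zero hs0 hvu) huv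
    have hne' : σ (s * f v u) * f v u ≠ 0 :=
      mul_ne_zero (fun e => mul_ne_zero hs0 hvu (IsInvol.apply_eq_zero_iff.1 e)) hvu
    have h6 : outer f u t ∈ A := by
      have h5 := hS.span_mul hf hA h4
      rwa [outer_mul, e5, A.smul_mem_iff hne] at h5
    have h8 : outer f t u ∈ A := by
      have h5 := hS.span_mul hf h4 hA
      rwa [outer_mul, e6, A.smul_mem_iff hne'] at h5
    have hc0 : s * f v u ≠ 0 := mul_ne_zero hs0 hvu
    have hσc0 : σ (s * f v u) ≠ 0 := fun e => hc0 (IsInvol.apply_eq_zero_iff.1 e)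
    have e7 : outer f u t = outer f u u + σ (s * f v u) • outer f u v := mat_ext fun x => by
      simp only [Matrix.add_mulVec, Matrix.smul_mulVec, outer_mulVec, t, map_add, LinearMap.add_apply, smul_left,
        add_smul, smul_smul]
    have e8 : outer f t u = outer f u u + (s * f v u) • outer f v u := mat_ext fun x => by
      simp only [Matrix.add_mulVec, Matrix.smul_mulVec, outer_mulVec, t, smul_add, smul_smul, mul_comm]
    have huvA : outer f u v ∈ A := by
      have := A.sub_mem (e7 ▸ h6) hA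
      rwa [add_sub_cancel_left, A.smul_mem_iff hσc0] at this
    have hvuA : outer f v u ∈ A := by
      have := A.sub_mem (e8 ▸ h8) hA
      rwa [add_sub_cancel_left, A.smul_mem_iff hc0] at this
    refine ⟨huvA, ?_⟩
    have h9 := hS.span_mul hf hvuA huvA
    rw [outer_mul, hu, zero_smul] at h9
    have e9 : outer f t t = outer f u u + σ (s * f v u) • outer f u v + (s * f v u) • outer f v u +
        (s * f v u * σ (s * f v u)) • outer f v v := mat_ext fun x => by
      simp only [Matrix.add_mulVec, Matrix.smul_mulVec, outer_mulVec, t, map_add, LinearMap.add_apply, smul_left,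
        add_smul, smul_add, smul_smul]
      funext i
      simp only [Pi.add_apply, Pi.smul_apply, smul_eq_mul]
      ring
    have h10 := A.sub_mem (A.sub_mem (A.sub_mem (e9 ▸ h4) hA) (A.smul_mem (σ (s * f v u)) huvA))
      (A.smul_mem (s * f v u) hvuA)
    rw [show outer f u u + σ (s * f v u) • outer f u v + (s * f v u) • outer f v u +
        (s * f v u * σ (s * f v u)) • outer f v v - outer f u u - σ (s * f v u) • outer f u v -
        (s * f v u) • outer f v u = (s * f v u * σ (s * f v u)) • outer f v v by module,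
      A.smul_mem_iff (mul_ne_zero hc0 hσc0)] at h10
    exact h10
  have hdiag : ∀ v, f v v = 0 → outer f v v ∈ A := by
    intro v hv
    by_cases hv0 : v = 0
    · rw [hv0, show outer f (0 : α → F) 0 = 0 from mat_ext fun x => by simp [outer_mulVec]]
      exact zero_mem _
    obtain ⟨x, hx, hex', hvx⟩ := exists_common hf he0 he hv0 hv
    exact (hnb x v hx hv (fun e' => hvx (hf.eq_zero_symm e')) (hnb e x he hx hex' heA).2).2
  have hoff : ∀ u v, f u u = 0 → f v v = 0 → outer f u v ∈ A := by
    intro u v hu hv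
    by_cases hu0 : u = 0
    · rw [hu0, show outer f (0 : α → F) v = 0 from mat_ext fun x => by simp [outer_mulVec]]
      exact zero_mem _
    by_cases hv0 : v = 0
    · rw [hv0, show outer f u (0 : α → F) = 0 from mat_ext fun x => by simp [outer_mulVec]]
      exact zero_mem _
    obtain ⟨x, hx, hux, hvx⟩ := exists_common hf hu0 hu hv0 hv
    obtain ⟨y, hy, hxy, hvy⟩ := exists_common hf (fun e' => hux (by rw [e', map_zero])) hx hv0 hv
    have h1 := (hnb u x hu hx hux (hdiag u hu)).1
    have h2' := (hnb y v hy hv (fun e' => hvy (hf.eq_zero_symm e')) (hdiag y hy)).1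
    have h3 := hS.span_mul hf h1 h2'
    rwa [outer_mul, A.smul_mem_iff hxy] at h3
  obtain ⟨e', he'1, he'⟩ := hf.exists_isotropic_partner he0 he
  have hsp := span_isotropic hf ⊤ (Submodule.mem_top (x := e)) (Submodule.mem_top (x := e')) he he' he'1
  have hall2 : ∀ u v, f v v = 0 → outer f u v ∈ A := by
    intro u v hv
    induction hsp (Submodule.mem_top (x := u)) using Submodule.span_induction with
    | mem w hw => exact hoff w v hw.2 hv
    | zero =>
      rw [show outer f (0 : α → F) v = 0 from mat_ext fun x => by simp [outer_mulVec]]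
      exact zero_mem _
    | add p r _ _ hp hr =>
      rw [show outer f (p + r) v = outer f p v + outer f r v from mat_ext fun x => by
        simp [outer_mulVec, Matrix.add_mulVec]]
      exact add_mem hp hr
    | smul c p _ hp =>
      rw [show outer f (c • p) v = c • outer f p v from mat_ext fun x => by
        simp [outer_mulVec, Matrix.smul_mulVec, smul_comm c]]
      exact A.smul_mem c hp
  have hall : ∀ u v, outer f u v ∈ A := by
    intro u v
    induction hsp (Submodule.mem_top (x := v)) using Submodule.span_induction with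
    | mem w hw => exact hall2 u w hw.2
    | zero =>
      rw [show outer f u (0 : α → F) = 0 from mat_ext fun x => by simp [outer_mulVec]]
      exact zero_mem _
    | add p r _ _ hp hr =>
      rw [show outer f u (p + r) = outer f u p + outer f u r from mat_ext fun x => by
        simp [outer_mulVec, Matrix.add_mulVec, add_smul]]
      exact add_mem hp hr
    | smul c p _ hp =>
      rw [show outer f u (c • p) = σ c • outer f u p from mat_ext fun x => by
        simp [outer_mulVec, Matrix.smul_mulVec, smul_left, smul_smul]]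
      exact A.smul_mem _ hp
  have hsurj : Function.Surjective (phi f) := by
    refine Finite.injective_iff_surjective.1 fun u v e' => ?_
    rw [← sub_eq_zero]
    refine hf.nondeg _ fun x => ?_
    rw [sub_left, ← phi_dot, ← phi_dot, e', sub_self]
  have hA : ∀ x : Matrix α α F, x ∈ A := by
    intro x
    refine Matrix.induction_on' x (zero_mem _) (fun _ _ => add_mem) fun i j c => ?_
    obtain ⟨z, hz⟩ := hsurj (Pi.single j 1)
    convert A.smul_mem c (hall (Pi.single i 1) z) using 1
    ext p r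
    simp only [outer, hz, Matrix.smul_apply, Matrix.vecMulVec_apply, Pi.single_apply, Matrix.single_apply,
      smul_eq_mul]
    by_cases hp : i = p <;> by_cases hr : j = r <;> simp [hp, hr, Ne.symm, eq_comm]
  refine ⟨hA, fun x hx => ?_⟩
  obtain ⟨c, hc⟩ := hf.invol.exists_trace_eq (μ := (1 : F)) (map_one σ)
  -- the skew part of a combination
  have key : ∀ y ∈ A, ∀ d : F, ∃ y', Adj f (d • y) y' ∧ S (d • y - y') := by
    intro y hy
    induction hy using Submodule.span_induction with
    | mem τ hτ =>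
      intro d
      refine ⟨σ d • (-τ), fun a z => ?_, ?_⟩
      · rw [Matrix.smul_mulVec, Matrix.smul_mulVec, smul_left, smul_right, hS.skew τ hτ a z]
      · rw [smul_neg, sub_neg_eq_add, ← add_smul]
        exact hS.smul _ τ (mem_fixedSub.1 (hf.invol.trace_mem d)) hτ
    | zero =>
      intro d
      refine ⟨0, fun a z => by simp, ?_⟩
      rw [smul_zero, sub_zero]
      simpa using hS.smul 0 θ (map_zero σ) hθ
    | add p r _ _ hp hr =>
      intro d
      obtain ⟨p', hp1, hp2⟩ := hp d
      obtain ⟨r', hr1, hr2⟩ := hr d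
      refine ⟨p' + r', fun a z => ?_, ?_⟩
      · rw [smul_add, Matrix.add_mulVec, map_add, LinearMap.add_apply, hp1 a z, hr1 a z, Matrix.add_mulVec, map_add]
      · rw [smul_add, add_sub_add_comm]
        exact hS.add _ _ hp2 hr2
    | smul c p _ hp =>
      intro d
      rw [smul_smul]
      exact hp (d * c)
  obtain ⟨x', hx1, hx2⟩ := key x (hA x) c
  have e' : x' = σ c • (-x) := adj_unique hf hx1 fun a z => by
    rw [Matrix.smul_mulVec, Matrix.smul_mulVec, smul_left, smul_right, hx a z]
  rw [e', smul_neg, sub_neg_eq_add, ← add_smul, hc, one_smul] at hx2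
  exact hx2

end SkewSet

end CfsgLib.Geo.UnitTensor
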