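/-
A non-scalar root coefficient gives every transvection, hence the special unitary group.
-/
import Cfsg.Agent.Lib.Geo.UnitTensor.Algebra
import Cfsg.Agent.Lib.Geo.UnitMaximal

set_option autoImplicit false
set_option linter.unusedSectionVars false

namespace CfsgLib.Geo.UnitTensor

open Matrix TensorLinear CfsgLib.Classical CfsgLib.Classical.Herm Module
open scoped Kronecker

variable {α β : Type} [Fintype α] [DecidableEq α] [Fintype β] [DecidableEq β] {F : Type*} [Field F] {σ : F →+* F}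
  {g : (β → F) →ₛₗ[σ] (β → F) →ₗ[F] F} {f : (α → F) →ₛₗ[σ] (α → F) →ₗ[F] F}
  {H : (α × β → F) →ₛₗ[σ] (α × β → F) →ₗ[F] F} {X : Subgroup (GL (α × β) F)}

/-- The coefficient of every root group. -/
def InH (g : (β → F) →ₛₗ[σ] (β → F) →ₗ[F] F) (X : Subgroup (GL (α × β) F)) (θ : Matrix α α F) : Prop :=
  ∀ w, g w w = 0 → Root g X w θ

/-- A short root element lies in `X`. -/
def Short (g : (β → F) →ₛₗ[σ] (β → F) →ₗ[F] F) (X : Subgroup (GL (α × β) F)) (w r : β → F)
    (θ θ' : Matrix α α F) : Prop :=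
  ∃ x ∈ X, ((x : GL (α × β) F) : Matrix (α × β) (α × β) F) =
    1 + (emb α w * (θ' * cg α g r) - emb α r * θ * cg α g w)

theorem cg_zero : cg α g (0 : β → F) = 0 := by
  rw [cg, show phi g (0 : β → F) = 0 from by funext j; simp [phi]]
  ext i p; simp [con]

theorem root_prod {w : β → F} (hw : g w w = 0) (θ τ : Matrix α α F) :
    (emb α w * θ * cg α g w) * (emb α w * τ * cg α g w) = 0 := by
  rw [show (emb α w * θ * cg α g w) * (emb α w * τ * cg α g w) =
    emb α w * θ * (cg α g w * emb α w) * τ * cg α g w by simp only [Matrix.mul_assoc], cg_emb_zero hw]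
  simp

theorem root_add {w : β → F} (hw : g w w = 0) {θ τ : Matrix α α F} (h : Root g X w θ) (h' : Root g X w τ) :
    Root g X w (θ + τ) := by
  obtain ⟨x, hx, ex⟩ := h
  obtain ⟨y, hy, ey⟩ := h'
  refine ⟨x * y, X.mul_mem hx hy, ?_⟩
  rw [Units.val_mul, ex, ey, mul_add, mul_one, add_mul, one_mul, root_prod hw, add_zero, Matrix.mul_add,
    Matrix.add_mul]
  abel

theorem short_add {w r : β → F} (hw : g w w = 0) (hr : g r r = 0) (hwr : g w r = 0) (hrw : g r w = 0)
    {θ θ' τ τ' : Matrix α α F} (h : Short g X w r θ θ') (h' : Short g X w r τ τ') :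
    Short g X w r (θ + τ) (θ' + τ') := by
  obtain ⟨x, hx, ex⟩ := h
  obtain ⟨y, hy, ey⟩ := h'
  refine ⟨x * y, X.mul_mem hx hy, ?_⟩
  have hp : (emb α w * (θ' * cg α g r) - emb α r * θ * cg α g w) *
      (emb α w * (τ' * cg α g r) - emb α r * τ * cg α g w) = 0 := by
    rw [show (emb α w * (θ' * cg α g r) - emb α r * θ * cg α g w) *
      (emb α w * (τ' * cg α g r) - emb α r * τ * cg α g w) =
      emb α w * θ' * (cg α g r * emb α w) * τ' * cg α g r - emb α w * θ' * (cg α g r * emb α r) * τ * cg α g w -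
        emb α r * θ * (cg α g w * emb α w) * τ' * cg α g r + emb α r * θ * (cg α g w * emb α r) * τ * cg α g w by
      simp only [Matrix.mul_sub, Matrix.sub_mul, Matrix.mul_assoc]; abel, cg_emb_zero hw, cg_emb_zero hr,
      cg_emb_zero hwr, cg_emb_zero hrw]
    simp
  rw [Units.val_mul, ex, ey, mul_add, mul_one, add_mul, one_mul, hp, add_zero]
  simp only [Matrix.mul_add, Matrix.add_mul]
  abel

namespace Ctx

variable (K : Ctx f g H X)
include K

theorem root_move [Finite F] {w₀ w : β → F} {θ : Matrix α α F} (h : Root g X w₀ θ) (hw₀0 : w₀ ≠ 0)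
    (hw₀ : g w₀ w₀ = 0) (hw0 : w ≠ 0) (hw : g w w = 0) : Root g X w θ := by
  obtain ⟨xb, b, hxb, -, exb, hb⟩ := K.exists_move hw₀0 hw0 hw₀ hw
  obtain ⟨x, hx, ex⟩ := h
  refine ⟨xb * x * xb⁻¹, X.mul_mem (X.mul_mem hxb hx) (X.inv_mem hxb), ?_⟩
  have h1 : cg α g w₀ * ((xb⁻¹ : GL (α × β) F) : Matrix (α × β) (α × β) F) = cg α g w :=
    matrix_ext_f K.hf fun a z => by
      rw [← Matrix.mulVec_mulVec, ← K.tens, ← K.iso_right hxb, ← emb_mulVec, Matrix.mulVec_mulVec, move_emb exb, hb,
        emb_mulVec, K.tens]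
  rw [Units.val_mul, Units.val_mul, ex, mul_add, mul_one, add_mul, Units.mul_inv,
    show (xb : Matrix (α × β) (α × β) F) * (emb α w₀ * θ * cg α g w₀) *
      ((xb⁻¹ : GL (α × β) F) : Matrix (α × β) (α × β) F) = (xb : Matrix (α × β) (α × β) F) * emb α w₀ * θ *
        (cg α g w₀ * ((xb⁻¹ : GL (α × β) F) : Matrix (α × β) (α × β) F)) by simp only [Matrix.mul_assoc],
    move_emb exb, hb, h1]

theorem inH_of_root [Finite F] {w₀ : β → F} {θ : Matrix α α F} (h : Root g X w₀ θ) (hw₀0 : w₀ ≠ 0)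
    (hw₀ : g w₀ w₀ = 0) : InH g X θ := by
  intro w hw
  by_cases hw0 : w = 0
  · exact ⟨1, X.one_mem, by rw [hw0, cg_zero, Matrix.mul_zero, add_zero, Units.val_one]⟩
  · exact K.root_move h hw₀0 hw₀ hw0 hw

theorem skew_of_inH [Finite F] {θ : Matrix α α F} (h : InH g X θ) : Skew f θ := by
  obtain ⟨w, hw0, hw⟩ := K.hg.exists_isotropic (by
    rw [Module.finrank_fintype_fun_eq_card]; have := K.three; omega)
  obtain ⟨z, hz1, hz⟩ := K.hg.exists_isotropic_partner hw0 hw
  have hzw : g z w = 1 := by rw [← K.hg.symm, hz1, map_one]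
  obtain ⟨x, hx, ex⟩ := h w hw
  intro a c
  have e : ∀ a, (x : Matrix (α × β) (α × β) F) *ᵥ pt a z = pt a z + pt (θ *ᵥ a) w := fun a => by
    rw [ex, Matrix.add_mulVec, Matrix.one_mulVec, ← Matrix.mulVec_mulVec, ← Matrix.mulVec_mulVec, cg_pt, hz1,
      one_smul, emb_mulVec]
  have h1 := K.iso x hx (pt a z) (pt c z)
  simp only [e, map_add, LinearMap.add_apply, K.pt_pt, hz, hw, hz1, hzw, zero_mul, one_mul, zero_add, add_zero] at h1
  rw [Matrix.neg_mulVec, map_neg]
  linear_combination h1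

/-- A short root element from a long one. -/
theorem short_of_long [Finite F] {θ : Matrix α α F} (hθ : InH g X θ) {w r r' : β → F} (hw : g w w = 0)
    (hr : g r r = 0) (hr' : g r' r' = 0) (hrr' : g r r' = 1) (hwr : g w r = 0) (hwr' : g w r' = 0) :
    Short g X w r θ (-θ) := by
  have hrw := K.hg.eq_zero_symm hwr
  have hr'w := K.hg.eq_zero_symm hwr'
  have hr'r : g r' r = 1 := by rw [← K.hg.symm, hrr', map_one]
  obtain ⟨x, hx, ex⟩ := hθ r hr
  obtain ⟨y, hy, ey⟩ := K.siegel_mem hw hr' hwr'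
  obtain ⟨u, hu, eu⟩ := hθ w hw
  set A := emb α r * θ * cg α g r with hA
  set B := emb α w * cg α g r' - emb α r' * cg α g w with hB
  have hAB : A * B = -(emb α r * θ * cg α g w) := by
    rw [hA, hB, show emb α r * θ * cg α g r * (emb α w * cg α g r' - emb α r' * cg α g w) =
      emb α r * θ * (cg α g r * emb α w) * cg α g r' - emb α r * θ * (cg α g r * emb α r') * cg α g w by
      simp only [Matrix.mul_sub, Matrix.mul_assoc], cg_emb_zero hrw, cg_mul_emb, hrr']
    simp
  have hBA : B * A = emb α w * θ * cg α g r := by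
    rw [hA, hB, show (emb α w * cg α g r' - emb α r' * cg α g w) * (emb α r * θ * cg α g r) =
      emb α w * (cg α g r' * emb α r) * θ * cg α g r - emb α r' * (cg α g w * emb α r) * θ * cg α g r by
      simp only [Matrix.sub_mul, Matrix.mul_assoc], cg_emb_zero hwr, cg_mul_emb, hr'r]
    simp
  have hAA : A * A = 0 := root_prod hr θ θ
  have hBB : B * B = 0 := short_sq hw (cg_emb_zero hwr') (cg_emb_zero hr'w) (cg_emb_zero hr')
  have hABA : A * B * A = 0 := by
    rw [hAB, hA, show -(emb α r * θ * cg α g w) * (emb α r * θ * cg α g r) =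
      -(emb α r * θ * (cg α g w * emb α r) * θ * cg α g r) by simp only [Matrix.neg_mul, Matrix.mul_assoc],
      cg_emb_zero hwr]
    simp
  have hBAB : B * A * B = -(emb α w * θ * cg α g w) := by
    rw [hBA, hB, show emb α w * θ * cg α g r * (emb α w * cg α g r' - emb α r' * cg α g w) =
      emb α w * θ * (cg α g r * emb α w) * cg α g r' - emb α w * θ * (cg α g r * emb α r') * cg α g w by
      simp only [Matrix.mul_sub, Matrix.mul_assoc], cg_emb_zero hrw, cg_mul_emb, hrr']
    simp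
  refine ⟨x * y * x⁻¹ * y⁻¹ * u, X.mul_mem (X.mul_mem (X.mul_mem (X.mul_mem hx hy) (X.inv_mem hx))
    (X.inv_mem hy)) hu, ?_⟩
  have ix : ((x⁻¹ : GL (α × β) F) : Matrix (α × β) (α × β) F) = 1 - A := by
    refine Units.inv_eq_of_mul_eq_one_right ?_
    rw [ex, mul_sub, mul_one, add_mul, one_mul, hAA]; abel
  have iy : ((y⁻¹ : GL (α × β) F) : Matrix (α × β) (α × β) F) = 1 - B := by
    refine Units.inv_eq_of_mul_eq_one_right ?_
    rw [ey, mul_sub, mul_one, add_mul, one_mul, hBB]; abel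
  rw [Units.val_mul, Units.val_mul, Units.val_mul, Units.val_mul, ex, ey, ix, iy, eu,
    show (1 + A) * (1 + B) * (1 - A) * (1 - B) = 1 + (A * B - B * A) - A * A + A * A * B - B * B + B * A * B -
      A * B * A - A * (B * B) + A * B * A * B by noncomm_ring, hAA, hBB, hABA, hBAB, zero_mul, mul_zero]
  rw [hAB, hBA]
  rw [show (1 + (-(emb α r * θ * cg α g w) - emb α w * θ * cg α g r) - 0 + 0 - 0 + -(emb α w * θ * cg α g w) - 0 -
    0 + 0) * (1 + emb α w * θ * cg α g w) =
    1 + (emb α w * (-θ * cg α g r) - emb α r * θ * cg α g w) -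
      emb α r * θ * (cg α g w * emb α w) * θ * cg α g w - emb α w * θ * (cg α g r * emb α w) * θ * cg α g w -
      emb α w * θ * (cg α g w * emb α w) * θ * cg α g w by
    simp only [mul_add, add_mul, Matrix.add_mul, Matrix.sub_mul, Matrix.neg_mul, Matrix.mul_neg, mul_one, one_mul,
      Matrix.mul_assoc, sub_zero, add_zero]
    abel, cg_emb_zero hw, cg_emb_zero hrw]
  simp

theorem skewSet [Finite F] : SkewSet f (InH g X) where
  skew θ h := K.skew_of_inH h
  add θ τ h h' := fun w hw => root_add hw (h w hw) (h' w hw)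
  smul c θ hc h := by
    intro w hw
    obtain ⟨μ, hμ⟩ := K.hg.invol.exists_norm_eq hc
    obtain ⟨x, hx, ex⟩ := h (μ • w) (by rw [smul_left, smul_right, hw]; ring)
    refine ⟨x, hx, ?_⟩
    rw [ex, emb_smul, cg_smul, Matrix.smul_mul, Matrix.smul_mul, Matrix.mul_smul, smul_smul, hμ, Matrix.mul_smul,
      Matrix.smul_mul]
  one c hc := by
    intro w hw
    obtain ⟨x, hx, ex⟩ := K.transvection_mem hw hc
    exact ⟨x, hx, by rw [ex, Matrix.mul_smul, Matrix.mul_one, Matrix.smul_mul]⟩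
  bracket := by
    intro c θ τ hθ hτ
    obtain ⟨w, hw0, hw⟩ := K.hg.exists_isotropic (by
      rw [Module.finrank_fintype_fun_eq_card]; have := K.three; omega)
    obtain ⟨w'', u₁, u₂, -, -, h11, h22, h12, hwu1, hwu2, -⟩ := K.exists_frame hw0 hw
    have h21 : g u₂ u₁ = 1 := by rw [← K.hg.symm, h12, map_one]
    -- short root elements from long ones
    have hsc : ∀ c : F, Short g X w u₁ (c • θ) (σ c • -θ) := by
      intro c
      by_cases hc : c = 0
      · exact ⟨1, X.one_mem, by simp [hc]⟩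
      have hsc0 : σ c ≠ 0 := fun e => hc (IsInvol.apply_eq_zero_iff.1 e)
      obtain ⟨x, hx, ex⟩ := K.short_of_long hθ (r := c • u₁) (r' := (σ c)⁻¹ • u₂) hw (by rw [smul_left, smul_right, h11]; ring)
        (by rw [smul_left, smul_right, h22]; ring)
        (by rw [smul_left, smul_right, h12, mul_one, mul_inv_cancel₀ hsc0])
        (by rw [smul_right, hwu1, mul_zero]) (by rw [smul_right, hwu2, mul_zero])
      refine ⟨x, hx, ?_⟩
      rw [ex, cg_smul, emb_smul]
      simp only [Matrix.mul_smul, Matrix.smul_mul]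
    obtain ⟨x, hx, ex⟩ := hsc c
    obtain ⟨y, hy, ey⟩ := K.short_of_long hτ hw h22 h11 h21 hwu2 hwu1
    have h := short_comm (Λ := emb α u₁ * (c • θ)) (Λ' := (σ c • -θ) * cg α g u₁) (M := emb α u₂ * τ)
      (M' := -τ * cg α g u₂) hw
      (by rw [← Matrix.mul_assoc, cg_emb_zero hwu1, Matrix.zero_mul])
      (by rw [Matrix.mul_assoc, cg_emb_zero (K.hg.eq_zero_symm hwu1), Matrix.mul_zero])
      (by rw [Matrix.mul_assoc, ← Matrix.mul_assoc (cg α g u₁), cg_emb_zero h11, Matrix.zero_mul, Matrix.mul_zero])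
      (by rw [← Matrix.mul_assoc, cg_emb_zero hwu2, Matrix.zero_mul])
      (by rw [Matrix.mul_assoc, cg_emb_zero (K.hg.eq_zero_symm hwu2), Matrix.mul_zero])
      (by rw [Matrix.mul_assoc, ← Matrix.mul_assoc (cg α g u₂), cg_emb_zero h22, Matrix.zero_mul, Matrix.mul_zero])
      hx hy ex ey
    refine K.inH_of_root (w₀ := w) ?_ hw0 hw
    convert h using 1
    rw [Matrix.mul_assoc, ← Matrix.mul_assoc (cg α g u₂), cg_mul_emb, h21, Matrix.mul_assoc (σ c • -θ),
      ← Matrix.mul_assoc (cg α g u₁), cg_mul_emb, h12, one_smul, Matrix.one_mul, Matrix.one_mul]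
    simp only [smul_neg, Matrix.neg_mul, Matrix.mul_smul, Matrix.smul_mul, sub_neg_eq_add]
    abel
  conj a a' ha hd haa θ h := by
    intro w hw
    obtain ⟨xa, hxa, exa⟩ := K.base a 1 ha (fun u v => by rw [Matrix.one_mulVec, Matrix.one_mulVec]) hd Matrix.det_one
    obtain ⟨x, hx, ex⟩ := h w hw
    refine ⟨xa * x * xa⁻¹, X.mul_mem (X.mul_mem hxa hx) (X.inv_mem hxa), ?_⟩
    have ia : ((xa⁻¹ : GL (α × β) F) : Matrix (α × β) (α × β) F) = a' ⊗ₖ (1 : Matrix β β F) := by
      refine Units.inv_eq_of_mul_eq_one_right ?_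
      rw [exa, ← Matrix.mul_kronecker_mul, mul_eq_one_comm.1 haa, Matrix.mul_one, Matrix.one_kronecker_one]
    rw [Units.val_mul, Units.val_mul, ex, mul_add, mul_one, add_mul, Units.mul_inv, exa, ia]
    congr 1
    rw [cg, show (a ⊗ₖ (1 : Matrix β β F)) * (emb α w * θ * con α (phi g w)) * (a' ⊗ₖ (1 : Matrix β β F)) =
      ((a ⊗ₖ (1 : Matrix β β F)) * emb α w) * θ * (con α (phi g w) * (a' ⊗ₖ (1 : Matrix β β F))) by
      simp only [Matrix.mul_assoc], kronecker_mul_emb, con_mul_kronecker, Matrix.one_mulVec, Matrix.vecMul_one]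
    simp only [Matrix.mul_assoc]

/-- All transvections with one centre lie in `X`. -/
def Tr (_K : Ctx f g H X) (x : α × β → F) : Prop :=
  ∀ c : F, c + σ c = 0 → ∃ s ∈ X, ∀ z,
    ((s : GL (α × β) F) : Matrix (α × β) (α × β) F) *ᵥ z = z + (c * H x z) • x

theorem tr_conj {x : α × β → F} (h : K.Tr x) {k : GL (α × β) F} (hk : k ∈ X) :
    K.Tr ((k : Matrix (α × β) (α × β) F) *ᵥ x) := by
  intro c hc
  obtain ⟨s, hs, es⟩ := h c hc
  refine ⟨k * s * k⁻¹, X.mul_mem (X.mul_mem hk hs) (X.inv_mem hk), fun z => ?_⟩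
  rw [Units.val_mul, Units.val_mul, ← Matrix.mulVec_mulVec, ← Matrix.mulVec_mulVec, es, Matrix.mulVec_add,
    Matrix.mulVec_smul, Matrix.mulVec_mulVec z, Units.mul_inv, Matrix.one_mulVec, K.iso_right hk]

theorem tr_all [Finite F] (hall : ∀ θ, Skew f θ → InH g X θ)
    (hspan : ∀ x : Matrix α α F, x ∈ Submodule.span F {θ | InH g X θ}) {x : α × β → F} (hxx : H x x = 0) : K.Tr x := by
  classical
  by_cases hx0 : x = 0
  · intro c _
    exact ⟨1, X.one_mem, fun z => by rw [hx0]; simp⟩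
  -- a singular line meeting `x`
  obtain ⟨w, hw0, hw, hwx⟩ : ∃ w, w ≠ 0 ∧ g w w = 0 ∧ cg α g w *ᵥ x ≠ 0 := by
    by_contra! hc
    refine hx0 (K.hH.nondeg x fun z => ?_)
    obtain ⟨e, he0, he⟩ := K.hg.exists_isotropic (by
      rw [Module.finrank_fintype_fun_eq_card]; have := K.three; omega)
    obtain ⟨e', he1, he'⟩ := K.hg.exists_isotropic_partner he0 he
    have hz : ∀ u, cg α g u *ᵥ x = 0 := fun u => by
      have hmem := span_isotropic K.hg ⊤ (Submodule.mem_top (x := e)) (Submodule.mem_top (x := e')) he he' he1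
        (Submodule.mem_top (x := u))
      induction hmem using Submodule.span_induction with
      | mem v hv =>
        by_cases hv0 : v = 0
        · rw [hv0, cg_zero, Matrix.zero_mulVec]
        · exact hc v hv0 hv.2
      | zero => rw [cg_zero, Matrix.zero_mulVec]
      | add p r _ _ hp hr => rw [cg_add, Matrix.add_mulVec, hp, hr, add_zero]
      | smul d p _ hp => rw [cg_smul, Matrix.smul_mulVec, hp, smul_zero]
    have hzd : z = ∑ i, pt (Pi.single i (1 : F)) (fun j => z (i, j)) := by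
      funext p
      simp [pt, Finset.sum_apply, Pi.single_apply]
    rw [hzd, map_sum]
    refine Finset.sum_eq_zero fun i _ => ?_
    rw [K.tens', hz, map_zero, LinearMap.zero_apply]
  set y₁ := cg α g w *ᵥ x with hy₁
  obtain ⟨t, ht⟩ := K.hf.exists_apply_eq_one hwx
  have htz : f t y₁ = 1 := by rw [← K.hf.symm, ht, map_one]
  -- short root elements with prescribed value
  obtain ⟨w'', u₁, u₂, hww'', hw'', hu11, hu22, hu12, hwu1, hwu2, -⟩ := K.exists_frame hw0 hw
  have hshort : ∀ (θ : Matrix α α F) (r r' : β → F), g r r = 0 → g r' r' = 0 → g r r' = 1 → g w r = 0 →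
      g w r' = 0 → ∃ θ', Short g X w r θ θ' := by
    intro θ r r' hr hr' hrr' hwr hwr'
    have key : ∀ d : F, ∃ θ', Short g X w r (d • θ) θ' := by
      have hθ := hspan θ
      induction hθ using Submodule.span_induction with
      | mem τ hτ =>
        intro d
        by_cases hd : d = 0
        · exact ⟨0, 1, X.one_mem, by simp [hd]⟩
        have hsd : σ d ≠ 0 := fun e => hd (IsInvol.apply_eq_zero_iff.1 e)
        obtain ⟨z, hz, ez⟩ := K.short_of_long hτ (r := d • r) (r' := (σ d)⁻¹ • r') hw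
          (by rw [smul_left, smul_right, hr]; ring) (by rw [smul_left, smul_right, hr']; ring)
          (by rw [smul_left, smul_right, hrr', mul_one, mul_inv_cancel₀ hsd])
          (by rw [smul_right, hwr, mul_zero]) (by rw [smul_right, hwr', mul_zero])
        refine ⟨σ d • -τ, z, hz, ?_⟩
        rw [ez, emb_smul, cg_smul]
        simp only [Matrix.mul_smul, Matrix.smul_mul]
      | zero => exact fun d => ⟨0, 1, X.one_mem, by simp⟩
      | add p q _ _ hp hq =>
        intro d
        obtain ⟨p', hp'⟩ := hp d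
        obtain ⟨q', hq'⟩ := hq d
        exact ⟨p' + q', by rw [smul_add]; exact short_add hw hr hwr (K.hg.eq_zero_symm hwr) hp' hq'⟩
      | smul c p _ hp =>
        intro d
        rw [smul_smul]
        exact hp (d * c)
    obtain ⟨θ', h⟩ := key 1
    exact ⟨θ', by rwa [one_smul] at h⟩
  -- clearing the middle part
  have hclear : ∀ u, g w u = 0 → g w'' u = 0 → ∀ (a : α → F) (v : α × β → F), cg α g w *ᵥ v = y₁ →
      ∃ s ∈ X, ∃ b, ((s : GL (α × β) F) : Matrix (α × β) (α × β) F) *ᵥ v = v - pt a u + pt b w := by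
    intro u hwu hw''u
    set W := Submodule.span F ({w, w''} : Set (β → F))
    have hd := K.hg.hyperbolic_disc hw hww''
    have hn := K.hg.pair_nondeg hd
    have hU := K.hg.restrict_herm (K.hg.orth_nondeg hn)
    have hfr : 2 ≤ finrank F (K.hg.orth W) := by
      have e1 : finrank F W + finrank F (K.hg.orth W) = finrank F (β → F) := K.hg.finrank_orth hn
      rw [K.hg.pair_finrank hd, Module.finrank_fintype_fun_eq_card] at e1
      have := K.four
      omega
    have huU : u ∈ K.hg.orth W := K.hg.mem_orth.2 fun p hp => by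
      obtain ⟨c, d, rfl⟩ := Submodule.mem_span_pair.1 hp
      rw [add_left, smul_left, smul_left, hwu, hw''u, mul_zero, mul_zero, add_zero]
    obtain ⟨e, he0, he⟩ := hU.exists_isotropic hfr
    obtain ⟨e', he1, he'⟩ := hU.exists_isotropic_partner he0 he
    have hmem := span_isotropic K.hg (K.hg.orth W) e.2 e'.2 he he' he1 huU
    clear huU hwu hw''u
    induction hmem using Submodule.span_induction with
    | mem r hr =>
      intro a v hv
      by_cases hr0 : r = 0
      · exact ⟨1, X.one_mem, 0, by rw [hr0]; funext p; simp [pt]⟩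
      obtain ⟨r', hrr', hr'⟩ := hU.exists_isotropic_partner (u := ⟨r, hr.1⟩) (fun e => hr0 (congrArg Subtype.val e))
        hr.2
      have hwm : w ∈ W := Submodule.subset_span (Set.mem_insert _ _)
      obtain ⟨θ', s, hs, es⟩ := hshort (outer f a t) r r' hr.2 hr' hrr' (K.hg.mem_orth.1 hr.1 w hwm)
        (K.hg.mem_orth.1 r'.2 w hwm)
      refine ⟨s, hs, θ' *ᵥ (cg α g r *ᵥ v), ?_⟩
      rw [es, Matrix.add_mulVec, Matrix.one_mulVec, Matrix.sub_mulVec, ← Matrix.mulVec_mulVec,
        ← Matrix.mulVec_mulVec, ← Matrix.mulVec_mulVec, ← Matrix.mulVec_mulVec, hv, emb_mulVec, emb_mulVec,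
        outer_mulVec, htz, one_smul]
      abel
    | zero => exact fun a v _ => ⟨1, X.one_mem, 0, by funext p; simp [pt]⟩
    | add p q hp' hq' hp hq =>
      intro a v hv
      obtain ⟨s, hs, b, eb⟩ := hp a v hv
      have hwp : g w p = 0 := by
        have h1 : p ∈ K.hg.orth W := Submodule.span_le.2 (fun _ h => h.1) hp'
        exact K.hg.mem_orth.1 h1 w (Submodule.subset_span (Set.mem_insert _ _))
      obtain ⟨s', hs', b', eb'⟩ := hq a ((s : Matrix (α × β) (α × β) F) *ᵥ v) (by
        rw [eb, Matrix.mulVec_add, Matrix.mulVec_sub, cg_pt, cg_pt, hwp, hw, hv, zero_smul, zero_smul, sub_zero,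
          add_zero])
      refine ⟨s' * s, X.mul_mem hs' hs, b + b', ?_⟩
      rw [Units.val_mul, ← Matrix.mulVec_mulVec, eb', eb]
      funext i; simp [pt]; ring
    | smul c p _ hp =>
      intro a v hv
      obtain ⟨s, hs, b, eb⟩ := hp (c • a) v hv
      exact ⟨s, hs, b, by rw [eb]; funext i; simp [pt]; ring⟩
  set x₀ := x - pt y₁ w'' - pt (cg α g w'' *ᵥ x) w
  have hw''w : g w'' w = 1 := by rw [← K.hg.symm, hww'', map_one]
  have hrow : ∀ i, g w (fun j => x₀ (i, j)) = 0 ∧ g w'' (fun j => x₀ (i, j)) = 0 := by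
    intro i
    have e : ∀ u, g u (fun j => x₀ (i, j)) = (cg α g u *ᵥ x₀) i := fun u => by
      rw [← phi_dot, cg, con_mulVec]
      rfl
    refine ⟨?_, ?_⟩ <;> rw [e] <;> simp [x₀, Matrix.mulVec_sub, cg_pt, hww'', hw'', hw, hw''w, ← hy₁]
  have hdec : ∀ S : Finset α, ∃ s ∈ X, ∃ b, ((s : GL (α × β) F) : Matrix (α × β) (α × β) F) *ᵥ x =
      x - ∑ i ∈ S, pt (Pi.single i (1 : F)) (fun j => x₀ (i, j)) + pt b w := by
    intro S
    induction S using Finset.induction with
    | empty => exact ⟨1, X.one_mem, 0, by funext p; simp [pt]⟩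
    | insert i S hi ih =>
      obtain ⟨s, hs, b, eb⟩ := ih
      obtain ⟨s', hs', b', eb'⟩ := hclear _ (hrow i).1 (hrow i).2 (Pi.single i 1)
        ((s : Matrix (α × β) (α × β) F) *ᵥ x) (by
          rw [eb, Matrix.mulVec_add, Matrix.mulVec_sub, cg_pt, hw, zero_smul, add_zero, ← hy₁, sub_eq_self,
            Matrix.mulVec_sum]
          exact Finset.sum_eq_zero fun k _ => by rw [cg_pt, (hrow k).1, zero_smul])
      refine ⟨s' * s, X.mul_mem hs' hs, b + b', ?_⟩
      rw [Units.val_mul, ← Matrix.mulVec_mulVec, eb', eb, Finset.sum_insert hi]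
      funext p; simp [pt]; ring
  obtain ⟨s, hs, b, eb⟩ := hdec Finset.univ
  set x₁ := pt y₁ w'' + pt (cg α g w'' *ᵥ x + b) w
  have e1 : (s : Matrix (α × β) (α × β) F) *ᵥ x = x₁ := by
    rw [eb, show ∑ i, pt (Pi.single i (1 : F)) (fun j => x₀ (i, j)) = x₀ from by
      funext p; simp [pt, Finset.sum_apply, Pi.single_apply]]
    funext p; simp [x₀, x₁, pt]; ring
  set b₁ := cg α g w'' *ᵥ x + b
  have hsing : f y₁ b₁ + f b₁ y₁ = 0 := by
    have h1 := K.iso s hs x x
    rw [e1, hxx] at h1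
    simp only [x₁, map_add, LinearMap.add_apply, K.pt_pt, hw, hw'', hww'', hw''w, zero_mul, one_mul, zero_add,
      add_zero] at h1
    simp only [b₁, map_add, LinearMap.add_apply]
    linear_combination h1
  obtain ⟨θ, hθ, hθy⟩ : ∃ θ, Skew f θ ∧ θ *ᵥ y₁ = -b₁ := by
    refine ⟨outer f (-b₁) t - outer f t (-b₁) + f (-b₁) y₁ • outer f t t, fun u v => ?_, ?_⟩
    · have hl : σ (f (-b₁) y₁) = -f (-b₁) y₁ := by
        simp only [map_neg, LinearMap.neg_apply, neg_neg, K.hf.symm]
        linear_combination -hsing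
      rw [Matrix.neg_mulVec, map_neg]
      simp only [Matrix.add_mulVec, Matrix.sub_mulVec, Matrix.smul_mulVec, outer_mulVec, map_add, map_sub,
        LinearMap.add_apply, LinearMap.sub_apply, smul_left, smul_right, map_mul, K.hf.symm, hl]
      simp only [map_neg, map_add, map_sub, LinearMap.neg_apply, smul_left, smul_right, K.hf.symm, neg_smul,
        smul_neg]
      linear_combination -(f u t * f t v) * hsing
    · simp only [Matrix.add_mulVec, Matrix.sub_mulVec, Matrix.smul_mulVec, outer_mulVec, htz, one_smul]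
      abel
  obtain ⟨u, hu, eu⟩ := hall θ hθ w hw
  have e2 : (u : Matrix (α × β) (α × β) F) *ᵥ x₁ = pt y₁ w'' := by
    rw [eu, Matrix.add_mulVec, Matrix.one_mulVec, ← Matrix.mulVec_mulVec, ← Matrix.mulVec_mulVec]
    simp only [x₁, Matrix.mulVec_add, cg_pt, hww'', hw, zero_smul, one_smul, Matrix.mulVec_zero, add_zero, hθy,
      emb_mulVec]
    funext p; simp [pt, b₁]; ring
  have hpure : K.Tr (pt y₁ w'') := by
    intro c hc
    have hsk : Skew f (c • outer f y₁ y₁) := fun u v => by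
      rw [Matrix.smul_mulVec, smul_left, Matrix.neg_mulVec, Matrix.smul_mulVec, map_neg, smul_right,
        adj_outer K.hf y₁ y₁ u v, eq_neg_of_add_eq_zero_right hc]
      ring
    obtain ⟨v, hv, ev⟩ := hall _ hsk w'' hw''
    refine ⟨v, hv, fun z => ?_⟩
    rw [ev, Matrix.add_mulVec, Matrix.one_mulVec, ← Matrix.mulVec_mulVec, ← Matrix.mulVec_mulVec, Matrix.smul_mulVec,
      outer_mulVec, emb_mulVec, K.tens, smul_smul]
    funext p; simp [pt]; ring
  have h3 := K.tr_conj hpure (X.inv_mem (X.mul_mem hu hs))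
  rwa [← e2, ← e1, Matrix.mulVec_mulVec x, ← Units.val_mul, Matrix.mulVec_mulVec x, ← Units.val_mul, inv_mul_cancel,
    Units.val_one, Matrix.one_mulVec] at h3

/-- **A non-scalar root coefficient gives the special unitary group.** -/
theorem special_le [Finite F] (hex : Nat.card (fixedSub σ) = 2 → 3 ≤ Fintype.card α) (hG : Good g X)
    {x : GL (α × β) F}
    (hiso : ∀ y z, H ((x : Matrix (α × β) (α × β) F) *ᵥ y) ((x : Matrix (α × β) (α × β) F) *ᵥ z) = H y z)
    (hdet : (x : Matrix (α × β) (α × β) F).det = 1) : x ∈ X := by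
  classical
  obtain ⟨w₀, θ₀, hw₀0, hw₀, hR, hns⟩ := hG
  obtain ⟨hspan, hall⟩ := K.skewSet.all_skew K.hf K.two hex (K.inH_of_root hR hw₀0 hw₀) hns
  let L : Subgroup (HU H) :=
    { carrier := {e | ∃ y ∈ X, ∀ z, ((y : GL (α × β) F) : Matrix (α × β) (α × β) F) *ᵥ z =
        (e : (α × β → F) ≃ₗ[F] (α × β → F)) z}
      one_mem' := ⟨1, X.one_mem, fun z => by simp⟩
      mul_mem' := by
        rintro e e' ⟨y, hy, ey⟩ ⟨y', hy', ey'⟩
        exact ⟨y * y', X.mul_mem hy hy', fun z => by
          rw [Units.val_mul, ← Matrix.mulVec_mulVec, ey', ey]; rfl⟩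
      inv_mem' := by
        rintro e ⟨y, hy, ey⟩
        refine ⟨y⁻¹, X.inv_mem hy, fun z => ?_⟩
        refine Matrix.mulVec_injective_iff_isUnit.2 y.isUnit ?_
        rw [Matrix.mulVec_mulVec, Units.mul_inv, Matrix.one_mulVec, ey]
        exact ((e : (α × β → F) ≃ₗ[F] (α × β → F)).apply_symm_apply z).symm }
  have hle : HSU H ≤ L := CfsgLib.Geo.UnitMax.le_of_hasTr K.hH (by
      rw [Module.finrank_fintype_fun_eq_card, Fintype.card_prod]; have := K.big; have := K.two; nlinarith)
    fun v hv c hc => by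
      obtain ⟨s, hs, es⟩ := K.tr_all hall hspan hv c hc
      exact ⟨s, hs, fun z => by rw [es, K.hH.tr_apply]⟩
  let e : (α × β → F) ≃ₗ[F] (α × β → F) :=
    { toFun := fun z => (x : Matrix (α × β) (α × β) F) *ᵥ z
      invFun := fun z => ((x⁻¹ : GL (α × β) F) : Matrix (α × β) (α × β) F) *ᵥ z
      left_inv := fun z => by
        show _ *ᵥ (_ *ᵥ z) = z
        rw [Matrix.mulVec_mulVec, Units.inv_mul, Matrix.one_mulVec]
      right_inv := fun z => by
        show _ *ᵥ (_ *ᵥ z) = z
        rw [Matrix.mulVec_mulVec, Units.mul_inv, Matrix.one_mulVec]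
      map_add' := fun u v => Matrix.mulVec_add _ _ _
      map_smul' := fun c v => Matrix.mulVec_smul _ _ _ }
  have hmem : (⟨e, fun u v => hiso u v⟩ : HU H) ∈ HSU H := by
    rw [MonoidHom.mem_ker, Units.ext_iff]
    show ((LinearEquiv.det e : Fˣ) : F) = 1
    rw [LinearEquiv.coe_det, show (e : (α × β → F) →ₗ[F] (α × β → F)) = Matrix.toLin' (x : Matrix _ _ F) from
      LinearMap.ext fun z => (Matrix.toLin'_apply _ _).symm, LinearMap.det_toLin', hdet]
  obtain ⟨y, hy, ey⟩ := hle hmem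
  convert hy
  exact Units.ext (Matrix.toLin'.injective (LinearMap.ext fun z => by
    rw [Matrix.toLin'_apply, Matrix.toLin'_apply, ey]; rfl))

end Ctx

end CfsgLib.Geo.UnitTensor
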