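/-
Ranks of unipotent Kronecker products, and conjugates of transvection and Siegel elements which are such products.
-/
import Cfsg.Agent.Lib.Geo.UnitTensor.Line

set_option autoImplicit false
set_option linter.unusedSectionVars false

namespace CfsgLib.Geo.UnitTensor

open Matrix TensorLinear CfsgLib.Classical CfsgLib.Classical.Herm Module
open scoped Kronecker

variable {α β : Type} [Fintype α] [DecidableEq α] [Fintype β] [DecidableEq β] {F : Type*} [Field F] {σ : F →+* F}

/-- The fixed matrices of a unipotent two-sided action. -/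
def fixed (X : Matrix α α F) (Y : Matrix β β F) : Submodule F (Matrix α β F) where
  carrier := {M | (1 + X) * M * (1 + Y)ᵀ = M}
  add_mem' {M N} hM hN := by
    simp only [Set.mem_ofPred_eq] at *
    rw [Matrix.mul_add, Matrix.add_mul, hM, hN]
  zero_mem' := by simp
  smul_mem' c M hM := by
    simp only [Set.mem_ofPred_eq] at *
    rw [Matrix.mul_smul, Matrix.smul_mul, hM]

theorem fixed_eq {X : Matrix α α F} {Y : Matrix β β F} {M : Matrix α β F} (hM : M ∈ fixed X Y) (v : β → F) :
    (1 + X) *ᵥ (M *ᵥ (Yᵀ *ᵥ v)) = -(X *ᵥ (M *ᵥ v)) := by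
  have h := congrArg (fun N : Matrix α β F => N *ᵥ v) (hM : (1 + X) * M * (1 + Y)ᵀ = M)
  simp only [Matrix.transpose_add, Matrix.transpose_one, ← Matrix.mulVec_mulVec, Matrix.add_mulVec,
    Matrix.one_mulVec, Matrix.mulVec_add] at h
  simp only [Matrix.add_mulVec, Matrix.one_mulVec]
  linear_combination (norm := abel) h

theorem fixed_ext {X : Matrix α α F} {Y : Matrix β β F} (hX : IsNilpotent X) (hY : IsNilpotent Y)
    {C : Submodule F (β → F)} (hC : C ⊔ LinearMap.range Yᵀ.mulVecLin = ⊤) {M : Matrix α β F} (hM : M ∈ fixed X Y)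
    (h0 : ∀ c ∈ C, M *ᵥ c = 0) : M = 0 := by
  have hinj := Matrix.mulVec_injective_iff_isUnit.2 hX.isUnit_one_add
  have hinv : ∀ v, M *ᵥ v = 0 → M *ᵥ (Yᵀ *ᵥ v) = 0 := fun v hv => hinj (by
    rw [fixed_eq hM, hv, Matrix.mulVec_zero, Matrix.mulVec_zero, neg_zero])
  have key : ∀ k : ℕ, ∀ v, ∃ u w, M *ᵥ u = 0 ∧ v = u + (Yᵀ ^ k) *ᵥ w := by
    intro k
    induction k with
    | zero => exact fun v => ⟨0, v, Matrix.mulVec_zero _, by simp⟩
    | succ k ih =>
      intro v
      obtain ⟨u, w, hu, rfl⟩ := ih v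
      obtain ⟨c, hc, _, ⟨w', rfl⟩, e⟩ := Submodule.mem_sup.1 (hC.symm ▸ Submodule.mem_top : w ∈ C ⊔ _)
      refine ⟨u + (Yᵀ ^ k) *ᵥ c, w', ?_, ?_⟩
      · rw [Matrix.mulVec_add, hu, zero_add]
        have : ∀ j : ℕ, M *ᵥ ((Yᵀ ^ j) *ᵥ c) = 0 := by
          intro j
          induction j with
          | zero => rw [pow_zero, Matrix.one_mulVec]; exact h0 c hc
          | succ j ihj => rw [pow_succ', ← Matrix.mulVec_mulVec]; exact hinv _ ihj
        exact this k
      · rw [← e, Matrix.mulVec_add, pow_succ, ← Matrix.mulVec_mulVec, Matrix.mulVecLin_apply]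
        abel
  obtain ⟨k, hk⟩ := hY
  refine Matrix.toLin'.injective (LinearMap.ext fun v => ?_)
  obtain ⟨u, w, hu, e⟩ := key k v
  rw [← Matrix.transpose_pow, hk, Matrix.transpose_zero, Matrix.zero_mulVec, add_zero] at e
  rw [Matrix.toLin'_apply, e, hu, map_zero, LinearMap.zero_apply]

/-- Restriction of the fixed matrices to a subspace. -/
def restr (X : Matrix α α F) (Y : Matrix β β F) (C : Submodule F (β → F)) :
    fixed X Y →ₗ[F] (C →ₗ[F] (α → F)) where
  toFun M := (M : Matrix α β F).mulVecLin ∘ₗ C.subtype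
  map_add' M N := LinearMap.ext fun c => by simp [Matrix.add_mulVec]
  map_smul' a M := LinearMap.ext fun c => by simp [Matrix.smul_mulVec]

theorem restr_injective {X : Matrix α α F} {Y : Matrix β β F} (hX : IsNilpotent X) (hY : IsNilpotent Y)
    {C : Submodule F (β → F)} (hC : C ⊔ LinearMap.range Yᵀ.mulVecLin = ⊤) : Function.Injective (restr X Y C) :=
  (injective_iff_map_eq_zero _).2 fun M hM => Subtype.ext (fixed_ext hX hY hC M.2 fun c hc =>
    LinearMap.congr_fun hM ⟨c, hc⟩)

theorem finrank_fixed_le {X : Matrix α α F} {Y : Matrix β β F} (hX : IsNilpotent X) (hY : IsNilpotent Y) :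
    finrank F (fixed X Y) + Fintype.card α * Y.rank ≤ Fintype.card α * Fintype.card β := by
  obtain ⟨C, hC⟩ := Submodule.exists_isCompl (LinearMap.range Yᵀ.mulVecLin)
  have h1 := LinearMap.finrank_le_finrank_of_injective (restr_injective hX hY (C := C)
    (by rw [sup_comm]; exact hC.sup_eq_top))
  rw [Module.finrank_linearMap, Module.finrank_fintype_fun_eq_card] at h1
  have h2 := Submodule.finrank_add_eq_of_isCompl hC
  rw [Module.finrank_fintype_fun_eq_card,
    show finrank F (LinearMap.range Yᵀ.mulVecLin) = Yᵀ.rank from rfl, Matrix.rank_transpose] at h2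
  calc finrank F (fixed X Y) + Fintype.card α * Y.rank ≤ finrank F C * Fintype.card α + Fintype.card α * Y.rank :=
        Nat.add_le_add_right h1 _
    _ = Fintype.card α * Fintype.card β := by rw [← h2]; ring

/-- Strictness: a fixed vector outside the range. -/
theorem finrank_fixed_lt {X : Matrix α α F} {Y : Matrix β β F} (hX : IsNilpotent X) (hY : IsNilpotent Y)
    (hX0 : X ≠ 0) (hY2 : 2 * Y.rank < Fintype.card β) :
    finrank F (fixed X Y) + Fintype.card α * Y.rank < Fintype.card α * Fintype.card β := by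
  classical
  set R := LinearMap.range Yᵀ.mulVecLin
  have hR : finrank F R = Y.rank := (show finrank F R = Yᵀ.rank from rfl).trans (Matrix.rank_transpose _)
  obtain ⟨c, hc, hcR⟩ : ∃ c ∈ LinearMap.ker Yᵀ.mulVecLin, c ∉ R := by
    by_contra! hle
    have h1 : LinearMap.ker Yᵀ.mulVecLin ≤ R := hle
    have h2 := Submodule.finrank_mono h1
    have h3 := LinearMap.finrank_range_add_finrank_ker Yᵀ.mulVecLin
    rw [Module.finrank_fintype_fun_eq_card] at h3
    change finrank F R + _ = _ at h3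
    omega
  obtain ⟨C', hC'⟩ := Submodule.exists_isCompl (R ⊔ Submodule.span F {c})
  set C := Submodule.span F {c} ⊔ C'
  have hsup : C ⊔ R = ⊤ := by
    rw [← hC'.sup_eq_top, sup_comm C, sup_assoc]
  have hinf : C ⊓ R = ⊥ := by
    refine eq_bot_iff.2 fun z hz => ?_
    obtain ⟨hz1, hz2⟩ := hz
    obtain ⟨u, hu, v, hv, rfl⟩ := Submodule.mem_sup.1 hz1
    obtain ⟨a, rfl⟩ := Submodule.mem_span_singleton.1 hu
    have hv' : v ∈ R ⊔ Submodule.span F {c} := by
      have : v = (a • c + v) + (-a) • c := by module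
      rw [this]
      exact Submodule.add_mem_sup hz2 (Submodule.smul_mem _ _ (Submodule.mem_span_singleton_self c))
    have hv0 := Submodule.disjoint_def.1 hC'.disjoint v hv' hv
    rw [hv0, add_zero] at hz2 ⊢
    rw [Submodule.mem_bot]
    by_cases ha : a = 0
    · rw [ha, zero_smul]
    · exact absurd ((Submodule.smul_mem_iff _ ha).1 hz2) hcR
  have hcC : c ∈ C := Submodule.mem_sup_left (Submodule.mem_span_singleton_self c)
  obtain ⟨a, ha⟩ : ∃ a : α → F, X *ᵥ a ≠ 0 := by
    by_contra! h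
    exact hX0 (Matrix.toLin'.injective (LinearMap.ext fun v => by simp [h v]))
  have hne : LinearMap.range (restr X Y C) ≠ ⊤ := by
    intro e
    have hc0 : (⟨c, hcC⟩ : C) ≠ 0 := fun e' => hcR (by
      rw [show c = 0 from congrArg Subtype.val e']; exact zero_mem _)
    obtain ⟨T, hT⟩ : ∃ T : C →ₗ[F] (α → F), T ⟨c, hcC⟩ = a := by
      obtain ⟨χ, hχ⟩ := Module.Projective.exists_dual_ne_zero F hc0
      exact ⟨((χ ⟨c, hcC⟩)⁻¹ • χ).smulRight a, by simp [hχ]⟩
    obtain ⟨M, hM⟩ := (e.symm ▸ Submodule.mem_top : T ∈ LinearMap.range (restr X Y C))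
    have h1 := LinearMap.congr_fun hM ⟨c, hcC⟩
    rw [hT] at h1
    have h2 := fixed_eq M.2 c
    rw [show Yᵀ *ᵥ c = 0 from hc, Matrix.mulVec_zero, Matrix.mulVec_zero, eq_comm, neg_eq_zero] at h2
    exact ha (h1 ▸ h2)
  have h1 : finrank F (fixed X Y) < finrank F (C →ₗ[F] (α → F)) := by
    rw [← LinearMap.finrank_range_of_inj (restr_injective hX hY (C := C) hsup)]
    exact Submodule.finrank_lt hne
  rw [Module.finrank_linearMap, Module.finrank_fintype_fun_eq_card] at h1
  have h2 := Submodule.finrank_sup_add_finrank_inf_eq C R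
  rw [hsup, hinf, finrank_bot, finrank_top, Module.finrank_fintype_fun_eq_card, add_zero, hR] at h2
  calc finrank F (fixed X Y) + Fintype.card α * Y.rank < finrank F C * Fintype.card α + Fintype.card α * Y.rank :=
        Nat.add_lt_add_right h1 _
    _ = Fintype.card α * Fintype.card β := by rw [h2]; ring

/-- The vectors on `α × β` as matrices. -/
def unflat : (α × β → F) ≃ₗ[F] Matrix α β F where
  toFun v := Matrix.of fun i j => v (i, j)
  invFun M p := M p.1 p.2
  left_inv _ := rfl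
  right_inv _ := rfl
  map_add' _ _ := rfl
  map_smul' _ _ := rfl

theorem unflat_mulVec (A : Matrix α α F) (B : Matrix β β F) (v : α × β → F) :
    unflat ((A ⊗ₖ B) *ᵥ v) = A * unflat v * Bᵀ := by
  ext i j
  show ((A ⊗ₖ B) *ᵥ v) (i, j) = (A * (Matrix.of fun k l => v (k, l)) * Bᵀ) i j
  simp only [Matrix.of_apply, Matrix.mul_apply, Matrix.mulVec, dotProduct, Matrix.kroneckerMap_apply,
    Fintype.sum_prod_type, Matrix.transpose_apply, Finset.sum_mul]
  rw [Finset.sum_comm]
  exact Finset.sum_congr rfl fun l _ => Finset.sum_congr rfl fun k _ => by ring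

theorem finrank_ker_eq {X : Matrix α α F} {Y : Matrix β β F} :
    finrank F (LinearMap.ker ((1 + X) ⊗ₖ (1 + Y) - 1).mulVecLin) = finrank F (fixed X Y) := by
  refine (LinearEquiv.ofSubmodules unflat _ _ ?_).finrank_eq
  ext M
  simp only [Submodule.mem_map, LinearMap.mem_ker, Matrix.mulVecLin_apply, Matrix.sub_mulVec, Matrix.one_mulVec,
    sub_eq_zero]
  constructor
  · rintro ⟨v, hv, rfl⟩
    show (1 + X) * unflat v * (1 + Y)ᵀ = unflat v
    rw [← unflat_mulVec, hv]
  · intro hM
    refine ⟨unflat.symm M, unflat.injective ?_, unflat.apply_symm_apply M⟩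
    rw [unflat_mulVec, LinearEquiv.apply_symm_apply]
    exact hM

theorem finrank_fixed_swap {X : Matrix α α F} {Y : Matrix β β F} :
    finrank F (fixed X Y) = finrank F (fixed Y X) := by
  have key : ∀ {γ δ : Type} [Fintype γ] [DecidableEq γ] [Fintype δ] [DecidableEq δ] (P : Matrix γ γ F)
      (Q : Matrix δ δ F) (M : Matrix γ δ F), M ∈ fixed P Q → Mᵀ ∈ fixed Q P := by
    intro γ δ _ _ _ _ P Q M hM
    show (1 + Q) * Mᵀ * (1 + P)ᵀ = Mᵀ
    have h := congrArg Matrix.transpose (hM : (1 + P) * M * (1 + Q)ᵀ = M)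
    rwa [Matrix.transpose_mul, Matrix.transpose_mul, Matrix.transpose_transpose, ← Matrix.mul_assoc] at h
  refine (LinearEquiv.ofSubmodules (Matrix.transposeLinearEquiv α β F F) _ _ ?_).finrank_eq
  ext N
  simp only [Submodule.mem_map, LinearEquiv.coe_coe, Matrix.transposeLinearEquiv_apply]
  constructor
  · rintro ⟨M, hM, rfl⟩; exact key _ _ _ hM
  · exact fun hN => ⟨Nᵀ, key _ _ _ hN, Matrix.transpose_transpose N⟩

theorem rank_right {X : Matrix α α F} {Y : Matrix β β F} (hX : IsNilpotent X) (hY : IsNilpotent Y) :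
    Fintype.card α * Y.rank ≤ ((1 + X) ⊗ₖ (1 + Y) - 1).rank := by
  have h1 := LinearMap.finrank_range_add_finrank_ker ((1 + X) ⊗ₖ (1 + Y) - 1).mulVecLin
  rw [Module.finrank_fintype_fun_eq_card, Fintype.card_prod, finrank_ker_eq] at h1
  have := finrank_fixed_le hX hY
  change Fintype.card α * Y.rank ≤ finrank F (LinearMap.range ((1 + X) ⊗ₖ (1 + Y) - 1).mulVecLin)
  omega

theorem rank_right_lt {X : Matrix α α F} {Y : Matrix β β F} (hX : IsNilpotent X) (hY : IsNilpotent Y)
    (hX0 : X ≠ 0) (hY2 : 2 * Y.rank < Fintype.card β) :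
    Fintype.card α * Y.rank < ((1 + X) ⊗ₖ (1 + Y) - 1).rank := by
  have h1 := LinearMap.finrank_range_add_finrank_ker ((1 + X) ⊗ₖ (1 + Y) - 1).mulVecLin
  rw [Module.finrank_fintype_fun_eq_card, Fintype.card_prod, finrank_ker_eq] at h1
  have := finrank_fixed_lt hX hY hX0 hY2
  change Fintype.card α * Y.rank < finrank F (LinearMap.range ((1 + X) ⊗ₖ (1 + Y) - 1).mulVecLin)
  omega

theorem rank_left {X : Matrix α α F} {Y : Matrix β β F} (hX : IsNilpotent X) (hY : IsNilpotent Y) :
    Fintype.card β * X.rank ≤ ((1 + X) ⊗ₖ (1 + Y) - 1).rank := by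
  have h1 := LinearMap.finrank_range_add_finrank_ker ((1 + X) ⊗ₖ (1 + Y) - 1).mulVecLin
  rw [Module.finrank_fintype_fun_eq_card, Fintype.card_prod, finrank_ker_eq, finrank_fixed_swap] at h1
  have := finrank_fixed_le hY hX
  rw [mul_comm (Fintype.card β) (Fintype.card α)] at this
  change Fintype.card β * X.rank ≤ finrank F (LinearMap.range ((1 + X) ⊗ₖ (1 + Y) - 1).mulVecLin)
  omega

omit [DecidableEq α] [DecidableEq β] in
theorem eq_zero_of_rank [DecidableEq α] {X : Matrix α α F} (h : X.rank = 0) : X = 0 := by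
  have h1 : LinearMap.range X.mulVecLin = ⊥ := Submodule.finrank_eq_zero.1 h
  refine Matrix.toLin'.injective (LinearMap.ext fun v => ?_)
  rw [map_zero, LinearMap.zero_apply, Matrix.toLin'_apply]
  exact (Submodule.mem_bot F).1 (h1 ▸ ⟨v, rfl⟩)

theorem exists_rank_one {X : Matrix α α F} (h : X.rank = 1) (hX : IsNilpotent X) :
    ∃ e ψ : α → F, e ≠ 0 ∧ X = Matrix.vecMulVec e ψ ∧ ψ ⬝ᵥ e = 0 := by
  obtain ⟨⟨e, he⟩, he0, hspan⟩ := finrank_eq_one_iff'.1 h
  have hall : ∀ v, ∃ c : F, c • e = X *ᵥ v := fun v => by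
    obtain ⟨c, hc⟩ := hspan ⟨X *ᵥ v, v, rfl⟩
    exact ⟨c, congrArg Subtype.val hc⟩
  choose c hc using hall
  have he' : e ≠ 0 := fun e' => he0 (Subtype.ext e')
  refine ⟨e, fun i => c (Pi.single i 1), he', ?_, ?_⟩
  · ext i j
    have := congrFun (hc (Pi.single j 1)) i
    rw [Matrix.mulVec_single_one] at this
    simp only [Pi.smul_apply, smul_eq_mul, Matrix.col_apply] at this
    rw [Matrix.vecMulVec_apply, ← this, mul_comm]
  · obtain ⟨n, hn⟩ := hX
    set ψ := fun i => c (Pi.single i 1)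
    have hXe : X = Matrix.vecMulVec e ψ := by
      ext i j
      have := congrFun (hc (Pi.single j 1)) i
      rw [Matrix.mulVec_single_one] at this
      simp only [Pi.smul_apply, smul_eq_mul, Matrix.col_apply] at this
      rw [Matrix.vecMulVec_apply, ← this, mul_comm]
    have hpow : ∀ k : ℕ, (X ^ k) *ᵥ e = (ψ ⬝ᵥ e) ^ k • e := by
      intro k
      induction k with
      | zero => simp
      | succ k ih =>
        rw [pow_succ', ← Matrix.mulVec_mulVec, ih, Matrix.mulVec_smul, hXe, Matrix.vecMulVec_mulVec,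
          op_smul_eq_smul, smul_smul, ← pow_succ]
    have := hpow n
    rw [hn, Matrix.zero_mulVec, eq_comm, smul_eq_zero] at this
    exact pow_eq_zero_iff'.1 (this.resolve_right he') |>.1

/-- The image of a product of two transvection-like factors is small. -/
theorem rank_two_le {e ψ : α → F} {r φ : β → F} (he : e ≠ 0) (hψe : ψ ⬝ᵥ e = 0) (hφr : φ ⬝ᵥ r = 0)
    (hψ : ψ ≠ 0) :
    ((1 + Matrix.vecMulVec e ψ) ⊗ₖ (1 + Matrix.vecMulVec r φ) - 1).rank + 2 ≤ Fintype.card α + Fintype.card β := by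
  classical
  let Φ : (β → F) × (α → F) →ₗ[F] (α × β → F) :=
    { toFun := fun p => pt e p.1 + pt p.2 r
      map_add' := fun p q => by funext x; simp [pt]; ring
      map_smul' := fun c p => by funext x; simp [pt]; ring }
  let L : (β → F) × (α → F) →ₗ[F] F :=
    { toFun := fun p => φ ⬝ᵥ p.1 - ψ ⬝ᵥ p.2
      map_add' := fun p q => by simp [dotProduct_add]; ring
      map_smul' := fun c p => by simp [dotProduct_smul]; ring }
  have hsub : LinearMap.range ((1 + Matrix.vecMulVec e ψ) ⊗ₖ (1 + Matrix.vecMulVec r φ) - 1).mulVecLin ≤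
      (LinearMap.ker L).map Φ := by
    rintro _ ⟨v, rfl⟩
    refine ⟨(ct₁ ψ v, (1 + Matrix.vecMulVec e ψ) *ᵥ (con α φ *ᵥ v)), ?_, ?_⟩
    · show φ ⬝ᵥ ct₁ ψ v - ψ ⬝ᵥ ((1 + Matrix.vecMulVec e ψ) *ᵥ (con α φ *ᵥ v)) = 0
      rw [Matrix.add_mulVec, Matrix.one_mulVec, Matrix.vecMulVec_mulVec, op_smul_eq_smul, dotProduct_add,
        dotProduct_smul, hψe, smul_zero, add_zero, dot_ct₁, sub_self]
    · show pt e (ct₁ ψ v) + pt ((1 + Matrix.vecMulVec e ψ) *ᵥ (con α φ *ᵥ v)) r = _
      rw [Matrix.mulVecLin_apply, Matrix.add_kronecker, Matrix.kronecker_add, Matrix.kronecker_add,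
        Matrix.one_kronecker_one, Matrix.sub_mulVec]
      simp only [Matrix.add_mulVec, Matrix.one_mulVec, one_kron_mulVec, kron_one_mulVec, kron_kron_mulVec,
        Matrix.vecMulVec_mulVec, op_smul_eq_smul]
      funext p
      simp [pt]
      ring
  have h1 := Submodule.finrank_mono hsub
  obtain ⟨i, hi⟩ := Function.ne_iff.1 hψ
  have hL : LinearMap.range L = ⊤ := by
    refine LinearMap.range_eq_top.2 fun c => ⟨(0, Pi.single i (-c / ψ i)), ?_⟩
    show φ ⬝ᵥ 0 - ψ ⬝ᵥ Pi.single i (-c / ψ i) = c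
    rw [dotProduct_zero, dotProduct_single, mul_div_cancel₀ _ hi]
    ring
  have h2 := LinearMap.finrank_range_add_finrank_ker L
  rw [hL, finrank_top, Module.finrank_self, Module.finrank_prod, Module.finrank_fintype_fun_eq_card,
    Module.finrank_fintype_fun_eq_card] at h2
  have hker : ((r, -e) : (β → F) × (α → F)) ∈ LinearMap.ker L := by
    show φ ⬝ᵥ r - ψ ⬝ᵥ (-e) = 0
    rw [hφr, dotProduct_neg, hψe, neg_zero, sub_zero]
  have h3 := LinearMap.finrank_range_add_finrank_ker (Φ.domRestrict (LinearMap.ker L))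
  have h4 : 1 ≤ finrank F (LinearMap.ker (Φ.domRestrict (LinearMap.ker L))) :=
    Submodule.one_le_finrank_iff.2 fun hbot => he (by
      have hm : (⟨_, hker⟩ : LinearMap.ker L) ∈ LinearMap.ker (Φ.domRestrict (LinearMap.ker L)) := by
        show pt e r + pt (-e) r = 0
        funext p; simp [pt]
      rw [hbot, Submodule.mem_bot] at hm
      simpa using congrArg (fun p : LinearMap.ker L => p.1.2) hm)
  rw [LinearMap.range_domRestrict] at h3
  change finrank F (LinearMap.range _) + 2 ≤ _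
  omega

theorem exists_unipotent_factors [Finite F] {x : GL (α × β) F} (hx : Kr x) {η : Matrix (α × β) (α × β) F}
    (e : (x : Matrix (α × β) (α × β) F) = 1 + η) (hη : η * η = 0) (hα : 0 < Fintype.card α)
    (hβ : 0 < Fintype.card β) :
    ∃ (P : Matrix α α F) (Q : Matrix β β F), IsNilpotent P ∧ IsNilpotent Q ∧ η = (1 + P) ⊗ₖ (1 + Q) - 1 := by
  classical
  obtain ⟨A, B, hAB⟩ := hx
  obtain ⟨p, hp⟩ := CharP.exists F
  have hpr : p.Prime := (CharP.char_is_prime_or_zero F p).resolve_right (CharP.char_ne_zero_of_finite F p)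
  have : Fact p.Prime := ⟨hpr⟩
  have : ExpChar F p := ExpChar.prime hpr
  obtain ⟨i₀⟩ : Nonempty α := Fintype.card_pos_iff.1 hα
  obtain ⟨j₀⟩ : Nonempty β := Fintype.card_pos_iff.1 hβ
  haveI : Nonempty α := ⟨i₀⟩
  haveI : Nonempty β := ⟨j₀⟩
  have hn : ∀ n : ℕ, (1 + η) ^ n = 1 + (n : F) • η := by
    intro n
    induction n with
    | zero => simp
    | succ n ih =>
      rw [pow_succ, ih, add_mul, mul_add, mul_add, smul_mul_assoc, smul_mul_assoc, hη, smul_zero, one_mul, one_mul,
        mul_one, add_zero, Nat.cast_succ, add_smul, one_smul]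
      abel
  have hpow : ((A : Matrix α α F) ^ p) ⊗ₖ ((B : Matrix β β F) ^ p) = 1 := by
    have hk : ∀ n : ℕ, ((A : Matrix α α F) ⊗ₖ (B : Matrix β β F)) ^ n =
        ((A : Matrix α α F) ^ n) ⊗ₖ ((B : Matrix β β F) ^ n) := by
      intro n
      induction n with
      | zero => simp
      | succ n ih => rw [pow_succ, ih, ← Matrix.mul_kronecker_mul, pow_succ, pow_succ]
    rw [← hk, ← hAB, e, hn, CharP.cast_eq_zero, zero_smul, add_zero]
  set ν := ((B : Matrix β β F) ^ p) j₀ j₀
  have hent : ∀ i k j l, ((A : Matrix α α F) ^ p) i k * ((B : Matrix β β F) ^ p) j l =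
      (1 : Matrix (α × β) (α × β) F) (i, j) (k, l) := fun i k j l => by rw [← hpow, Matrix.kroneckerMap_apply]
  have hν : ν ≠ 0 := fun e0 => by
    have := hent i₀ i₀ j₀ j₀
    simp [ν] at e0
    rw [e0, mul_zero, Matrix.one_apply_eq] at this
    exact zero_ne_one this
  have hAp : (A : Matrix α α F) ^ p = ν⁻¹ • 1 := by
    ext i k
    have h : ((A : Matrix α α F) ^ p) i k * ν = (1 : Matrix (α × β) (α × β) F) (i, j₀) (k, j₀) := hent i k j₀ j₀
    rw [Matrix.smul_apply, smul_eq_mul, eq_inv_mul_iff_mul_eq₀ hν, mul_comm, h]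
    simp [Matrix.one_apply, Prod.ext_iff]
  have hBp : (B : Matrix β β F) ^ p = ν • 1 := by
    ext j l
    have h := hent i₀ i₀ j l
    rw [hAp] at h
    simp only [Matrix.smul_apply, smul_eq_mul, Matrix.one_apply, if_true, mul_one, Prod.mk.injEq, true_and] at h
    rw [Matrix.smul_apply, smul_eq_mul, Matrix.one_apply, ← h, ← mul_assoc, mul_inv_cancel₀ hν, one_mul]
  obtain ⟨c, hc⟩ := (Finite.injective_iff_surjective.1 (frobenius_inj F p)) ν
  rw [frobenius_def] at hc
  have hc0 : c ≠ 0 := fun e0 => hν (by rw [← hc, e0, zero_pow hpr.ne_zero])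
  refine ⟨c • (A : Matrix α α F) - 1, c⁻¹ • (B : Matrix β β F) - 1, ⟨p, ?_⟩, ⟨p, ?_⟩, ?_⟩
  · rw [sub_pow_char_of_commute p (Commute.one_right _), one_pow, smul_pow, hAp, hc, smul_smul, mul_inv_cancel₀ hν,
      one_smul, sub_self]
  · rw [sub_pow_char_of_commute p (Commute.one_right _), one_pow, smul_pow, hBp, inv_pow, hc, smul_smul,
      inv_mul_cancel₀ hν, one_smul, sub_self]
  · rw [add_sub_cancel, add_sub_cancel, Matrix.smul_kronecker, Matrix.kronecker_smul, smul_smul,
      mul_inv_cancel₀ hc0, one_smul, ← hAB, e, add_sub_cancel_left]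

namespace Ctx

variable {g : (β → F) →ₛₗ[σ] (β → F) →ₗ[F] F} {f : (α → F) →ₛₗ[σ] (α → F) →ₗ[F] F}
  {H : (α × β → F) →ₛₗ[σ] (α × β → F) →ₗ[F] F} {X : Subgroup (GL (α × β) F)} (K : Ctx f g H X)
include K

theorem exists_con_surj {w : β → F} (hw : w ≠ 0) (a : α → F) : ∃ v, cg α g w *ᵥ v = a := by
  obtain ⟨z, hz⟩ := K.hg.exists_apply_eq_one hw
  exact ⟨pt a z, by rw [cg_pt, hz, one_smul]⟩

/-- A conjugate of a transvection element which is a Kronecker product comes from a Kronecker product. -/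
theorem kr_of_transvection [Finite F] (hG : ¬ Good g X) {h u : GL (α × β) F} (hh : h ∈ X) {z : β → F} (hz0 : z ≠ 0)
    (hz : g z z = 0) {c : F} (hc : c ≠ 0)
    (eu : (u : Matrix (α × β) (α × β) F) = 1 + c • (emb α z * cg α g z))
    (hk : Kr (h * u * h⁻¹)) : Kr h := by
  classical
  set Hm := (h : Matrix (α × β) (α × β) F)
  set Hi := ((h⁻¹ : GL (α × β) F) : Matrix (α × β) (α × β) F)
  have hHH' : Hm * Hi = 1 := Units.mul_inv h
  have hHH : Hi * Hm = 1 := Units.inv_mul h
  set η := Hm * (c • (emb α z * cg α g z)) * Hi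
  have e : ((h * u * h⁻¹ : GL (α × β) F) : Matrix (α × β) (α × β) F) = 1 + η := by
    rw [Units.val_mul, Units.val_mul, eu, mul_add, mul_one, add_mul]
    show Hm * Hi + _ = _
    rw [hHH']
  have hsq : (c • (emb α z * cg α g z)) * (c • (emb α z * cg α g z)) = 0 := by
    rw [Matrix.smul_mul, Matrix.mul_smul, Matrix.mul_assoc, ← Matrix.mul_assoc (cg α g z), cg_emb_zero hz]
    simp
  have hη : η * η = 0 := by
    rw [show η * η = Hm * ((c • (emb α z * cg α g z)) * (Hi * Hm) * (c • (emb α z * cg α g z))) * Hi by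
      simp only [η, Matrix.mul_assoc], hHH, Matrix.mul_one, hsq, Matrix.mul_zero, Matrix.zero_mul]
  have ha2 := K.two
  have hab := K.lt
  obtain ⟨P, Q, hP, hQ, eη⟩ := exists_unipotent_factors hk e hη (by omega) (by omega)
  have hmem : ∀ a, Hm *ᵥ pt a z ∈ LinearMap.range η.mulVecLin := by
    intro a
    obtain ⟨v, hv⟩ := K.exists_con_surj hz0 (c⁻¹ • a)
    refine ⟨Hm *ᵥ v, ?_⟩
    simp only [η, Matrix.mulVecLin_apply, ← Matrix.mulVec_mulVec]
    rw [Matrix.mulVec_mulVec v Hi Hm, hHH, Matrix.one_mulVec, Matrix.smul_mulVec, ← Matrix.mulVec_mulVec, hv,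
      ← Matrix.mulVec_smul, smul_smul, mul_inv_cancel₀ hc, one_smul, emb_mulVec]
  have hrank : η.rank ≤ Fintype.card α := by
    refine le_trans (Submodule.finrank_mono (t := (line α z).map Hm.mulVecLin) ?_)
      ((Submodule.finrank_map_le _ _).trans_eq (finrank_line hz0))
    rintro _ ⟨v, rfl⟩
    refine ⟨emb α z *ᵥ (c • (cg α g z *ᵥ (Hi *ᵥ v))), mem_line.2 ⟨_, (emb_mulVec _ _).symm⟩, ?_⟩
    simp only [η, Matrix.mulVecLin_apply, ← Matrix.mulVec_mulVec, Matrix.smul_mulVec, Matrix.mulVec_smul]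
  rw [eη] at hrank
  have hP0 : P = 0 := eq_zero_of_rank (by
    have := (rank_left hP hQ).trans hrank
    rcases Nat.eq_zero_or_pos P.rank with h0 | h0
    · exact h0
    · have := Nat.le_mul_of_pos_right (Fintype.card β) h0; omega)
  have hQ1 : Q.rank ≤ 1 := by
    have h1 := (rank_right hP hQ).trans hrank
    exact Nat.le_of_mul_le_mul_left (by omega) (by omega : 0 < Fintype.card α)
  have eη' : η = (1 : Matrix α α F) ⊗ₖ Q := by
    rw [eη, hP0, add_zero, Matrix.kronecker_add, Matrix.one_kronecker_one, add_sub_cancel_left]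
  rcases Nat.eq_zero_or_pos Q.rank with h0 | h0
  · exfalso
    obtain ⟨a₁, c₁, hac⟩ := K.exists_f_one
    obtain ⟨v, hv⟩ := hmem c₁
    rw [eη', eq_zero_of_rank h0, Matrix.kronecker_zero, Matrix.mulVecLin_apply, Matrix.zero_mulVec, eq_comm] at hv
    have h2 : emb α z *ᵥ c₁ = 0 := Matrix.mulVec_injective_iff_isUnit.2 h.isUnit (by
      rw [emb_mulVec, Matrix.mulVec_zero]; exact hv)
    rw [emb_mulVec_eq_zero hz0 h2, map_zero] at hac
    exact zero_ne_one hac
  obtain ⟨r, φ, hr, hQe, -⟩ := exists_rank_one (le_antisymm hQ1 h0) hQ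
  obtain ⟨A₀, hA₀⟩ := exists_mat_of_line (M := Hm) (w := z) hr fun a => by
    obtain ⟨v, hv⟩ := hmem a
    rw [← hv, eη', hQe, Matrix.mulVecLin_apply, one_kron_mulVec]
    exact mem_line.2 ⟨_, rfl⟩
  exact K.line_kr hG hh hz0 hz hA₀

/-- The same for a Siegel element, in the boundary case. -/
theorem kr_of_siegel [Finite F] (hG : ¬ Good g X) (hb : Fintype.card β = Fintype.card α + 1) {h s : GL (α × β) F}
    (hh : h ∈ X) {w y : β → F} (hw : g w w = 0) (hy : g y y = 0) (hwy : g w y = 0) (hw0 : w ≠ 0)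
    (hind : y ∉ Submodule.span F {w})
    (es : (s : Matrix (α × β) (α × β) F) = 1 + (emb α w * cg α g y - emb α y * cg α g w))
    (hlow : ∀ r : β → F, r ≠ 0 → g r r = 0 →
      finrank F (img h w ⊓ LinearMap.ker (cg α g r).mulVecLin : Submodule F _) ≤ 1)
    (hk : Kr (h * s * h⁻¹)) : Kr h := by
  classical
  have hyw : g y w = 0 := K.hg.eq_zero_symm hwy
  have ha2 := K.two
  have h5 := K.four
  set S := emb α w * cg α g y - emb α y * cg α g w with hS
  set Hm := (h : Matrix (α × β) (α × β) F)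
  set Hi := ((h⁻¹ : GL (α × β) F) : Matrix (α × β) (α × β) F)
  have hHH' : Hm * Hi = 1 := Units.mul_inv h
  have hHH : Hi * Hm = 1 := Units.inv_mul h
  set η := Hm * S * Hi with hηdef
  have e : ((h * s * h⁻¹ : GL (α × β) F) : Matrix (α × β) (α × β) F) = 1 + η := by
    rw [Units.val_mul, Units.val_mul, es, mul_add, mul_one, add_mul]
    show Hm * Hi + _ = _
    rw [hHH']
  have hsq : S * S = 0 := short_sq hw (cg_emb_zero hwy) (cg_emb_zero hyw) (cg_emb_zero hy)
  have hη : η * η = 0 := by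
    rw [show η * η = Hm * (S * (Hi * Hm) * S) * Hi by simp only [η, Matrix.mul_assoc], hHH, Matrix.mul_one, hsq,
      Matrix.mul_zero, Matrix.zero_mul]
  obtain ⟨P, Q, hP, hQ, eη⟩ := exists_unipotent_factors hk e hη (by omega) (by omega)
  -- the image of `η`
  obtain ⟨φy, hφy0, hφy1⟩ := CfsgLib.Geo.exists_functional w y hind
  have hwy' : w ∉ Submodule.span F {y} := fun hm => hind (by
    obtain ⟨a, ha⟩ := Submodule.mem_span_singleton.1 hm
    have ha0 : a ≠ 0 := fun e' => hw0 (by rw [← ha, e', zero_smul])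
    exact Submodule.mem_span_singleton.2 ⟨a⁻¹, by rw [← ha, inv_smul_smul₀ ha0]⟩)
  have hphi : ∀ φ : β → F, ∃ z, ∀ u, g u z = φ ⬝ᵥ (fun j => σ (u j)) := by
    let L : (β → F) →ₗ[F] (β → F) :=
      { toFun := fun v i => g (Pi.single i 1) v
        map_add' := fun u v => funext fun i => map_add _ _ _
        map_smul' := fun c v => funext fun i => by simp }
    have hdet : ∀ (a v : β → F), g a v = L v ⬝ᵥ fun j => σ (a j) := fun a v => by
      conv_lhs => rw [pi_eq_sum_univ' a]
      rw [map_sum, LinearMap.sum_apply]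
      exact Finset.sum_congr rfl fun i _ => by rw [smul_left, mul_comm]; rfl
    have hinj : Function.Injective L := (injective_iff_map_eq_zero L).2 fun v hv => by
      refine K.hg.nondeg v fun a => ?_
      rw [← K.hg.symm, hdet, hv]
      simp
    intro φ
    obtain ⟨z, hz⟩ := LinearMap.injective_iff_surjective.1 hinj φ
    exact ⟨z, fun u => by rw [hdet, hz]⟩
  have hSmem : ∀ a b, pt a w + pt b y ∈ LinearMap.range S.mulVecLin := by
    intro a b
    obtain ⟨φw, hφw0, hφw1⟩ := CfsgLib.Geo.exists_functional y w hwy'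
    obtain ⟨z₁, hz₁⟩ := hphi fun j => σ (φy j)
    obtain ⟨z₂, hz₂⟩ := hphi fun j => σ (φw j)
    have hd : ∀ (φ u : β → F), ((fun j => σ (φ j)) ⬝ᵥ fun j => σ (u j)) = σ (φ ⬝ᵥ u) := fun φ u => by
      simp [dotProduct, map_sum]
    have e1 : g w z₁ = 0 := by rw [hz₁, hd, hφy0, map_zero]
    have e2 : g y z₁ = 1 := by rw [hz₁, hd, hφy1, map_one]
    have e3 : g y z₂ = 0 := by rw [hz₂, hd, hφw0, map_zero]
    have e4 : g w z₂ = 1 := by rw [hz₂, hd, hφw1, map_one]
    refine ⟨pt a z₁ + pt (-b) z₂, ?_⟩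
    simp only [hS, Matrix.mulVecLin_apply, Matrix.sub_mulVec, Matrix.mulVec_add, ← Matrix.mulVec_mulVec, cg_pt, e1, e2,
      e3, e4, zero_smul, one_smul, Matrix.mulVec_zero, emb_mulVec]
    funext p; simp [pt]
  have hrank : 2 * Fintype.card α ≤ η.rank := by
    let Ψ : (α → F) × (α → F) →ₗ[F] (α × β → F) :=
      { toFun := fun p => Hm *ᵥ (pt p.1 w + pt p.2 y)
        map_add' := fun p q => by
          rw [← Matrix.mulVec_add]; congr 1; funext x; simp [pt]; ring
        map_smul' := fun c p => by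
          rw [RingHom.id_apply, ← Matrix.mulVec_smul]; congr 1; funext x; simp [pt]; ring }
    have hinjΨ : Function.Injective Ψ := (injective_iff_map_eq_zero Ψ).2 fun p hp => by
      have h1 : pt p.1 w + pt p.2 y = 0 := Matrix.mulVec_injective_iff_isUnit.2 h.isUnit (by
        rw [Matrix.mulVec_zero]; exact hp)
      have h2 := congrArg (con α φy *ᵥ ·) h1
      simp only [Matrix.mulVec_add, con_pt, hφy0, hφy1, zero_smul, one_smul, zero_add, Matrix.mulVec_zero] at h2
      rw [h2, show pt (0 : α → F) y = 0 from by funext x; simp [pt], add_zero] at h1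
      have h3 : emb α w *ᵥ p.1 = 0 := by rw [emb_mulVec]; exact h1
      exact Prod.ext (emb_mulVec_eq_zero hw0 h3) h2
    have h1 := Submodule.finrank_mono (show LinearMap.range Ψ ≤ LinearMap.range η.mulVecLin by
      rintro _ ⟨p, rfl⟩
      obtain ⟨v, hv⟩ := hSmem p.1 p.2
      refine ⟨Hm *ᵥ v, ?_⟩
      rw [Matrix.mulVecLin_apply] at hv ⊢
      show η *ᵥ (Hm *ᵥ v) = Hm *ᵥ _
      rw [hηdef, ← Matrix.mulVec_mulVec, Matrix.mulVec_mulVec v Hi Hm, hHH, Matrix.one_mulVec, ← Matrix.mulVec_mulVec,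
        hv])
    rw [LinearMap.finrank_range_of_inj hinjΨ, Module.finrank_prod, Module.finrank_fintype_fun_eq_card] at h1
    change 2 * Fintype.card α ≤ finrank F (LinearMap.range η.mulVecLin)
    omega
  have hupper : η.rank ≤ 2 * Fintype.card α := by
    refine le_trans (Submodule.finrank_mono (t := ((line α w ⊔ line α y).map Hm.mulVecLin)) ?_) ?_
    · rintro _ ⟨v, rfl⟩
      refine ⟨S *ᵥ (Hi *ᵥ v), ?_, ?_⟩
      · rw [hS, Matrix.sub_mulVec, ← Matrix.mulVec_mulVec, ← Matrix.mulVec_mulVec, emb_mulVec, emb_mulVec]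
        exact Submodule.sub_mem _ (Submodule.mem_sup_left (mem_line.2 ⟨_, rfl⟩))
          (Submodule.mem_sup_right (mem_line.2 ⟨_, rfl⟩))
      · simp only [η, Matrix.mulVecLin_apply, ← Matrix.mulVec_mulVec]
    · refine (Submodule.finrank_map_le _ _).trans ?_
      have := Submodule.finrank_add_le_finrank_add_finrank (line α w) (line α y)
      rw [finrank_line hw0, finrank_line (fun e' => hind (by rw [e']; exact zero_mem _))] at this
      omega
  rw [eη] at hrank hupper
  have hP1 : P.rank ≤ 1 := by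
    have h1 := (rank_left hP hQ).trans hupper
    by_contra hc
    have : Fintype.card β * 2 ≤ Fintype.card β * P.rank := Nat.mul_le_mul_left _ (by omega)
    omega
  rcases Nat.eq_zero_or_pos P.rank with hP0 | hP0
  · -- `η = 1 ⊗ Q`: the conjugated transvection fixes one line
    have eη' : η = (1 : Matrix α α F) ⊗ₖ Q := by
      rw [eη, eq_zero_of_rank hP0, add_zero, Matrix.kronecker_add, Matrix.one_kronecker_one, add_sub_cancel_left]
    obtain ⟨z, hz⟩ : ∃ z, Q *ᵥ z ≠ 0 := by
      by_contra! hc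
      rw [eq_zero_of_rank hP0, add_zero, show Q = 0 from Matrix.toLin'.injective (LinearMap.ext fun v => by simp [hc v]),
        add_zero, Matrix.one_kronecker_one, sub_self, Matrix.rank_zero] at hrank
      omega
    set r := Q *ᵥ z
    have hline : ∀ a, ∃ a' b', pt a r = Hm *ᵥ (pt a' w + pt b' y) := by
      intro a
      have hv : η *ᵥ pt a z = pt a r := by
        rw [eη', ← emb_mulVec, Matrix.mulVec_mulVec, kronecker_mul_emb, Matrix.mul_one, emb_mulVec]
      refine ⟨cg α g y *ᵥ (Hi *ᵥ pt a z), -(cg α g w *ᵥ (Hi *ᵥ pt a z)), ?_⟩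
      rw [← hv, hηdef, ← Matrix.mulVec_mulVec, ← Matrix.mulVec_mulVec, hS, Matrix.sub_mulVec, ← Matrix.mulVec_mulVec,
        ← Matrix.mulVec_mulVec, emb_mulVec, emb_mulVec]
      congr 1
      funext p; simp [pt]; ring
    have hrr : g r r = 0 := by
      obtain ⟨a₁, c₁, hac⟩ := K.exists_f_one
      obtain ⟨p, q, e1⟩ := hline a₁
      obtain ⟨p', q', e2⟩ := hline c₁
      have h1 := K.pt_pt a₁ c₁ r r
      rw [hac, mul_one, e1, e2, K.iso h hh] at h1
      rw [← h1]
      simp only [map_add, LinearMap.add_apply, K.pt_pt, hw, hy, hwy, hyw, zero_mul, add_zero]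
    obtain ⟨θ, hθ0, hθ⟩ := K.hg.exists_skew
    obtain ⟨u, hu, eu⟩ := K.transvection_mem hw hθ
    refine K.kr_of_transvection hG hh hw0 hw hθ0 eu
      (K.line_kr hG (X.mul_mem (X.mul_mem hh hu) (X.inv_mem hh)) (w := r) (w' := r) hz hrr (A₀ := 1) ?_)
    rw [Matrix.mul_one]
    refine Matrix.toLin'.injective (LinearMap.ext fun a => ?_)
    obtain ⟨p, q, e1⟩ := hline a
    rw [Matrix.toLin'_apply, Matrix.toLin'_apply, ← Matrix.mulVec_mulVec, emb_mulVec, e1, Units.val_mul, Units.val_mul,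
      ← Matrix.mulVec_mulVec, ← Matrix.mulVec_mulVec, eu]
    congr 1
    rw [Matrix.mulVec_mulVec (pt p w + pt q y) Hi Hm, hHH, Matrix.one_mulVec, Matrix.add_mulVec, Matrix.one_mulVec,
      Matrix.smul_mulVec, ← Matrix.mulVec_mulVec, Matrix.mulVec_add, cg_pt, cg_pt, hw, hwy]
    simp
  exfalso
  obtain ⟨e₁, ψ, he₁, hPe, hψe⟩ := exists_rank_one (le_antisymm hP1 hP0) hP
  have hψ : ψ ≠ 0 := fun e0 => by
    rw [hPe, e0, show Matrix.vecMulVec e₁ (0 : α → F) = 0 from by ext; simp [Matrix.vecMulVec_apply],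
      Matrix.rank_zero] at hP0
    omega
  have hQ2 : Q.rank ≤ 2 := by
    have h1 := (rank_right hP hQ).trans hupper
    exact Nat.le_of_mul_le_mul_left (by linarith) (by omega : 0 < Fintype.card α)
  rcases (show Q.rank = 0 ∨ Q.rank = 1 ∨ Q.rank = 2 by omega) with hr | hr | hr
  · have := rank_two_le (r := (0 : β → F)) (φ := (0 : β → F)) he₁ hψe (by simp) hψ
    rw [show Matrix.vecMulVec (0 : β → F) (0 : β → F) = Q by
      rw [eq_zero_of_rank hr]; ext; simp [Matrix.vecMulVec_apply], ← hPe] at this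
    omega
  · obtain ⟨r, φ, -, hQe, hφr⟩ := exists_rank_one hr hQ
    have := rank_two_le (r := r) (φ := φ) he₁ hψe hφr hψ
    rw [← hQe, ← hPe] at this
    omega
  · -- all of the image lies near the lines of `range Q`
    obtain ⟨u, hu0, huu, hperp⟩ : ∃ u : β → F, u ≠ 0 ∧ g u u = 0 ∧ ∀ v, g u (Q *ᵥ v) = 0 := by
      set R := LinearMap.range Q.mulVecLin
      have hfr : finrank F R = 2 := hr
      let b := Module.finBasisOfFinrankEq F R hfr
      let L : (β → F) →ₗ[F] (Fin 2 → F) := LinearMap.pi fun i => g (b i : β → F)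
      have hO : 2 ≤ finrank F (LinearMap.ker L) := by
        have h1 := LinearMap.finrank_range_add_finrank_ker L
        have h2 := Submodule.finrank_le (LinearMap.range L)
        rw [Module.finrank_fintype_fun_eq_card] at h1
        rw [Module.finrank_fin_fun] at h2
        omega
      obtain ⟨u, hu, hu0, huu⟩ : ∃ u ∈ LinearMap.ker L, u ≠ 0 ∧ g u u = 0 := by
        by_cases hn : ∀ x ∈ LinearMap.ker L, (∀ y ∈ LinearMap.ker L, g x y = 0) → x = 0
        · obtain ⟨u, hu0, huu⟩ := (K.hg.restrict_herm hn).exists_isotropic hO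
          exact ⟨u, u.2, fun e0 => hu0 (Subtype.ext e0), huu⟩
        · push Not at hn
          obtain ⟨x, hx, hxx, hx0⟩ := hn
          exact ⟨x, hx, hx0, hxx x hx⟩
      refine ⟨u, hu0, huu, fun v => ?_⟩
      have hb : ∀ i, g u (b i : β → F) = 0 := fun i => K.hg.eq_zero_symm (congrFun (LinearMap.mem_ker.1 hu) i)
      have := b.sum_repr ⟨Q *ᵥ v, v, rfl⟩
      rw [← show _ = Q *ᵥ v from congrArg Subtype.val this, Submodule.coe_sum, map_sum]
      exact Finset.sum_eq_zero fun i _ => by rw [Submodule.coe_smul, smul_right, hb, mul_zero]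
    have hone : ∀ z : α × β → F, cg α g u *ᵥ (((1 : Matrix α α F) ⊗ₖ Q) *ᵥ z) = 0 := fun z => by
      funext i
      rw [cg, con_mulVec, Pi.zero_apply, ← hperp (fun l => z (i, l)), ← phi_dot, dotProduct]
      refine Finset.sum_congr rfl fun j _ => ?_
      congr 1
      simp [Matrix.mulVec, dotProduct, Fintype.sum_prod_type, Matrix.kroneckerMap_apply, Matrix.one_apply]
    have hPone : ∀ z : α × β → F, cg α g u *ᵥ ((P ⊗ₖ (1 : Matrix β β F)) *ᵥ z) ∈ Submodule.span F {e₁} := fun z => by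
      rw [hPe, kron_one_mulVec, cg_pt]
      exact Submodule.smul_mem _ _ (Submodule.mem_span_singleton_self _)
    have hlin : ∀ x ∈ img h w, (cg α g u).mulVecLin x ∈ Submodule.span F {e₁} := by
      rintro _ ⟨v, hv, rfl⟩
      obtain ⟨a, rfl⟩ := mem_line.1 hv
      obtain ⟨v, hv⟩ := hSmem a 0
      rw [Matrix.mulVecLin_apply] at hv
      have e2 : Hm *ᵥ pt a w = η *ᵥ (Hm *ᵥ v) := by
        rw [hηdef, ← Matrix.mulVec_mulVec, Matrix.mulVec_mulVec v Hi Hm, hHH, Matrix.one_mulVec,
          ← Matrix.mulVec_mulVec, hv]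
        congr 1
        funext x; simp [pt]
      have e3 : η = P ⊗ₖ (1 : Matrix β β F) * (1 + (1 : Matrix α α F) ⊗ₖ Q) + (1 : Matrix α α F) ⊗ₖ Q := by
        rw [eη, Matrix.mul_add, Matrix.mul_one, ← Matrix.mul_kronecker_mul, Matrix.mul_one, Matrix.one_mul,
          Matrix.add_kronecker, Matrix.kronecker_add, Matrix.kronecker_add, Matrix.one_kronecker_one]
        abel
      simp only [Matrix.mulVecLin_apply]
      rw [e2, e3, Matrix.add_mulVec, ← Matrix.mulVec_mulVec, Matrix.mulVec_add, hone, add_zero]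
      exact hPone _
    have h1 := hlow u hu0 huu
    have h2 := LinearMap.finrank_range_add_finrank_ker ((cg α g u).mulVecLin.domRestrict (img h w))
    have h3 : finrank F (LinearMap.range ((cg α g u).mulVecLin.domRestrict (img h w))) ≤ 1 :=
      (Submodule.finrank_mono (show _ ≤ Submodule.span F {e₁} by
        rintro _ ⟨x, rfl⟩; exact hlin x.1 x.2)).trans (finrank_span_singleton he₁).le
    have h4 : finrank F (LinearMap.ker ((cg α g u).mulVecLin.domRestrict (img h w))) ≤
        finrank F (img h w ⊓ LinearMap.ker (cg α g u).mulVecLin : Submodule F _) := by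
      refine le_of_eq_of_le (Submodule.equivMapOfInjective _ (Submodule.injective_subtype _) _).finrank_eq ?_
      refine Submodule.finrank_mono ?_
      rintro _ ⟨x, hx, rfl⟩
      exact ⟨x.2, hx⟩
    rw [finrank_img h hw0] at h2
    omega

end Ctx

end CfsgLib.Geo.UnitTensor
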