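/-
Common zeros, over the fixed field, of polynomials with coefficients in the larger field.
-/
import Mathlib.FieldTheory.ChevalleyWarning
import Mathlib.LinearAlgebra.Basis.VectorSpace

set_option autoImplicit false

namespace CfsgLib.Geo.UnitTensor

variable {F : Type*} [Field F] [Finite F] (K : Subfield F) {L : Type} [Fintype L]

theorem exists_descend (P : MvPolynomial L F) :
    ∃ P₀ : MvPolynomial L K, P₀.totalDegree ≤ P.totalDegree ∧ ∀ t : L → K,
      MvPolynomial.eval (fun l => (t l : F)) P ∈ K →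
        MvPolynomial.eval (fun l => (t l : F)) P = ((MvPolynomial.eval t P₀ : K) : F) := by
  classical
  obtain ⟨π, hπ⟩ := (Algebra.linearMap K F).exists_leftInverse_of_injective
    (LinearMap.ker_eq_bot.2 Subtype.val_injective)
  have hπK : ∀ a : K, π (a : F) = a := fun a => by
    have := LinearMap.congr_fun hπ a
    exact this
  refine ⟨∑ d ∈ P.support, MvPolynomial.monomial d (π (P.coeff d)), ?_, fun t ht => ?_⟩
  · refine (MvPolynomial.totalDegree_finset_sum _ _).trans (Finset.sup_le fun d hd => ?_)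
    exact (MvPolynomial.totalDegree_monomial_le _ _).trans (MvPolynomial.le_totalDegree hd)
  · rw [map_sum]
    have h1 : MvPolynomial.eval (fun l => (t l : F)) P =
        ((⟨_, ht⟩ : K) : F) := rfl
    conv_lhs => rw [h1, ← hπK ⟨_, ht⟩]
    congr 1
    show π (MvPolynomial.eval (fun l => (t l : F)) P) = _
    rw [MvPolynomial.eval_eq, map_sum]
    refine Finset.sum_congr rfl fun d _ => ?_
    rw [MvPolynomial.eval_monomial]
    have hsm : P.coeff d * ∏ i ∈ d.support, ((t i : F)) ^ d i =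
        (∏ i ∈ d.support, (t i) ^ d i : K) • P.coeff d := by
      rw [Subfield.smul_def, smul_eq_mul, mul_comm]
      push_cast
      ring
    rw [hsm, map_smul, smul_eq_mul, mul_comm]
    rfl

theorem exists_common_zero {P Q : MvPolynomial L F} {a b : ℕ} (hP : P.totalDegree ≤ a) (hQ : Q.totalDegree ≤ b)
    (hab : a + b < Fintype.card L) (hPK : ∀ t : L → K, MvPolynomial.eval (fun l => (t l : F)) P ∈ K)
    (hQK : ∀ t : L → K, MvPolynomial.eval (fun l => (t l : F)) Q ∈ K)
    (hP0 : MvPolynomial.eval (fun _ => (0 : F)) P = 0) (hQ0 : MvPolynomial.eval (fun _ => (0 : F)) Q = 0) :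
    ∃ t : L → K, t ≠ 0 ∧ MvPolynomial.eval (fun l => (t l : F)) P = 0 ∧
      MvPolynomial.eval (fun l => (t l : F)) Q = 0 := by
  classical
  have : Fintype K := Fintype.ofFinite _
  obtain ⟨P₀, hPd, hPe⟩ := exists_descend K P
  obtain ⟨Q₀, hQd, hQe⟩ := exists_descend K Q
  obtain ⟨p, hp⟩ := CharP.exists K
  have hpr : p.Prime := (CharP.char_is_prime_or_zero K p).resolve_right (CharP.char_ne_zero_of_finite K p)
  have : Fact p.Prime := ⟨hpr⟩
  have hdvd := char_dvd_card_solutions_of_add_lt p (f₁ := P₀) (f₂ := Q₀) (by omega)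
  have hval : ∀ t : L → K, ((MvPolynomial.eval t P₀ = 0 ∧ MvPolynomial.eval t Q₀ = 0) ↔
      (MvPolynomial.eval (fun l => (t l : F)) P = 0 ∧ MvPolynomial.eval (fun l => (t l : F)) Q = 0)) := fun t => by
    rw [hPe t (hPK t), hQe t (hQK t)]
    simp only [ZeroMemClass.coe_eq_zero]
  have hz : MvPolynomial.eval (0 : L → K) P₀ = 0 ∧ MvPolynomial.eval (0 : L → K) Q₀ = 0 := by
    rw [hval]; exact ⟨by simpa using hP0, by simpa using hQ0⟩
  have hpos : 0 < Fintype.card {x : L → K // MvPolynomial.eval x P₀ = 0 ∧ MvPolynomial.eval x Q₀ = 0} :=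
    Fintype.card_pos_iff.2 ⟨⟨0, hz⟩⟩
  have h2 : 1 < Fintype.card {x : L → K // MvPolynomial.eval x P₀ = 0 ∧ MvPolynomial.eval x Q₀ = 0} :=
    lt_of_lt_of_le hpr.one_lt (Nat.le_of_dvd hpos hdvd)
  obtain ⟨⟨t, ht⟩, hne⟩ := Fintype.exists_ne_of_one_lt_card h2 ⟨0, hz⟩
  exact ⟨t, fun e => hne (Subtype.ext e), (hval t).1 ht⟩

end CfsgLib.Geo.UnitTensor
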