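/-
Without a non-scalar root element every element is a Kronecker product: a maximal degenerate pairing and the
Chevalley–Warning theorem.
-/
import Cfsg.Agent.Lib.Geo.UnitTensor.Rank
import Cfsg.Agent.Lib.Geo.UnitTensor.Zero

set_option autoImplicit false
set_option linter.unusedSectionVars false

namespace CfsgLib.Geo.UnitTensor

open Matrix TensorLinear CfsgLib.Classical CfsgLib.Classical.Herm Module
open scoped Kronecker

variable {α β : Type} [Fintype α] [DecidableEq α] [Fintype β] [DecidableEq β] {F : Type*} [Field F] {σ : F →+* F}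
  {g : (β → F) →ₛₗ[σ] (β → F) →ₗ[F] F} {f : (α → F) →ₛₗ[σ] (α → F) →ₗ[F] F}
  {H : (α × β → F) →ₛₗ[σ] (α × β → F) →ₗ[F] F} {X : Subgroup (GL (α × β) F)}

theorem totalDegree_det_le {L : Type} {n : Type} [Fintype n] [DecidableEq n] (M : Matrix n n (MvPolynomial L F))
    {d : ℕ} (h : ∀ i j, (M i j).totalDegree ≤ d) : M.det.totalDegree ≤ Fintype.card n * d := by
  rw [Matrix.det_apply]
  refine (MvPolynomial.totalDegree_finset_sum _ _).trans (Finset.sup_le fun π _ => ?_)
  have h1 : (∏ i, M (π i) i).totalDegree ≤ Fintype.card n * d :=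
    (MvPolynomial.totalDegree_finset_prod _ _).trans
      ((Finset.sum_le_sum fun i _ => h (π i) i).trans (by simp))
  rcases Int.units_eq_one_or (Equiv.Perm.sign π) with e | e
  · rw [e, one_smul]; exact h1
  · rw [e, Units.neg_smul, one_smul, MvPolynomial.totalDegree_neg]; exact h1

theorem finrank_fixed_field [Finite F] (hσ : IsInvol σ) : finrank (fixedSub σ) F = 2 := by
  have h1 := Module.natCard_eq_pow_finrank (K := fixedSub σ) (V := F)
  rw [hσ.card_sq] at h1
  exact (Nat.pow_right_injective (IsInvol.card_ge_two (σ := σ)) h1).symm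

namespace Ctx

variable (K : Ctx f g H X)
include K

theorem img_singular {k : GL (α × β) F} (hk : k ∈ X) {v : β → F} (hv : g v v = 0) {x y : α × β → F}
    (hx : x ∈ img k v) (hy : y ∈ img k v) : H x y = 0 := by
  obtain ⟨_, hp, rfl⟩ := hx
  obtain ⟨_, hq, rfl⟩ := hy
  obtain ⟨a, rfl⟩ := mem_line.1 hp
  obtain ⟨b, rfl⟩ := mem_line.1 hq
  rw [Matrix.mulVecLin_apply, Matrix.mulVecLin_apply, K.iso k hk, K.pt_pt, hv, zero_mul]

/-- A degenerate Gram matrix raises the degenerate pairing. -/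
theorem kr_of_det [Finite F] {k : GL (α × β) F} (hk : k ∈ X) {v : β → F} (hv0 : v ≠ 0) (hv : g v v = 0) {d m : ℕ}
    (hmax : ∀ (k' : GL (α × β) F), k' ∈ X → ¬ Kr k' →
      finrank F (img k' v ⊓ LinearMap.ker (cg α g v).mulVecLin : Submodule F _) ≤ d)
    {P : Submodule F (α × β → F)} (hPd : finrank F P = d) {u : Fin m → α × β → F} (hu : LinearIndependent F u)
    (huW : ∀ i, u i ∈ img k v) (hPW : P ≤ img k v) (hdis : Disjoint P (Submodule.span F (Set.range u)))
    (hWsup : img k v ≤ P ⊔ Submodule.span F (Set.range u))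
    {s : GL (α × β) F} (hs : s ∈ X) {N : Matrix (α × β) (α × β) F}
    (es : (s : Matrix (α × β) (α × β) F) = 1 + N) (hN : ∀ p ∈ P, N *ᵥ p = 0)
    (hdet : (Matrix.of fun i j => H (u i) (N *ᵥ u j)).det = 0) : Kr (k⁻¹ * s * k) := by
  classical
  by_contra hnk
  obtain ⟨c, hc0, hc⟩ := Matrix.exists_vecMul_eq_zero_iff.2 hdet
  set u₀ := ∑ i, σ (c i) • u i with hu₀
  have hu₀W : u₀ ∈ img k v := Submodule.sum_mem _ fun i _ => Submodule.smul_mem _ _ (huW i)
  have hu₀0 : u₀ ≠ 0 := by
    intro e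
    obtain ⟨i, hi⟩ := Function.ne_iff.1 hc0
    exact hi (IsInvol.apply_eq_zero_iff.1 (Fintype.linearIndependent_iff.1 hu (fun i => σ (c i)) e i))
  have hperp : ∀ x ∈ img k v, H u₀ (N *ᵥ x) = 0 := by
    intro x hx
    obtain ⟨p, hp, q, hq, rfl⟩ := Submodule.mem_sup.1 (hWsup hx)
    obtain ⟨e, rfl⟩ := (Submodule.mem_span_range_iff_exists_fun F).1 hq
    rw [Matrix.mulVec_add, hN p hp, zero_add, Matrix.mulVec_sum, map_sum]
    refine Finset.sum_eq_zero fun j _ => ?_
    rw [Matrix.mulVec_smul, smul_right, hu₀, map_sum, LinearMap.sum_apply]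
    have h1 := congrFun hc j
    simp only [Matrix.vecMul, dotProduct, Matrix.of_apply, Pi.zero_apply] at h1
    simp only [smul_left, K.hf.invol.invol, h1, mul_zero]
  set Ks := P ⊔ Submodule.span F {u₀}
  have hKW : Ks ≤ img k v := sup_le hPW (by rw [Submodule.span_le]; simpa using hu₀W)
  have hKperp : ∀ z ∈ Ks, ∀ x ∈ img k v, H z ((s : Matrix (α × β) (α × β) F) *ᵥ x) = 0 := by
    intro z hz x hx
    obtain ⟨p, hp, q, hq, rfl⟩ := Submodule.mem_sup.1 hz
    obtain ⟨e, rfl⟩ := Submodule.mem_span_singleton.1 hq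
    rw [add_left, smul_left]
    have h1 : (s : Matrix (α × β) (α × β) F) *ᵥ p = p := by rw [es, Matrix.add_mulVec, hN p hp, Matrix.one_mulVec, add_zero]
    have h2 : H p ((s : Matrix (α × β) (α × β) F) *ᵥ x) = 0 := by
      conv_lhs => arg 1; rw [← h1]
      rw [K.iso s hs, K.img_singular hk hv (hPW hp) hx]
    have h3 : H u₀ ((s : Matrix (α × β) (α × β) F) *ᵥ x) = 0 := by
      rw [es, Matrix.add_mulVec, Matrix.one_mulVec, map_add, hperp x hx, K.img_singular hk hv hu₀W hx, add_zero]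
    rw [h2, h3, mul_zero, add_zero]
  have hKd : d < finrank F Ks := by
    rw [← hPd]
    refine Submodule.finrank_lt_finrank_of_lt (lt_of_le_of_ne le_sup_left fun e => hu₀0 ?_)
    refine Submodule.disjoint_def.1 hdis u₀ (e ▸ Submodule.mem_sup_right (Submodule.mem_span_singleton_self _))
      (Submodule.sum_mem _ fun i _ => Submodule.smul_mem _ _ (Submodule.subset_span ⟨i, rfl⟩))
  set k₂ := k⁻¹ * s * k
  have hk₂ : k₂ ∈ X := X.mul_mem (X.mul_mem (X.inv_mem hk) hs) hk
  have hle := hmax k₂⁻¹ (X.inv_mem hk₂) (fun e => hnk (by simpa using e.inv))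
  set M := (((s * k)⁻¹ : GL (α × β) F) : Matrix (α × β) (α × β) F)
  have hsub : Ks.map M.mulVecLin ≤ img k₂⁻¹ v ⊓ LinearMap.ker (cg α g v).mulVecLin := by
    rintro _ ⟨z, hz, rfl⟩
    obtain ⟨y, hy, rfl⟩ := hKW hz
    rw [Matrix.mulVecLin_apply] at hz
    refine ⟨⟨y, hy, ?_⟩, ?_⟩
    · simp only [M, Matrix.mulVecLin_apply, Matrix.mulVec_mulVec, k₂, ← Units.val_mul]
      congr 2
      group
    · rw [SetLike.mem_coe, LinearMap.mem_ker, Matrix.mulVecLin_apply]
      refine K.hf.nondeg _ fun a => ?_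
      rw [← K.hf.symm, ← K.tens, Matrix.mulVecLin_apply, ← K.iso_right (X.mul_mem hs hk), Units.val_mul,
        ← Matrix.mulVec_mulVec, ← K.hH.symm]
      have h5 := hKperp _ hz _ ⟨pt a v, mem_line.2 ⟨a, rfl⟩, rfl⟩
      simp only [Matrix.mulVecLin_apply] at h5 ⊢
      rw [h5]
      simp
  have h1 := (Submodule.finrank_mono hsub).trans hle
  rw [← (Submodule.equivMapOfInjective _ (Matrix.mulVec_injective_iff_isUnit.2 ((s * k)⁻¹).isUnit) Ks).finrank_eq] at h1
  omega

/-- A singular vector of a space of the second factor with degenerate Gram matrix. -/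
theorem exists_vector_det [Finite F] {m : ℕ} (hm : 0 < m) (u : Fin m → α × β → F) (Z : Submodule F (β → F))
    (hdeg : 2 * m + 2 < 2 * finrank F Z) :
    ∃ z ∈ Z, z ≠ 0 ∧ g z z = 0 ∧ (Matrix.of fun i j => f (cg α g z *ᵥ u i) (cg α g z *ᵥ u j)).det = 0 := by
  classical
  set K₀ := fixedSub σ
  let b := Module.finBasis K₀ (Z.restrictScalars K₀)
  have hdim : finrank K₀ (Z.restrictScalars K₀) = 2 * finrank F Z := by
    rw [← finrank_fixed_field K.hf.invol]
    exact (Module.finrank_mul_finrank K₀ F Z).symm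
  let e : Fin (finrank K₀ (Z.restrictScalars K₀)) → (β → F) := fun l => ((b l : Z.restrictScalars K₀) : β → F)
  let Gp : Matrix (Fin m) (Fin m) (MvPolynomial (Fin (finrank K₀ (Z.restrictScalars K₀))) F) := Matrix.of fun i j =>
    ∑ l, ∑ l', MvPolynomial.C (f (cg α g (e l) *ᵥ u i) (cg α g (e l') *ᵥ u j)) * MvPolynomial.X l * MvPolynomial.X l'
  let Qp : MvPolynomial (Fin (finrank K₀ (Z.restrictScalars K₀))) F :=
    ∑ l, ∑ l', MvPolynomial.C (g (e l) (e l')) * MvPolynomial.X l * MvPolynomial.X l'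
  have hterm : ∀ (c : F) (l l' : Fin (finrank K₀ (Z.restrictScalars K₀))),
      (MvPolynomial.C c * MvPolynomial.X l * MvPolynomial.X l').totalDegree ≤ 2 := fun c l l' => by
    refine (MvPolynomial.totalDegree_mul _ _).trans ?_
    refine (Nat.add_le_add_right (MvPolynomial.totalDegree_mul _ _) _).trans ?_
    simp
  have hq2 : ∀ (c : Fin (finrank K₀ (Z.restrictScalars K₀)) → Fin (finrank K₀ (Z.restrictScalars K₀)) → F),
      (∑ l, ∑ l', MvPolynomial.C (c l l') * MvPolynomial.X l * MvPolynomial.X l').totalDegree ≤ 2 := fun c =>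
    (MvPolynomial.totalDegree_finset_sum _ _).trans (Finset.sup_le fun l _ =>
      (MvPolynomial.totalDegree_finset_sum _ _).trans (Finset.sup_le fun l' _ => hterm _ _ _))
  let y : (Fin (finrank K₀ (Z.restrictScalars K₀)) → K₀) → (β → F) := fun t => ∑ l, (t l : F) • e l
  have hcg : ∀ (t : Fin (finrank K₀ (Z.restrictScalars K₀)) → K₀) (i : Fin m),
      cg α g (y t) *ᵥ u i = ∑ l, (t l : F) • (cg α g (e l) *ᵥ u i) := fun t i => by
    have key : ∀ s : Finset (Fin (finrank K₀ (Z.restrictScalars K₀))),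
        cg α g (∑ l ∈ s, (t l : F) • e l) *ᵥ u i = ∑ l ∈ s, (t l : F) • (cg α g (e l) *ᵥ u i) := by
      intro s
      induction s using Finset.induction with
      | empty =>
        rw [Finset.sum_empty, Finset.sum_empty, cg, show phi g (0 : β → F) = 0 from by funext j; simp [phi]]
        funext a; simp [con_mulVec]
      | insert a s ha ih =>
        rw [Finset.sum_insert ha, Finset.sum_insert ha, cg_add, Matrix.add_mulVec, ih, cg_smul,
          Matrix.smul_mulVec, show σ (t a : F) = t a from (t a).2]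
    exact key Finset.univ
  have hevalG : ∀ t, MvPolynomial.eval (fun l => (t l : F)) Gp.det =
      (Matrix.of fun i j => f (cg α g (y t) *ᵥ u i) (cg α g (y t) *ᵥ u j)).det := by
    intro t
    rw [RingHom.map_det]
    congr 1
    ext i j
    simp only [RingHom.mapMatrix_apply, Matrix.map_apply, Gp, Matrix.of_apply, map_sum, map_mul,
      MvPolynomial.eval_C, MvPolynomial.eval_X, hcg, LinearMap.sum_apply, smul_left, smul_right]
    rw [Finset.sum_comm]
    refine Finset.sum_congr rfl fun l _ => ?_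
    refine Finset.sum_congr rfl fun l' _ => ?_
    rw [show σ (t l' : F) = t l' from (t l').2]
    ring
  have hevalQ : ∀ t, MvPolynomial.eval (fun l => (t l : F)) Qp = g (y t) (y t) := by
    intro t
    simp only [Qp, map_sum, map_mul, MvPolynomial.eval_C, MvPolynomial.eval_X, y, LinearMap.sum_apply, smul_left,
      smul_right]
    rw [Finset.sum_comm]
    refine Finset.sum_congr rfl fun l _ => ?_
    refine Finset.sum_congr rfl fun l' _ => ?_
    rw [show σ (t l' : F) = t l' from (t l').2]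
    ring
  have hfix : ∀ z : β → F, σ (Matrix.of fun i j => f (cg α g z *ᵥ u i) (cg α g z *ᵥ u j)).det =
      (Matrix.of fun i j => f (cg α g z *ᵥ u i) (cg α g z *ᵥ u j)).det := fun z => by
    rw [RingHom.map_det]
    conv_rhs => rw [← Matrix.det_transpose]
    congr 1
    ext i j
    simp [K.hf.symm]
  obtain ⟨t, ht, hP, hQ⟩ := exists_common_zero K₀ (P := Gp.det) (Q := Qp) (a := 2 * m) (b := 2)
    ((totalDegree_det_le _ fun i j => hq2 _).trans (by rw [Fintype.card_fin, mul_comm])) (hq2 _)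
    (by rw [Fintype.card_fin, hdim]; exact hdeg)
    (fun t => by rw [hevalG, mem_fixedSub]; exact hfix _)
    (fun t => by rw [hevalQ, mem_fixedSub]; exact K.hg.self_fixed _)
    (by
      have h0 := hevalG 0
      simp only [Pi.zero_apply, ZeroMemClass.coe_zero] at h0
      rw [h0]
      refine Matrix.det_eq_zero_of_row_eq_zero ⟨0, hm⟩ fun j => ?_
      rw [Matrix.of_apply, hcg]
      simp)
    (by
      have h0 := hevalQ 0
      simp only [Pi.zero_apply, ZeroMemClass.coe_zero] at h0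
      rw [h0]
      simp [y])
  refine ⟨y t, Submodule.sum_mem _ fun l _ => Z.smul_mem _ (b l).2, fun e0 => ht (funext fun l => ?_),
    by rw [← hevalQ]; exact hQ, by rw [← hevalG]; exact hP⟩
  have h1 : ∑ l, t l • b l = 0 := Subtype.ext (by
    rw [Submodule.coe_sum]
    exact e0)
  exact Fintype.linearIndependent_iff.1 b.linearIndependent t h1 l

/-- A singular vector orthogonal to `v` whose Siegel element has a degenerate Gram matrix. -/
theorem exists_siegel_det [Finite F] {m : ℕ} (hm : 0 < m) (u : Fin m → α × β → F) {v : β → F}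
    (hv0 : v ≠ 0) (hv : g v v = 0) (hdeg : m + 2 < 2 * Fintype.card β - 3) :
    ∃ y : β → F, g v y = 0 ∧ g y y = 0 ∧ y ≠ 0 ∧ (∀ c : F, σ c = c → y ≠ c • v) ∧
      (Matrix.of fun i j => H (u i) ((emb α v * cg α g y - emb α y * cg α g v) *ᵥ u j)).det = 0 := by
  classical
  set K₀ := fixedSub σ
  set Zr := (LinearMap.ker (g v)).restrictScalars K₀
  have hvZ : v ∈ Zr := LinearMap.mem_ker.2 hv
  obtain ⟨Y, hY⟩ := Submodule.exists_isCompl (Submodule.span K₀ {(⟨v, hvZ⟩ : Zr)})
  let b := Module.finBasis K₀ Y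
  have hdim : 2 * Fintype.card β - 3 ≤ finrank K₀ Y := by
    have h1 : finrank K₀ Zr = 2 * finrank F (LinearMap.ker (g v)) := by
      rw [← finrank_fixed_field K.hf.invol]
      exact (Module.finrank_mul_finrank K₀ F (LinearMap.ker (g v))).symm
    have h2 := LinearMap.finrank_range_add_finrank_ker (g v)
    have h3 : finrank F (LinearMap.range (g v)) ≤ 1 := (Submodule.finrank_le _).trans_eq (Module.finrank_self F)
    rw [Module.finrank_fintype_fun_eq_card] at h2
    have h4 := Submodule.finrank_add_eq_of_isCompl hY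
    have h5 : finrank K₀ (Submodule.span K₀ {(⟨v, hvZ⟩ : Zr)}) ≤ 1 := by
      refine (finrank_span_le_card _).trans ?_
      simp
    omega
  let e : Fin (finrank K₀ Y) → (β → F) := fun l => (((b l : Y) : Zr) : β → F)
  obtain ⟨θ, hθ0, hθ⟩ := K.hg.exists_skew
  have hθ' : σ θ = -θ := eq_neg_of_add_eq_zero_right hθ
  have hN : ∀ (y : β → F) i j, H (u i) ((emb α v * cg α g y - emb α y * cg α g v) *ᵥ u j) =
      f (cg α g v *ᵥ u i) (cg α g y *ᵥ u j) - f (cg α g y *ᵥ u i) (cg α g v *ᵥ u j) := fun y i j => by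
    rw [Matrix.sub_mulVec, map_sub, ← Matrix.mulVec_mulVec, ← Matrix.mulVec_mulVec, emb_mulVec, emb_mulVec, K.tens',
      K.tens']
  let coef : Fin m → Fin m → Fin (finrank K₀ Y) → F := fun i j l =>
    θ * (f (cg α g v *ᵥ u i) (cg α g (e l) *ᵥ u j) - f (cg α g (e l) *ᵥ u i) (cg α g v *ᵥ u j))
  let Gp : Matrix (Fin m) (Fin m) (MvPolynomial (Fin (finrank K₀ Y)) F) := Matrix.of fun i j =>
    ∑ l, MvPolynomial.C (coef i j l) * MvPolynomial.X l
  let Qp : MvPolynomial (Fin (finrank K₀ Y)) F :=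
    ∑ l, ∑ l', MvPolynomial.C (g (e l) (e l')) * MvPolynomial.X l * MvPolynomial.X l'
  let y : (Fin (finrank K₀ Y) → K₀) → (β → F) := fun t => ∑ l, (t l : F) • e l
  have hcg : ∀ (t : Fin (finrank K₀ Y) → K₀) (i : Fin m),
      cg α g (y t) *ᵥ u i = ∑ l, (t l : F) • (cg α g (e l) *ᵥ u i) := fun t i => by
    have key : ∀ s : Finset (Fin (finrank K₀ Y)),
        cg α g (∑ l ∈ s, (t l : F) • e l) *ᵥ u i = ∑ l ∈ s, (t l : F) • (cg α g (e l) *ᵥ u i) := by
      intro s
      induction s using Finset.induction with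
      | empty =>
        rw [Finset.sum_empty, Finset.sum_empty, cg, show phi g (0 : β → F) = 0 from by funext j; simp [phi]]
        funext a; simp [con_mulVec]
      | insert a s ha ih =>
        rw [Finset.sum_insert ha, Finset.sum_insert ha, cg_add, Matrix.add_mulVec, ih, cg_smul,
          Matrix.smul_mulVec, show σ (t a : F) = t a from (t a).2]
    exact key Finset.univ
  have hevalG : ∀ t, MvPolynomial.eval (fun l => (t l : F)) Gp.det =
      (θ • Matrix.of fun i j => H (u i) ((emb α v * cg α g (y t) - emb α (y t) * cg α g v) *ᵥ u j)).det := by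
    intro t
    rw [RingHom.map_det]
    congr 1
    ext i j
    simp only [RingHom.mapMatrix_apply, Matrix.map_apply, Gp, coef, Matrix.of_apply, map_sum, map_mul,
      MvPolynomial.eval_C, MvPolynomial.eval_X, Matrix.smul_apply, hN, hcg, LinearMap.sum_apply, smul_left,
      smul_right, smul_eq_mul, ← Finset.sum_sub_distrib, Finset.mul_sum]
    refine Finset.sum_congr rfl fun l _ => ?_
    rw [show σ (t l : F) = t l from (t l).2]
    ring
  have hevalQ : ∀ t, MvPolynomial.eval (fun l => (t l : F)) Qp = g (y t) (y t) := by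
    intro t
    simp only [Qp, map_sum, map_mul, MvPolynomial.eval_C, MvPolynomial.eval_X, y, LinearMap.sum_apply, smul_left,
      smul_right]
    rw [Finset.sum_comm]
    refine Finset.sum_congr rfl fun l _ => ?_
    refine Finset.sum_congr rfl fun l' _ => ?_
    rw [show σ (t l' : F) = t l' from (t l').2]
    ring
  obtain ⟨t, ht, hP, hQ⟩ := exists_common_zero K₀ (P := Gp.det) (Q := Qp) (a := m) (b := 2)
    ((totalDegree_det_le Gp (d := 1) fun i j => by
      simp only [Gp, Matrix.of_apply]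
      refine (MvPolynomial.totalDegree_finset_sum _ _).trans (Finset.sup_le fun l _ => ?_)
      refine (MvPolynomial.totalDegree_mul _ _).trans ?_
      simp).trans (by rw [Fintype.card_fin, mul_one]))
    ((MvPolynomial.totalDegree_finset_sum _ _).trans (Finset.sup_le fun l _ =>
      (MvPolynomial.totalDegree_finset_sum _ _).trans (Finset.sup_le fun l' _ =>
        (MvPolynomial.totalDegree_mul _ _).trans ((Nat.add_le_add_right (MvPolynomial.totalDegree_mul _ _) _).trans
          (by simp)))))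
    (by rw [Fintype.card_fin]; omega)
    (fun t => by
      rw [hevalG, mem_fixedSub, RingHom.map_det]
      conv_rhs => rw [← Matrix.det_transpose]
      congr 1
      ext i j
      simp only [RingHom.mapMatrix_apply, Matrix.map_apply, Matrix.transpose_apply, Matrix.smul_apply,
        Matrix.of_apply, smul_eq_mul, map_mul, map_sub, hN, hθ', K.hf.symm]
      ring)
    (fun t => by rw [hevalQ, mem_fixedSub]; exact K.hg.self_fixed _)
    (by
      have h0 := hevalG 0
      simp only [Pi.zero_apply, ZeroMemClass.coe_zero] at h0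
      rw [h0]
      refine Matrix.det_eq_zero_of_row_eq_zero ⟨0, hm⟩ fun j => ?_
      simp [hN, hcg])
    (by
      have h0 := hevalQ 0
      simp only [Pi.zero_apply, ZeroMemClass.coe_zero] at h0
      rw [h0]
      simp [y])
  have hyY : ((∑ l, t l • b l : Y) : Zr) = ⟨y t, Submodule.sum_mem _ fun l _ =>
      (LinearMap.ker (g v)).smul_mem _ (((b l : Y) : Zr)).2⟩ := Subtype.ext (by
    rw [Submodule.coe_sum, Submodule.coe_sum]
    rfl)
  have hne : ∀ c : F, σ c = c → y t ≠ c • v := by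
    intro c hc e1
    have h1 : ((∑ l, t l • b l : Y) : Zr) ∈ Submodule.span K₀ {(⟨v, hvZ⟩ : Zr)} :=
      Submodule.mem_span_singleton.2 ⟨⟨c, hc⟩, by rw [hyY]; exact Subtype.ext e1.symm⟩
    have h2 := Submodule.disjoint_def.1 hY.disjoint _ h1 (∑ l, t l • b l : Y).2
    exact ht (funext fun l => Fintype.linearIndependent_iff.1 b.linearIndependent t (Subtype.ext h2) l)
  refine ⟨y t, ?_, by rw [← hevalQ]; exact hQ, fun e0 => hne 0 (map_zero _) (by rw [e0, zero_smul]), hne, ?_⟩
  · rw [map_sum]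
    exact Finset.sum_eq_zero fun l _ => by
      rw [smul_right, show g v (e l) = 0 from LinearMap.mem_ker.1 (((b l : Y) : Zr)).2, mul_zero]
  · rw [hevalG, Matrix.det_smul] at hP
    exact (mul_eq_zero.1 hP).resolve_left (pow_ne_zero _ hθ0)

/-- The elements of the unipotent radical of a totally isotropic plane. -/
theorem plane_element [Finite F] (hG : ¬ Good g X) (hb : Fintype.card β = Fintype.card α + 1) {h : GL (α × β) F}
    (hh : h ∈ X) (hlow : ∀ z r : β → F, z ≠ 0 → g z z = 0 → r ≠ 0 → g r r = 0 →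
      finrank F (img h z ⊓ LinearMap.ker (cg α g r).mulVecLin : Submodule F _) ≤ 1)
    {e₁ e₂ : β → F} (h1 : g e₁ e₁ = 0) (h2 : g e₂ e₂ = 0) (h12 : g e₁ e₂ = 0) (hi : LinearIndependent F ![e₁, e₂])
    {a b : F} (ha : a + σ a = 0) (hb' : b + σ b = 0) (c : F) (hne : a ≠ 0 ∨ b ≠ 0 ∨ c ≠ 0) :
    ∃ s ∈ X, ((s : GL (α × β) F) : Matrix (α × β) (α × β) F) = 1 + (a • (emb α e₁ * cg α g e₁) +
        b • (emb α e₂ * cg α g e₂) + (c • (emb α e₁ * cg α g e₂) - σ c • (emb α e₂ * cg α g e₁))) ∧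
      (Kr (h * s * h⁻¹) → Kr h) := by
  classical
  have hσ := K.hg.invol
  have h21 : g e₂ e₁ = 0 := K.hg.eq_zero_symm h12
  have hpair := LinearIndependent.pair_iff.1 hi
  have hsieg : ∀ (w y : β → F) (N : Matrix (α × β) (α × β) F), g w w = 0 → g y y = 0 → g w y = 0 →
      LinearIndependent F ![w, y] → N = emb α w * cg α g y - emb α y * cg α g w →
      ∃ s ∈ X, ((s : GL (α × β) F) : Matrix (α × β) (α × β) F) = 1 + N ∧ (Kr (h * s * h⁻¹) → Kr h) := by
    intro w y N hw hy hwy hind eN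
    obtain ⟨s, hs, es⟩ := K.siegel_mem hw hy hwy
    have hp := LinearIndependent.pair_iff.1 hind
    have hw0 : w ≠ 0 := fun e0 => one_ne_zero (hp 1 0 (by simp [e0])).1
    refine ⟨s, hs, by rw [es, eN], K.kr_of_siegel hG hb hh hw hy hwy hw0 (fun hm => ?_) es
      fun r hr hrr => hlow w r hw0 hw hr hrr⟩
    obtain ⟨k, hk⟩ := Submodule.mem_span_singleton.1 hm
    exact one_ne_zero (neg_eq_zero.1 (hp k (-1) (by rw [hk, neg_one_smul, add_neg_cancel])).2)
  -- the case of a non-zero first diagonal entry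
  have main : ∀ (e₁ e₂ : β → F) (a b c : F), g e₁ e₁ = 0 → g e₂ e₂ = 0 → g e₁ e₂ = 0 →
      LinearIndependent F ![e₁, e₂] → a + σ a = 0 → b + σ b = 0 → a ≠ 0 →
      ∃ s ∈ X, ((s : GL (α × β) F) : Matrix (α × β) (α × β) F) = 1 + (a • (emb α e₁ * cg α g e₁) +
        b • (emb α e₂ * cg α g e₂) + (c • (emb α e₁ * cg α g e₂) - σ c • (emb α e₂ * cg α g e₁))) ∧
      (Kr (h * s * h⁻¹) → Kr h) := by
    intro e₁ e₂ a b c h1 h2 h12 hi ha hb' ha0
    have hσa : σ a = -a := eq_neg_of_add_eq_zero_right ha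
    have hσb : σ b = -b := eq_neg_of_add_eq_zero_right hb'
    have h21 : g e₂ e₁ = 0 := K.hg.eq_zero_symm h12
    have hp := LinearIndependent.pair_iff.1 hi
    set l := -(σ c / a) with hl
    have hσl : σ l = c / a := by rw [hl, map_neg, map_div₀, hσ.invol, hσa, div_neg, neg_neg]
    set u := e₁ + l • e₂ with hu
    set b' := b - a * (l * σ l) with hb'_def
    have hT : a • (emb α e₁ * cg α g e₁) + b • (emb α e₂ * cg α g e₂) +
        (c • (emb α e₁ * cg α g e₂) - σ c • (emb α e₂ * cg α g e₁)) =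
          a • (emb α u * cg α g u) + b' • (emb α e₂ * cg α g e₂) := by
      simp only [hu, emb_add, emb_smul, cg_add, cg_smul, Matrix.add_mul, Matrix.mul_add, Matrix.smul_mul,
        Matrix.mul_smul, hb'_def, hσl]
      match_scalars <;> simp [hl] <;> field_simp <;> ring
    have huu : g u u = 0 := by simp [hu, smul_left, h1, h2, h12, h21]
    have hue : g u e₂ = 0 := by simp [hu, smul_left, h2, h12]
    have heu : g e₂ u = 0 := K.hg.eq_zero_symm hue
    have hu0 : u ≠ 0 := fun e0 => one_ne_zero (hp 1 l (by rw [one_smul]; exact e0)).1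
    by_cases hb0 : b' = 0
    · obtain ⟨s, hs, es⟩ := K.transvection_mem huu ha
      exact ⟨s, hs, by rw [es, hT, hb0, zero_smul, add_zero], K.kr_of_transvection hG hh hu0 huu ha0 es⟩
    obtain ⟨τ, hτ⟩ := hσ.exists_norm_eq (μ := -b' / a) (by
      rw [map_div₀, map_neg, hb'_def, map_sub, map_mul, map_mul, hσ.invol, hσa, hσb, div_neg]
      ring)
    have hτ0 : τ ≠ 0 := fun e0 => hb0 (by
      rw [e0, zero_mul, eq_comm, div_eq_zero_iff, neg_eq_zero] at hτ
      exact hτ.resolve_right ha0)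
    obtain ⟨ρ, hρ⟩ := hσ.exists_ne
    have hρ' : σ ρ - ρ ≠ 0 := sub_ne_zero.2 hρ
    set c₀ := a / (σ ρ - ρ) * ρ with hc₀_def
    have hc₀ : σ c₀ - c₀ = a := by
      have e1 : σ (a / (σ ρ - ρ)) = a / (σ ρ - ρ) := by
        rw [map_div₀, map_sub, hσ.invol, hσa, ← neg_sub (σ ρ) ρ, neg_div_neg_eq]
      rw [hc₀_def, map_mul, e1, ← mul_sub, div_mul_cancel₀ _ hρ']
    set w := u + τ • e₂ with hw_def
    set y := c₀ • u + (σ c₀ * τ) • e₂ with hy_def
    rw [hT]
    refine hsieg w y _ (by simp [hw_def, smul_left, huu, hue, heu, h2]) (by simp [hy_def, smul_left, huu, hue, heu, h2])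
      (by simp [hw_def, hy_def, smul_left, huu, hue, heu, h2]) ?_ ?_
    · refine LinearIndependent.pair_iff.2 fun p q hpq => ?_
      have e1 := hp (p + q * c₀) (p * (l + τ) + q * (c₀ * l + σ c₀ * τ)) (by
        rw [← hpq, hw_def, hy_def, hu]
        module)
      have e2 : q * ((σ c₀ - c₀) * τ) = 0 := by linear_combination e1.2 - (l + τ) * e1.1
      have hq : q = 0 := (mul_eq_zero.1 e2).resolve_right (mul_ne_zero (by rw [hc₀]; exact ha0) hτ0)
      exact ⟨by simpa [hq] using e1.1, hq⟩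
    · have hτ' : a * (τ * σ τ) = -b' := by rw [hτ, mul_div_cancel₀ _ ha0]
      simp only [hw_def, hy_def, emb_add, emb_smul, cg_add, cg_smul, map_mul, hσ.invol, Matrix.add_mul, Matrix.mul_add,
        Matrix.smul_mul, Matrix.mul_smul]
      match_scalars
      · linear_combination -hc₀
      · linear_combination hτ' + τ * σ τ * hc₀
      all_goals ring
  by_cases ha0 : a = 0
  · subst ha0
    by_cases hb0 : b = 0
    · subst hb0
      have hc : c ≠ 0 := by simpa using hne
      refine hsieg e₁ (σ c • e₂) _ h1 (by simp [smul_left, h2]) (by simp [h12]) ?_ ?_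
      · refine LinearIndependent.pair_iff.2 fun p q hpq => ?_
        rw [smul_smul] at hpq
        exact ⟨(hpair _ _ hpq).1, (mul_eq_zero.1 (hpair _ _ hpq).2).resolve_right ((map_ne_zero σ).2 hc)⟩
      · simp only [emb_smul, cg_smul, hσ.invol, Matrix.smul_mul, Matrix.mul_smul]
        match_scalars <;> ring
    · obtain ⟨s, hs, es, hk⟩ := main e₂ e₁ b 0 (-σ c) h2 h1 h21
        (LinearIndependent.pair_iff.2 fun p q hpq => (hpair q p (by rw [← hpq]; abel)).symm) hb' ha hb0
      refine ⟨s, hs, ?_, hk⟩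
      rw [es, map_neg, hσ.invol]
      match_scalars <;> ring
  · exact main e₁ e₂ a b c h1 h2 h12 hi ha hb' ha0

/-- When the pairing is small some element pairs an isotropic line degenerately. -/
theorem exists_pairing [Finite F] (hG : ¬ Good g X) (hb : Fintype.card β = Fintype.card α + 1)
    (h3 : Fintype.card α < 4) {k₀ : GL (α × β) F} (hk₀ : k₀ ∈ X) (hnk : ¬ Kr k₀)
    (hlow : ∀ z r : β → F, z ≠ 0 → g z z = 0 → r ≠ 0 → g r r = 0 →
      finrank F (img k₀ z ⊓ LinearMap.ker (cg α g r).mulVecLin : Submodule F _) ≤ 1)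
    {w : β → F} (hw0 : w ≠ 0) (hw : g w w = 0) :
    ∃ k ∈ X, ¬ Kr k ∧ 0 < finrank F (img k w ⊓ LinearMap.ker (cg α g w).mulVecLin : Submodule F _) := by
  classical
  have hσ := K.hg.invol
  obtain ⟨-, e₂, u₂, -, -, he₂, -, he₂u, hwe, hwu, -⟩ := K.exists_frame hw0 hw
  have hi : LinearIndependent F ![w, e₂] := LinearIndependent.pair_iff.2 fun p q hpq => by
    have hq : q = 0 := by
      by_contra hq
      have e1 : e₂ = (-(p / q)) • w := by
        rw [neg_smul, eq_neg_iff_add_eq_zero, div_eq_inv_mul, mul_smul]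
        have h5 := congrArg (q⁻¹ • ·) hpq
        simp only [smul_add, inv_smul_smul₀ hq, smul_zero] at h5
        rw [add_comm]; exact h5
      have h4 : g e₂ u₂ = σ (-(p / q)) * g w u₂ := by rw [e1, smul_left]
      exact one_ne_zero (α := F) (by rw [← he₂u, h4]; simp [*])
    rw [hq, zero_smul, add_zero] at hpq
    exact ⟨(smul_eq_zero.1 hpq).resolve_right hw0, hq⟩
  obtain ⟨θ, hθ0, hθ⟩ := K.hg.exists_skew
  have hσθ : σ θ = -θ := eq_neg_of_add_eq_zero_right hθ
  obtain ⟨ρ, hρ⟩ := hσ.exists_ne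
  set K₀ := fixedSub σ
  let ev := (Fintype.equivFin α).symm
  let Mi := ((k₀⁻¹ : GL (α × β) F) : Matrix (α × β) (α × β) F)
  let u : α → α × β → F := fun i => Mi *ᵥ pt (Pi.single i 1) w
  let E : (β → F) → (β → F) → α → α → F := fun x y i j => f (cg α g x *ᵥ u i) (cg α g y *ᵥ u j)
  let coef : α → α → Fin 4 → F := fun i j => ![θ * (θ * E w w i j), θ * (θ * E e₂ e₂ i j),
    θ * (E w e₂ i j - E e₂ w i j), θ * (ρ * E w e₂ i j - σ ρ * E e₂ w i j)]
  have hcoef : ∀ i j l, σ (coef j i l) = coef i j l := fun i j l => by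
    fin_cases l <;> simp [coef, E, map_mul, map_sub, K.hf.symm, hσθ, hσ.invol] <;> ring
  let Gp : Matrix α α (MvPolynomial (Fin 4) F) := Matrix.of fun i j =>
    ∑ l, MvPolynomial.C (coef i j l) * MvPolynomial.X l
  let Mt : (Fin 4 → K₀) → Matrix α α F := fun t => Matrix.of fun i j => ∑ l, coef i j l * (t l : F)
  have heval : ∀ t, MvPolynomial.eval (fun l => (t l : F)) Gp.det = (Mt t).det := fun t => by
    rw [RingHom.map_det]
    congr 1
    ext i j
    simp [Gp, Mt, map_sum]
  obtain ⟨t, ht, hP, -⟩ := exists_common_zero K₀ (P := Gp.det) (Q := 0) (a := Fintype.card α) (b := 0)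
    ((totalDegree_det_le Gp (d := 1) fun i j => by
      simp only [Gp, Matrix.of_apply]
      refine (MvPolynomial.totalDegree_finset_sum _ _).trans (Finset.sup_le fun l _ => ?_)
      refine (MvPolynomial.totalDegree_mul _ _).trans ?_
      simp).trans (by rw [mul_one]))
    (by simp) (by rw [Fintype.card_fin]; omega)
    (fun t => by
      rw [heval, mem_fixedSub, RingHom.map_det]
      conv_rhs => rw [← Matrix.det_transpose]
      congr 1
      ext i j
      simp only [RingHom.mapMatrix_apply, Matrix.map_apply, Matrix.transpose_apply, Mt, Matrix.of_apply, map_sum,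
        map_mul]
      exact Finset.sum_congr rfl fun l _ => by rw [hcoef, show σ (t l : F) = t l from (t l).2])
    (fun t => by simp)
    (by
      have h0 := heval 0
      simp only [Pi.zero_apply, ZeroMemClass.coe_zero] at h0
      rw [h0]
      obtain ⟨i⟩ : Nonempty α := Fintype.card_pos_iff.1 (by have := K.two; omega)
      exact Matrix.det_eq_zero_of_row_eq_zero i fun j => by simp [Mt])
    (by simp)
  rw [heval] at hP
  obtain ⟨av, hav0, hav⟩ := Matrix.exists_mulVec_eq_zero_iff.2 hP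
  set a := (t 0 : F) * θ with ha_def
  set b := (t 1 : F) * θ with hb_def
  set c := (t 2 : F) + (t 3 : F) * ρ with hc_def
  have hfix : ∀ l, σ (t l : F) = t l := fun l => (t l).2
  obtain ⟨s, hs, es, hks⟩ := K.plane_element hG hb hk₀ hlow hw he₂ hwe hi (a := a) (b := b)
    (by rw [ha_def, map_mul, hfix, hσθ]; ring) (by rw [hb_def, map_mul, hfix, hσθ]; ring) c (by
      by_contra hc
      push Not at hc
      obtain ⟨e0, e1, e2⟩ := hc
      rw [ha_def, mul_eq_zero] at e0
      rw [hb_def, mul_eq_zero] at e1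
      have e3 : (t 3 : F) = 0 := by
        have e4 := congrArg σ e2
        rw [hc_def, map_add, map_mul, hfix, hfix, map_zero] at e4
        have e5 : (t 3 : F) * (σ ρ - ρ) = 0 := by rw [hc_def] at e2; linear_combination e4 - e2
        exact (mul_eq_zero.1 e5).resolve_right (sub_ne_zero.2 hρ)
      rw [hc_def, e3, zero_mul, add_zero] at e2
      refine ht (funext fun l => Subtype.ext ?_)
      fin_cases l
      exacts [e0.resolve_right hθ0, e1.resolve_right hθ0, e2, e3])
  set k := k₀ * s * k₀⁻¹ with hk_def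
  have hk : k ∈ X := X.mul_mem (X.mul_mem hk₀ hs) (X.inv_mem hk₀)
  refine ⟨k, hk, fun e0 => hnk (hks e0), Nat.pos_of_ne_zero fun h0 => hav0 ?_⟩
  rw [Submodule.finrank_eq_zero] at h0
  have hz : cg α g w *ᵥ ((k : Matrix (α × β) (α × β) F) *ᵥ pt av w) = 0 := by
    refine K.f_ext fun p => ?_
    rw [map_zero, pi_eq_sum_univ' p, map_sum, LinearMap.sum_apply]
    refine Finset.sum_eq_zero fun i _ => ?_
    rw [smul_left]
    refine mul_eq_zero_of_right _ ?_
    rw [← K.tens]
    have hu : Mi *ᵥ pt av w = ∑ j, av j • u j := by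
      simp only [u, ← Matrix.mulVec_smul, ← Matrix.mulVec_sum]
      congr 1
      funext x
      simp [pt, Finset.sum_apply, Pi.single_apply]
    have hkv : (k : Matrix (α × β) (α × β) F) *ᵥ pt av w = pt av w + (k₀ : Matrix (α × β) (α × β) F) *ᵥ
        ((a • (emb α w * cg α g w) + b • (emb α e₂ * cg α g e₂) +
          (c • (emb α w * cg α g e₂) - σ c • (emb α e₂ * cg α g w))) *ᵥ (Mi *ᵥ pt av w)) := by
      rw [hk_def, Units.val_mul, Units.val_mul, ← Matrix.mulVec_mulVec, ← Matrix.mulVec_mulVec, es, Matrix.add_mulVec,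
        Matrix.one_mulVec, Matrix.mulVec_add, Matrix.mulVec_mulVec _ (k₀ : Matrix (α × β) (α × β) F), Units.mul_inv,
        Matrix.one_mulVec]
    rw [hkv, map_add, K.pt_pt, hw, zero_mul, zero_add, ← K.hH.symm, K.iso_right hk₀, K.hH.symm, hu,
      Matrix.mulVec_sum, map_sum]
    have h5 := congrFun hav i
    simp only [Matrix.mulVec, dotProduct, Mt, Matrix.of_apply, Pi.zero_apply] at h5
    refine (mul_eq_zero.1 (?_ : θ * _ = 0)).resolve_left hθ0
    rw [← h5, Finset.mul_sum]
    refine Finset.sum_congr rfl fun j _ => ?_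
    simp only [Fin.sum_univ_four, coef, E, Matrix.cons_val_zero, Matrix.cons_val_one, Matrix.cons_val,
      Matrix.mulVec_smul, smul_right, Matrix.add_mulVec, Matrix.sub_mulVec, Matrix.smul_mulVec, map_add, map_sub,
      ← Matrix.mulVec_mulVec, emb_mulVec, K.tens', ha_def, hb_def, hc_def, map_mul, hfix]
    ring
  have hmem : (k : Matrix (α × β) (α × β) F) *ᵥ pt av w ∈
      img k w ⊓ LinearMap.ker (cg α g w).mulVecLin := ⟨⟨_, mem_line.2 ⟨av, rfl⟩, rfl⟩, hz⟩
  rw [h0, Submodule.mem_bot] at hmem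
  refine emb_mulVec_eq_zero hw0 ?_
  rw [emb_mulVec]
  exact Matrix.mulVec_injective_iff_isUnit.2 k.isUnit (by rw [hmem, Matrix.mulVec_zero])

/-- **Without a non-scalar root element every element is a Kronecker product.** -/
theorem kr_of_not_good [Finite F] (hG : ¬ Good g X) {h : GL (α × β) F} (hh : h ∈ X) : Kr h := by
  classical
  by_contra hnk
  have ha2 := K.two
  have h5 := K.four
  obtain ⟨w₀, hw₀0, hw₀⟩ := K.hg.exists_isotropic (by rw [Module.finrank_fintype_fun_eq_card]; omega)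
  let S : Set ℕ := {j | ∃ (k : GL (α × β) F) (v w : β → F), k ∈ X ∧ ¬ Kr k ∧ v ≠ 0 ∧ g v v = 0 ∧ w ≠ 0 ∧ g w w = 0 ∧
    finrank F (img k v ⊓ LinearMap.ker (cg α g w).mulVecLin : Submodule F _) = j}
  have hbd : ∀ j ∈ S, j ≤ Fintype.card α := by
    rintro j ⟨k, v, w, -, -, hv, -, -, -, rfl⟩
    exact (Submodule.finrank_mono inf_le_left).trans_eq (finrank_img k hv)
  have hne : S.Nonempty := ⟨_, h, w₀, w₀, hh, hnk, hw₀0, hw₀, hw₀0, hw₀, rfl⟩
  obtain ⟨k₀, v, w, hk₀, hnk₀, hv0, hv, hw0, hw, hd⟩ := Nat.sSup_mem hne ⟨_, hbd⟩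
  set d := sSup S
  have hmax : ∀ (k : GL (α × β) F), k ∈ X → ¬ Kr k → ∀ v' w' : β → F, v' ≠ 0 → g v' v' = 0 → w' ≠ 0 → g w' w' = 0 →
      finrank F (img k v' ⊓ LinearMap.ker (cg α g w').mulVecLin : Submodule F _) ≤ d :=
    fun k h1 h2 v' w' h3 h4 h5 h6 => le_csSup ⟨_, hbd⟩ ⟨k, v', w', h1, h2, h3, h4, h5, h6, rfl⟩
  obtain ⟨θ, hθ0, hθ⟩ := K.hg.exists_skew
  -- the pairing is not zero
  have hda : d < Fintype.card α := by
    refine lt_of_le_of_ne (hbd d ⟨k₀, v, w, hk₀, hnk₀, hv0, hv, hw0, hw, hd⟩) fun e => ?_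
    have heq := Submodule.eq_of_le_of_finrank_le (inf_le_left : img k₀ v ⊓ LinearMap.ker (cg α g w).mulVecLin ≤ _)
      (by rw [finrank_img k₀ hv0, hd, e])
    obtain ⟨u, hu, eu⟩ := K.transvection_mem hv hθ
    refine hnk₀ (K.kr_of_transvection hG hk₀ hv0 hv hθ0 eu
      (K.line_kr hG (X.mul_mem (X.mul_mem hk₀ hu) (X.inv_mem hk₀)) (w := w) (w' := w) hw0 hw (A₀ := 1) ?_))
    have hzero : cg α g v * ((k₀⁻¹ : GL (α × β) F) : Matrix (α × β) (α × β) F) * emb α w = 0 :=
      matrix_ext_f K.hf fun a b => by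
        have hmem : (k₀ : Matrix (α × β) (α × β) F) *ᵥ pt a v ∈ img k₀ v := ⟨pt a v, mem_line.2 ⟨a, rfl⟩, rfl⟩
        rw [← heq] at hmem
        have h2 : cg α g w *ᵥ ((k₀ : Matrix (α × β) (α × β) F) *ᵥ pt a v) = 0 := hmem.2
        rw [Matrix.zero_mulVec, map_zero, ← Matrix.mulVec_mulVec, ← Matrix.mulVec_mulVec, emb_mulVec, ← K.tens,
          ← K.iso_right hk₀, K.tens', h2, map_zero, LinearMap.zero_apply]
    rw [Matrix.mul_one, Units.val_mul, Units.val_mul, eu, mul_add, mul_one, add_mul, Units.mul_inv, Matrix.add_mul,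
      Matrix.one_mul]
    rw [show (k₀ : Matrix (α × β) (α × β) F) * θ • (emb α v * cg α g v) *
      ((k₀⁻¹ : GL (α × β) F) : Matrix (α × β) (α × β) F) * emb α w = θ • ((k₀ : Matrix (α × β) (α × β) F) * emb α v *
        (cg α g v * ((k₀⁻¹ : GL (α × β) F) : Matrix (α × β) (α × β) F) * emb α w)) by
      simp only [Matrix.smul_mul, Matrix.mul_smul, Matrix.mul_assoc], hzero, Matrix.mul_zero, smul_zero, add_zero]
  -- translate the pairing into the line of `v`
  obtain ⟨uw, huw, euw⟩ := K.transvection_mem hw hθ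
  set k := k₀⁻¹ * uw * k₀ with hkdef
  have hk : k ∈ X := X.mul_mem (X.mul_mem (X.inv_mem hk₀) huw) hk₀
  have hnk1 : ¬ Kr k := fun e => hnk₀ (by
    have h1 := K.kr_of_transvection hG (X.inv_mem hk₀) hw0 hw hθ0 euw (by rwa [inv_inv])
    simpa using h1.inv)
  set Q₀ := img k₀ v ⊓ LinearMap.ker (cg α g w).mulVecLin
  set Mi := ((k₀⁻¹ : GL (α × β) F) : Matrix (α × β) (α × β) F)
  set P := img k v ⊓ LinearMap.ker (cg α g v).mulVecLin
  have hQP : Q₀.map Mi.mulVecLin ≤ P ∧ Q₀.map Mi.mulVecLin ≤ line α v := by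
    have key : ∀ z ∈ Q₀, Mi *ᵥ z ∈ line α v ∧ (k : Matrix (α × β) (α × β) F) *ᵥ (Mi *ᵥ z) = Mi *ᵥ z := by
      rintro z ⟨⟨y, hy, rfl⟩, hz⟩
      rw [SetLike.mem_coe, LinearMap.mem_ker] at hz
      simp only [Matrix.mulVecLin_apply] at hz ⊢
      have e1 : Mi *ᵥ ((k₀ : Matrix (α × β) (α × β) F) *ᵥ y) = y := by
        rw [Matrix.mulVec_mulVec, Units.inv_mul, Matrix.one_mulVec]
      refine ⟨by rwa [e1], ?_⟩
      rw [e1, hkdef, Units.val_mul, Units.val_mul, ← Matrix.mulVec_mulVec, ← Matrix.mulVec_mulVec, euw,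
        Matrix.add_mulVec, Matrix.one_mulVec, Matrix.smul_mulVec, ← Matrix.mulVec_mulVec, hz, Matrix.mulVec_zero,
        smul_zero, add_zero, e1]
    refine ⟨?_, ?_⟩
    · rintro _ ⟨z, hz, rfl⟩
      refine ⟨⟨Mi *ᵥ z, (key z hz).1, (key z hz).2⟩, ?_⟩
      obtain ⟨a, ha⟩ := mem_line.1 (key z hz).1
      rw [SetLike.mem_coe, LinearMap.mem_ker, Matrix.mulVecLin_apply, Matrix.mulVecLin_apply, ← ha, cg_pt, hv,
        zero_smul]
    · rintro _ ⟨z, hz, rfl⟩
      exact (key z hz).1
  have hQd : finrank F (Q₀.map Mi.mulVecLin) = d := by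
    rw [← (Submodule.equivMapOfInjective _ (Matrix.mulVec_injective_iff_isUnit.2 k₀⁻¹.isUnit) Q₀).finrank_eq, hd]
  have hPeq : Q₀.map Mi.mulVecLin = P :=
    Submodule.eq_of_le_of_finrank_le hQP.1 (by rw [hQd]; exact hmax k hk hnk1 v v hv0 hv hv0 hv)
  have hPd : finrank F P = d := hPeq ▸ hQd
  have hPline : P ≤ line α v := hPeq ▸ hQP.2
  -- a complement of the degenerate part
  obtain ⟨U₀, hU₀⟩ := Submodule.exists_isCompl P
  set U := U₀ ⊓ img k v
  have hsup : P ⊔ U = img k v := by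
    rw [← sup_inf_assoc_of_le U₀ (inf_le_left : P ≤ img k v), hU₀.sup_eq_top, top_inf_eq]
  have hdisU : Disjoint P U := hU₀.disjoint.mono_right inf_le_left
  have hUd : finrank F U = Fintype.card α - d := by
    have h1 := Submodule.finrank_sup_add_finrank_inf_eq P U
    rw [hsup, disjoint_iff.1 hdisU, finrank_bot, finrank_img k hv0, hPd] at h1
    omega
  let bU := Module.finBasis F U
  set u : Fin (finrank F U) → α × β → F := fun i => (bU i : α × β → F)
  have huLI : LinearIndependent F u := bU.linearIndependent.map' U.subtype (Submodule.ker_subtype U)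
  have hspan : Submodule.span F (Set.range u) = U := by
    rw [show Set.range u = U.subtype '' Set.range bU from Set.range_comp _ _, ← Submodule.map_span, bU.span_eq,
      Submodule.map_top, Submodule.range_subtype]
  have hfin : ∀ (s : GL (α × β) F) (N : Matrix (α × β) (α × β) F), s ∈ X →
      (s : Matrix (α × β) (α × β) F) = 1 + N → (∀ p ∈ P, N *ᵥ p = 0) →
      (Matrix.of fun i j => H (u i) (N *ᵥ u j)).det = 0 → Kr (k⁻¹ * s * k) := fun s N hs es hN hdet =>
    K.kr_of_det hk hv0 hv (fun k' h1 h2 => hmax k' h1 h2 v v hv0 hv hv0 hv) hPd huLI (fun i => (bU i).2.2)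
      inf_le_left (by rw [hspan]; exact hdisU) (by rw [hspan, hsup]) hs es hN hdet
  have hcont : ∀ (s : GL (α × β) F), Kr (k⁻¹ * s * k) → (Kr (k⁻¹ * s * (k⁻¹)⁻¹) → Kr k⁻¹) → False :=
    fun s h1 h2 => hnk1 (by simpa using (h2 (by rwa [inv_inv])).inv)
  by_cases hbig : Fintype.card α + 2 ≤ Fintype.card β ∨ 2 ≤ d
  · obtain ⟨Z, hZd, hZP⟩ : ∃ Z : Submodule F (β → F), finrank F U + 1 < finrank F Z ∧
        ∀ z ∈ Z, ∀ p ∈ P, cg α g z *ᵥ p = 0 := by
      by_cases hd0 : d = 0
      · refine ⟨⊤, by rw [finrank_top, Module.finrank_fintype_fun_eq_card]; omega, fun z _ p hp => ?_⟩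
        rw [Submodule.finrank_eq_zero.1 (hPd.trans hd0)] at hp
        rw [(Submodule.mem_bot F).1 hp, Matrix.mulVec_zero]
      · refine ⟨LinearMap.ker (g v), ?_, fun z hz p hp => ?_⟩
        · have h2 := LinearMap.finrank_range_add_finrank_ker (g v)
          have h3 : finrank F (LinearMap.range (g v)) ≤ 1 :=
            (Submodule.finrank_le _).trans_eq (Module.finrank_self F)
          rw [Module.finrank_fintype_fun_eq_card] at h2
          have := K.lt
          omega
        · obtain ⟨a, rfl⟩ := mem_line.1 (hPline hp)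
          rw [cg_pt, K.hg.eq_zero_symm (LinearMap.mem_ker.1 hz), zero_smul]
    obtain ⟨z, hz, hz0, hzz, hdet⟩ := K.exists_vector_det (by omega : 0 < finrank F U) u Z (by omega)
    obtain ⟨s, hs, es⟩ := K.transvection_mem hzz hθ
    refine hcont s (hfin s _ hs es (fun p hp => by
      rw [Matrix.smul_mulVec, ← Matrix.mulVec_mulVec, hZP z hz p hp, Matrix.mulVec_zero, smul_zero]) ?_)
      (K.kr_of_transvection hG (X.inv_mem hk) hz0 hzz hθ0 es)
    rw [show (Matrix.of fun i j => H (u i) ((θ • (emb α z * cg α g z)) *ᵥ u j)) =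
      θ • Matrix.of fun i j => f (cg α g z *ᵥ u i) (cg α g z *ᵥ u j) from by
        ext i j
        simp only [Matrix.of_apply, Matrix.smul_apply, Matrix.smul_mulVec, smul_right, ← Matrix.mulVec_mulVec,
          emb_mulVec, K.tens', smul_eq_mul], Matrix.det_smul, hdet, mul_zero]
  · have hab := K.lt
    have hb : Fintype.card β = Fintype.card α + 1 := by omega
    by_cases hd3 : d = 0 ∧ Fintype.card α < 4
    · obtain ⟨k', hk', hnk', hpos⟩ := K.exists_pairing hG hb hd3.2 hk₀ hnk₀
        (fun z r hz hzz hr hrr => (hmax k₀ hk₀ hnk₀ z r hz hzz hr hrr).trans (by omega)) hv0 hv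
      have := hmax k' hk' hnk' v v hv0 hv hv0 hv
      omega
    obtain ⟨y, hvy, hyy, hy0, hyne, hdet⟩ := K.exists_siegel_det (by omega : 0 < finrank F U) u hv0 hv (by omega)
    obtain ⟨s, hs, es⟩ := K.siegel_mem hv hyy hvy
    refine hcont s (hfin s _ hs es (fun p hp => ?_) hdet) ?_
    · obtain ⟨a, rfl⟩ := mem_line.1 (hPline hp)
      rw [Matrix.sub_mulVec, ← Matrix.mulVec_mulVec, ← Matrix.mulVec_mulVec, cg_pt, cg_pt, hv,
        K.hg.eq_zero_symm hvy, zero_smul, Matrix.mulVec_zero, Matrix.mulVec_zero, sub_zero]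
    · by_cases hind : y ∈ Submodule.span F {v}
      · obtain ⟨c, rfl⟩ := Submodule.mem_span_singleton.1 hind
        refine K.kr_of_transvection hG (X.inv_mem hk) (c := σ c - c) hv0 hv
          (sub_ne_zero.2 fun e => hyne c e rfl) ?_
        rw [es, cg_smul, emb_smul, Matrix.mul_smul, Matrix.smul_mul, ← sub_smul]
      · exact K.kr_of_siegel hG hb (X.inv_mem hk) hv hyy hvy hv0 hind es (fun r hr hrr =>
          (hmax _ (X.inv_mem hk) (fun e => hnk1 (by simpa using e.inv)) v r hv0 hv hr hrr).trans (by omega))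

end Ctx

end CfsgLib.Geo.UnitTensor
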