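/-
The stabiliser of a tensor decomposition of a unitary space is maximal in the special unitary group.
-/
import Cfsg.Agent.Lib.Geo.UnitTensor.Full
import Cfsg.Agent.Lib.Geo.UnitTensor.Search
import Cfsg.Agent.Lib.Geo.TensorForm

set_option autoImplicit false
set_option linter.unusedSectionVars false

namespace CfsgLib.Geo.UnitTensor

open Matrix TensorLinear CfsgLib.Classical CfsgLib.Classical.Herm Module
open scoped Kronecker

variable {α β : Type} [Fintype α] [DecidableEq α] [Fintype β] [DecidableEq β] {F : Type*} [Field F] {σ : F →+* F}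
  {g : (β → F) →ₛₗ[σ] (β → F) →ₗ[F] F} {f : (α → F) →ₛₗ[σ] (α → F) →ₗ[F] F}
  {H : (α × β → F) →ₛₗ[σ] (α × β → F) →ₗ[F] F} {X : Subgroup (GL (α × β) F)}

theorem kron_mulVec_pt (a : Matrix α α F) (b : Matrix β β F) (x : α → F) (v : β → F) :
    (a ⊗ₖ b) *ᵥ pt x v = pt (a *ᵥ x) (b *ᵥ v) := by
  rw [← emb_mulVec, Matrix.mulVec_mulVec, kronecker_mul_emb, ← Matrix.mulVec_mulVec, emb_mulVec]

/-- Linear maps on the product space agree when they agree on pure tensors of basis vectors. -/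
theorem hom_ext_pt {W : Type*} [AddCommGroup W] [Module F W] {L L' : (α × β → F) →ₗ[F] W}
    (h : ∀ (b : α → F) (y : β → F), L (pt b y) = L' (pt b y)) : L = L' := by
  classical
  refine LinearMap.pi_ext' fun p => LinearMap.ext_ring ?_
  show L (Pi.single p 1) = L' (Pi.single p 1)
  rw [show (Pi.single p 1 : α × β → F) = pt (Pi.single p.1 1) (Pi.single p.2 1) from ?_, h]
  funext x
  simp only [pt, Pi.single_apply, Prod.ext_iff]
  split_ifs <;> simp_all

/-- Semilinear forms agree when they agree on pure tensors. -/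
theorem form_ext_pt {L L' : (α × β → F) →ₛₗ[σ] (α × β → F) →ₗ[F] F}
    (h : ∀ a b w y, L (pt a w) (pt b y) = L' (pt a w) (pt b y)) (u v : α × β → F) : L u v = L' u v := by
  classical
  have hp : ∀ a w, L (pt a w) = L' (pt a w) := fun a w => hom_ext_pt fun b y => h a b w y
  have hu : u = ∑ p : α × β, u p • pt (Pi.single p.1 (1 : F)) (Pi.single p.2 (1 : F)) := by
    funext x
    rw [Finset.sum_apply, Finset.sum_eq_single x]
    · simp [pt]
    · intro p _ hp'
      simp only [Pi.smul_apply, pt, Pi.single_apply, smul_eq_mul]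
      rcases not_and_or.1 (fun h' : x.1 = p.1 ∧ x.2 = p.2 => hp' (Prod.ext h'.1.symm h'.2.symm)) with h1 | h1 <;>
        simp [h1]
    · simp
  rw [hu, map_sum, map_sum, LinearMap.sum_apply, LinearMap.sum_apply]
  exact Finset.sum_congr rfl fun p _ => by
    rw [LinearMap.map_smulₛₗ, LinearMap.map_smulₛₗ, hp]

/-- Two linearly independent vectors with a nonzero product. -/
theorem exists_indep (hf : IsHerm f) (h2 : 2 ≤ Fintype.card α) :
    ∃ a b : α → F, a ≠ 0 ∧ (∀ c : F, b ≠ c • a) ∧ f a b ≠ 0 := by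
  classical
  obtain ⟨i, j, hij⟩ := Fintype.exists_pair_of_one_lt_card (α := α) (by omega)
  set a : α → F := Pi.single i 1
  have ha : a ≠ 0 := fun h => one_ne_zero (α := F) (by simpa [a] using congrFun h i)
  set b : α → F := Pi.single j 1
  have hb : ∀ c : F, b ≠ c • a := fun c h => one_ne_zero (α := F) (by
    simpa [a, b, hij.symm] using congrFun h j)
  by_cases hab : f a b = 0
  · obtain ⟨b', hb'⟩ : ∃ b', f a b' ≠ 0 := by
      by_contra! hc
      exact ha (hf.nondeg a hc)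
    by_cases hp : ∀ c : F, b' ≠ c • a
    · exact ⟨a, b', ha, hp, hb'⟩
    push Not at hp
    obtain ⟨s, hs⟩ := hp
    exact ⟨a, b + b', ha, fun c h => hb (c - s) (by rw [sub_smul, ← h, hs, add_sub_cancel_right]),
      by rwa [map_add, hab, zero_add]⟩
  · exact ⟨a, b, ha, hb, hab⟩

/-- A special isometry which is not a Kronecker product. -/
theorem exists_not_kr [Finite F] (hf : IsHerm f) (hg : IsHerm g) (hH : IsHerm H)
    (tens : ∀ a w z, H (pt a w) z = f a (cg α g w *ᵥ z)) (h2 : 2 ≤ Fintype.card α) (h3 : 3 ≤ Fintype.card β) :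
    ∃ x : GL (α × β) F, (∀ y z, H ((x : Matrix (α × β) (α × β) F) *ᵥ y) ((x : Matrix (α × β) (α × β) F) *ᵥ z) =
      H y z) ∧ (x : Matrix (α × β) (α × β) F).det = 1 ∧ ¬ Kr x := by
  classical
  obtain ⟨a, b, ha, hb, hab⟩ := exists_indep hf h2
  obtain ⟨w, hw0, hw⟩ := hg.exists_isotropic (by rw [Module.finrank_fintype_fun_eq_card]; omega)
  obtain ⟨z, hz1, hz⟩ := hg.exists_isotropic_partner hw0 hw
  have hzw : g z w = 1 := by rw [← hg.symm, hz1, map_one]
  obtain ⟨c, hc0, hc⟩ := hg.exists_skew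
  set v : α × β → F := pt a w
  have hv : H v v = 0 := by rw [tens, cg_pt, hw, zero_smul, map_zero]
  set N := c • Matrix.vecMulVec v (phi H v)
  have hN : ∀ u, N *ᵥ u = (c * H v u) • v := fun u => by
    simp only [N, Matrix.smul_mulVec, Matrix.vecMulVec_mulVec, phi_dot, op_smul_eq_smul, smul_smul]
  have hNN : N * N = 0 := by
    refine Matrix.toLin'.injective (LinearMap.ext fun u => ?_)
    rw [Matrix.toLin'_apply, ← Matrix.mulVec_mulVec, hN, hN]
    simp [hv]
  have hd : (1 + N).det = 1 := det_one_add_sqzero hNN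
  refine ⟨Matrix.GeneralLinearGroup.mkOfDetNeZero (1 + N) (by rw [hd]; exact one_ne_zero), fun y y' => ?_, hd, ?_⟩
  · show H ((1 + N) *ᵥ y) ((1 + N) *ᵥ y') = _
    simp only [Matrix.add_mulVec, Matrix.one_mulVec, hN]
    simp only [map_add, LinearMap.add_apply, smul_eq_mul, Herm.smul_left, Herm.smul_right, hv, map_mul, hH.symm]
    linear_combination (H y v * H v y') * hc
  · rintro ⟨A, B, e⟩
    have e1 : pt b z + (c * f a b) • v =
        pt ((A : Matrix α α F) *ᵥ b) ((B : Matrix β β F) *ᵥ z) := by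
      rw [← kron_mulVec_pt, ← e]
      show _ = (1 + N) *ᵥ pt b z
      rw [Matrix.add_mulVec, Matrix.one_mulVec, hN, tens, cg_pt, hz1, one_smul]
    have h1 := congrArg (cg α g w *ᵥ ·) e1
    have h2' := congrArg (cg α g z *ᵥ ·) e1
    simp only [v, Matrix.mulVec_add, Matrix.mulVec_smul, cg_pt, hz1, hw, hz, hzw, one_smul, zero_smul, smul_zero,
      add_zero, zero_add] at h1 h2'
    set A' := (A : Matrix α α F) *ᵥ b
    set t := g z ((B : Matrix β β F) *ᵥ z)
    have hk : c * f a b ≠ 0 := mul_ne_zero hc0 hab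
    have ht : t ≠ 0 := fun h0 => ha ((smul_eq_zero.1 (h2'.trans (by rw [h0, zero_smul]))).resolve_left hk)
    refine hb (g w ((B : Matrix β β F) *ᵥ z) * t⁻¹ * (c * f a b)) ?_
    rw [mul_smul, h2', mul_smul, smul_smul t⁻¹, inv_mul_cancel₀ ht, one_smul]
    exact h1

section Matrix

variable [Fintype F]

open Cfsg.Geo in
theorem maximal_of_five {n q n₁ n₂ : ℕ} (hF : Fintype.card F = q ^ 2) (hn : 4 ≤ n₂) (h1 : 2 ≤ n₁) (h12 : n₁ < n₂)
    (hex : ¬ (n₁ = 2 ∧ q = 2)) (e : Fin n ≃ Fin n₁ × Fin n₂) (P : Matrix.GeneralLinearGroup (Fin n) F)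
    (f₁ : (Fin n₁ → F) → (Fin n₁ → F) → F) (f₂ : (Fin n₂ → F) → (Fin n₂ → F) → F)
    (hf₁ : IsUnitaryFormPow q f₁) (hf₂ : IsUnitaryFormPow q f₂)
    (hT : IsTensorFormStructure (fun x : F => x ^ q) (Cfsg.hermForm n F q) f₁ f₂ e P) :
    IsMaximalIn (Cfsg.GU n F q ⊓ specialLinear (Fin n) F)
      (tensorProductSubgroup n₁ n₂ e P ⊓ (Cfsg.GU n F q ⊓ specialLinear (Fin n) F)) := by
  classical
  have hcard : n = n₁ * n₂ := by simpa using Fintype.card_congr e
  set σ' := powHom hF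
  have hinv : IsInvol σ' := powHom_isInvol hF
  have hsy₁ : ∀ v w, f₁ v w = σ' (f₁ w v) := hf₁.herm
  have hsy₂ : ∀ v w, f₂ v w = σ' (f₂ w v) := hf₂.herm
  let f : (Fin n₁ → F) →ₛₗ[σ'] (Fin n₁ → F) →ₗ[F] F := LinearMap.mk₂'ₛₗ σ' (RingHom.id F) (fun u x => f₁ x u)
    (fun u u' x => by rw [hsy₁, hf₁.add_left, map_add, ← hsy₁, ← hsy₁])
    (fun s u x => by rw [hsy₁, hf₁.smul_left, map_mul, ← hsy₁, smul_eq_mul])
    (fun u x x' => hf₁.add_left x x' u)
    (fun s u x => by rw [hf₁.smul_left, RingHom.id_apply, smul_eq_mul])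
  let g : (Fin n₂ → F) →ₛₗ[σ'] (Fin n₂ → F) →ₗ[F] F := LinearMap.mk₂'ₛₗ σ' (RingHom.id F) (fun u x => f₂ x u)
    (fun u u' x => by rw [hsy₂, hf₂.add_left, map_add, ← hsy₂, ← hsy₂])
    (fun s u x => by rw [hsy₂, hf₂.smul_left, map_mul, ← hsy₂, smul_eq_mul])
    (fun u x x' => hf₂.add_left x x' u)
    (fun s u x => by rw [hf₂.smul_left, RingHom.id_apply, smul_eq_mul])
  have hf : IsHerm f := ⟨hinv, fun x y => (hsy₁ x y).symm, fun u hu => of_not_not fun hu0 =>
    (hf₁.nondegenerate u hu0).1.elim fun y hy => hy (hu y)⟩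
  have hg : IsHerm g := ⟨hinv, fun x y => (hsy₂ x y).symm, fun u hu => of_not_not fun hu0 =>
    (hf₂.nondegenerate u hu0).1.elim fun y hy => hy (hu y)⟩
  set G := gramMatrix f₁ ⊗ₖ gramMatrix f₂
  have hG : ∀ a b, σ' (G a b) = G b a := fun a b => by
    simp only [G, Matrix.kroneckerMap_apply, map_mul, gramMatrix]
    rw [← hsy₁, ← hsy₂]
  let H : (Fin n₁ × Fin n₂ → F) →ₛₗ[σ'] (Fin n₁ × Fin n₂ → F) →ₗ[F] F :=
    LinearMap.mk₂'ₛₗ σ' (RingHom.id F) (fun u x => formOfGram σ' G x u)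
      (fun u u' x => by simp only [formOfGram, Pi.add_apply, map_add, mul_add, Finset.sum_add_distrib])
      (fun s u x => by
        simp only [formOfGram, Pi.smul_apply, smul_eq_mul, map_mul, Finset.mul_sum]
        exact Finset.sum_congr rfl fun a _ => Finset.sum_congr rfl fun b _ => by ring)
      (fun u x x' => by simp only [formOfGram, Pi.add_apply, add_mul, Finset.sum_add_distrib])
      (fun s u x => by
        simp only [formOfGram, Pi.smul_apply, smul_eq_mul, RingHom.id_apply, Finset.mul_sum]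
        exact Finset.sum_congr rfl fun a _ => Finset.sum_congr rfl fun b _ => by ring)
  obtain ⟨c, hc0, hc⟩ := hT
  have hcH : ∀ u x, Cfsg.hermForm n F q ((P : Matrix (Fin n) (Fin n) F) *ᵥ (x ∘ e))
      ((P : Matrix (Fin n) (Fin n) F) *ᵥ (u ∘ e)) = c * H u x := fun u x => hc x u
  have hsurj : ∀ y : Fin n → F, ∃ x : Fin n₁ × Fin n₂ → F, (P : Matrix (Fin n) (Fin n) F) *ᵥ (x ∘ e) = y :=
    fun y => ⟨(((P⁻¹ : GL (Fin n) F) : Matrix (Fin n) (Fin n) F) *ᵥ y) ∘ e.symm, by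
      rw [Function.comp_assoc, Equiv.symm_comp_self, Function.comp_id, Matrix.mulVec_mulVec, Units.mul_inv,
        Matrix.one_mulVec]⟩
  have hH : IsHerm H := ⟨hinv, fun u x => by
      show σ' (formOfGram σ' G x u) = formOfGram σ' G u x
      simp only [formOfGram, map_sum, map_mul, hinv.invol, hG]
      rw [Finset.sum_comm]
      exact Finset.sum_congr rfl fun a _ => Finset.sum_congr rfl fun b _ => by ring,
    fun u hu => by
      have hz : (P : Matrix (Fin n) (Fin n) F) *ᵥ (u ∘ e) = 0 := (hermStd_isHerm hF).nondeg _ fun y => by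
        obtain ⟨x, rfl⟩ := hsurj y
        rw [hermStd_apply, hcH, hu x, mul_zero]
      have h0 := Matrix.mulVec_injective_iff_isUnit.2 P.isUnit (hz.trans (Matrix.mulVec_zero _).symm)
      funext p
      simpa using congrFun h0 (e.symm p)⟩
  have hr₁ : ∀ v x y, f₁ v (x + y) = f₁ v x + f₁ v y := fun v x y => by
    rw [hsy₁, hf₁.add_left, map_add, ← hsy₁, ← hsy₁]
  have hr₂ : ∀ v x y, f₂ v (x + y) = f₂ v x + f₂ v y := fun v x y => by
    rw [hsy₂, hf₂.add_left, map_add, ← hsy₂, ← hsy₂]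
  have hs₁ : ∀ (s : F) v x, f₁ v (s • x) = σ' s * f₁ v x := fun s v x => by
    rw [hsy₁, hf₁.smul_left, map_mul, ← hsy₁]
  have hs₂ : ∀ (s : F) v x, f₂ v (s • x) = σ' s * f₂ v x := fun s v x => by
    rw [hsy₂, hf₂.smul_left, map_mul, ← hsy₂]
  have hpt : ∀ a b w y, H (pt a w) (pt b y) = g w y * f a b := fun a b w y => by
    show formOfGram σ' G (pt b y) (pt a w) = f₂ y w * f₁ b a
    rw [show formOfGram σ' G (pt b y) (pt a w) = _ from
      formOfGram_kronecker σ' (map_mul σ') _ _ b a y w,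
      formOfGram_gram σ' f₁ hf₁.add_left hf₁.smul_left hr₁ hs₁,
      formOfGram_gram σ' f₂ hf₂.add_left hf₂.smul_left hr₂ hs₂, mul_comm]
  have htens : ∀ a w z, H (pt a w) z = f a (cg (Fin n₁) g w *ᵥ z) := fun a w z => by
    exact LinearMap.congr_fun (hom_ext_pt (L := H (pt a w))
      (L' := (f a).comp (Matrix.toLin' (cg (Fin n₁) g w))) fun b y => by
      rw [hpt, LinearMap.comp_apply, Matrix.toLin'_apply, cg_pt, map_smul, smul_eq_mul]) z
  let Ψ : GL (Fin n₁ × Fin n₂) F ≃* GL (Fin n) F := (glReindex e.symm).trans (MulAut.conj P)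
  have hK : tensorProductSubgroup n₁ n₂ e P = (kroneckerSubgroup n₁ n₂ F).map Ψ.toMonoidHom := by
    rw [tensorProductSubgroup, Subgroup.map_map]
    rfl
  have hdet : ∀ x : GL (Fin n₁ × Fin n₂) F, Ψ x ∈ specialLinear (Fin n) F ↔
      (x : Matrix (Fin n₁ × Fin n₂) (Fin n₁ × Fin n₂) F).det = 1 := by
    intro x
    have hr : Matrix.GeneralLinearGroup.det (glReindex e.symm x) = Matrix.GeneralLinearGroup.det x := by
      refine Units.ext ?_
      show ((Matrix.reindexAlgEquiv F F e.symm) (x : Matrix (Fin n₁ × Fin n₂) (Fin n₁ × Fin n₂) F)).det = _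
      rw [Matrix.det_reindexAlgEquiv]
      rfl
    show MulAut.conj P (glReindex e.symm x) ∈ _ ↔ _
    rw [specialLinear, MonoidHom.mem_ker, MulAut.conj_apply, map_mul, map_mul, hr, map_inv,
      mul_inv_cancel_comm, Units.ext_iff]
    rfl
  have hmemK : ∀ x, Ψ x ∈ tensorProductSubgroup n₁ n₂ e P ↔ Kr x := by
    intro x
    rw [hK]
    constructor
    · rintro ⟨y, hy, e'⟩
      rw [← Ψ.injective e']
      exact hy
    · exact fun hx => ⟨x, hx, rfl⟩
  have hact : ∀ (x : GL (Fin n₁ × Fin n₂) F) (y : Fin n₁ × Fin n₂ → F),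
      ((Ψ x : GL (Fin n) F) : Matrix (Fin n) (Fin n) F) *ᵥ ((P : Matrix (Fin n) (Fin n) F) *ᵥ (y ∘ e)) =
        (P : Matrix (Fin n) (Fin n) F) *ᵥ (((x : Matrix (Fin n₁ × Fin n₂) (Fin n₁ × Fin n₂) F) *ᵥ y) ∘ e) := by
    intro x y
    show ((P * glReindex e.symm x * P⁻¹ : GL (Fin n) F) : Matrix (Fin n) (Fin n) F) *ᵥ _ = _
    rw [Units.val_mul, Units.val_mul, Matrix.mulVec_mulVec, Matrix.mul_assoc, Units.inv_mul, Matrix.mul_one,
      ← Matrix.mulVec_mulVec]
    congr 1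
    show (Matrix.reindex e.symm e.symm) (x : Matrix (Fin n₁ × Fin n₂) (Fin n₁ × Fin n₂) F) *ᵥ (y ∘ e) = _
    rw [Matrix.reindex_apply, Equiv.symm_symm, Matrix.submatrix_mulVec_equiv, Function.comp_assoc,
      Equiv.self_comp_symm, Function.comp_id]
  have hGU : ∀ x : GL (Fin n₁ × Fin n₂) F, Ψ x ∈ Cfsg.GU n F q ↔
      ∀ y z, H ((x : Matrix _ _ F) *ᵥ y) ((x : Matrix _ _ F) *ᵥ z) = H y z := by
    intro x
    refine ⟨fun hx y z => mul_left_cancel₀ hc0 ?_, fun hx u v => ?_⟩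
    · rw [← hcH, ← hcH, ← hact, ← hact]
      exact hx _ _
    · obtain ⟨z, rfl⟩ := hsurj u
      obtain ⟨y, rfl⟩ := hsurj v
      show Cfsg.hermForm n F q (((Ψ x : GL (Fin n) F) : Matrix (Fin n) (Fin n) F) *ᵥ _)
        (((Ψ x : GL (Fin n) F) : Matrix (Fin n) (Fin n) F) *ᵥ _) = _
      rw [hact, hact, hcH, hcH, hx]
  refine ⟨lt_of_le_of_ne inf_le_right fun heq => ?_, fun M hHM hMK => ?_⟩
  · obtain ⟨x, hx, hxd, hxk⟩ := exists_not_kr hf hg hH htens (by rw [Fintype.card_fin]; exact h1)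
      (by rw [Fintype.card_fin]; omega)
    exact hxk ((hmemK x).1 (heq.ge ⟨(hGU x).2 hx, (hdet x).2 hxd⟩).1)
  have K : Ctx f g H (M.comap Ψ.toMonoidHom) :=
    { hf := hf
      hg := hg
      hH := hH
      tens := htens
      iso := fun x hx => (hGU x).1 (hMK hx).1
      base := fun a b ha hb hda hdb => by
        let y : GL (Fin n₁ × Fin n₂) F := Matrix.GeneralLinearGroup.mkOfDetNeZero (a ⊗ₖ b) (by
          rw [Matrix.det_kronecker, hda, hdb, one_pow, one_pow, mul_one]; exact one_ne_zero)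
        refine ⟨y, Subgroup.mem_comap.2 (hHM ⟨(hmemK y).2 ⟨Matrix.GeneralLinearGroup.mkOfDetNeZero a
          (by rw [hda]; exact one_ne_zero), Matrix.GeneralLinearGroup.mkOfDetNeZero b
          (by rw [hdb]; exact one_ne_zero), rfl⟩, (hGU y).2 fun u v => ?_, (hdet y).2 ?_⟩), rfl⟩
        · show H ((a ⊗ₖ b) *ᵥ u) ((a ⊗ₖ b) *ᵥ v) = H u v
          exact form_ext_pt (L := (H.comp (Matrix.toLin' (a ⊗ₖ b))).compl₂ (Matrix.toLin' (a ⊗ₖ b))) (L' := H)
            (fun a' b' w y => by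
              simp only [LinearMap.compl₂_apply, LinearMap.comp_apply, Matrix.toLin'_apply, kron_mulVec_pt,
                hpt, ha, hb]) u v
        · show (a ⊗ₖ b).det = 1
          rw [Matrix.det_kronecker, hda, hdb, one_pow, one_pow, mul_one]
      two := by rw [Fintype.card_fin]; exact h1
      lt := by rw [Fintype.card_fin, Fintype.card_fin]; exact h12
      big := by rw [Fintype.card_fin]; exact hn }
  by_cases hgood : Good g (M.comap Ψ.toMonoidHom)
  · refine Or.inr (le_antisymm hMK fun x hx => ?_)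
    obtain ⟨x, rfl⟩ := Ψ.surjective x
    exact K.special_le (fun h2 => by
      rw [card_fixed_powHom] at h2
      rw [Fintype.card_fin]; omega) hgood ((hGU x).1 hx.1) ((hdet x).1 hx.2)
  · refine Or.inl (le_antisymm (le_inf (fun x hx => ?_) hMK) hHM)
    obtain ⟨x, rfl⟩ := Ψ.surjective x
    exact (hmemK x).2 (K.kr_of_not_good hgood hx)

open Cfsg.Geo in
theorem maximal {n q n₁ n₂ : ℕ} (hF : Fintype.card F = q ^ 2) (hn : 13 ≤ n) (h1 : 2 ≤ n₁) (h12 : n₁ < n₂)
    (hex : ¬ (n₁ = 2 ∧ q = 2)) (e : Fin n ≃ Fin n₁ × Fin n₂) (P : Matrix.GeneralLinearGroup (Fin n) F)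
    (f₁ : (Fin n₁ → F) → (Fin n₁ → F) → F) (f₂ : (Fin n₂ → F) → (Fin n₂ → F) → F)
    (hf₁ : IsUnitaryFormPow q f₁) (hf₂ : IsUnitaryFormPow q f₂)
    (hT : IsTensorFormStructure (fun x : F => x ^ q) (Cfsg.hermForm n F q) f₁ f₂ e P) :
    IsMaximalIn (Cfsg.GU n F q ⊓ specialLinear (Fin n) F)
      (tensorProductSubgroup n₁ n₂ e P ⊓ (Cfsg.GU n F q ⊓ specialLinear (Fin n) F)) :=
  maximal_of_five hF (by
    have hcard : n = n₁ * n₂ := by simpa using Fintype.card_congr e
    by_contra h5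
    have h : n₁ * n₂ ≤ 3 * 4 := Nat.mul_le_mul (by omega) (by omega)
    omega) h1 h12 hex e P f₁ f₂ hf₁ hf₂ hT

end Matrix

end CfsgLib.Geo.UnitTensor
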